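import Groth.Agent.H9Misc.DerCompRestr
import Mathlib.CategoryTheory.Adjunction.FullyFaithful

/-!
# Modules killed by an ideal sheaf along a map of rings inducing an isomorphism of quotients
-/

set_option backward.isDefEq.respectTransparency false

universe u

open CategoryTheory CategoryTheory.Limits Opposite
open Groth.Agent.ModTensor Groth.Agent.H9Misc.DerCompRestr

namespace Groth.Agent.DerCompEquiv

variable {C : Type u} [SmallCategory C] {J : GrothendieckTopology C} {O O' : Sheaf J CommRingCat.{u}}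

/-- A module killed by a sheaf of ideals. -/
def Killed (I : DerComp.IdealSh O) (M : ModSite.Mod O) : Prop :=
  ∀ (U : C) (f : O.obj.obj (op U)), f ∈ I.ideal U → ∀ x : ((fg O).obj M).obj (op U), f • x = 0

/-- The annihilator of a restriction-stable family of sections, as a sheaf of ideals. -/
def annSh (M : ModSite.Mod O) (Q : ∀ U : C, Set (((fg O).obj M).obj (op U)))
    (hQ : ∀ ⦃U V : C⦄ (g : V ⟶ U), ∀ x ∈ Q U, rs ((fg O).obj M) g.op x ∈ Q V) : DerComp.IdealSh O where
  ideal U :=
    { carrier := {f | ∀ ⦃V : C⦄ (g : V ⟶ U), ∀ x ∈ Q V, (O.obj.map g.op).hom f • x = 0}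
      add_mem' := fun {a b} ha hb V g x hx => by rw [map_add, add_smul, ha g x hx, hb g x hx, add_zero]
      zero_mem' := fun V g x _ => by rw [map_zero, zero_smul]
      smul_mem' := fun c a ha V g x hx => by rw [smul_eq_mul, map_mul, mul_smul, ha g x hx, smul_zero] }
  map_mem {U V} g f hf W h x hx := by
    have e := hf (h ≫ g) x hx
    rw [op_comp, Functor.map_comp] at e
    exact e
  glue {U f} S hS hf V g x hx := by
    refine eq_of_locally (J := J) (H := (fg O).obj M) M.isSheaf (U := V) (J.pullback_stable g hS) fun W h hh => ?_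
    refine (rs_smul (P := (fg O).obj M) h.op _ x).trans (Eq.trans ?_ (map_zero _).symm)
    have e := hf (h ≫ g) hh (𝟙 W) (rs _ h.op x) (hQ h x hx)
    rw [op_id, CategoryTheory.Functor.map_id, op_comp, Functor.map_comp] at e
    exact e

lemma mem_annSh {M : ModSite.Mod O} {Q : ∀ U : C, Set (((fg O).obj M).obj (op U))}
    {hQ : ∀ ⦃U V : C⦄ (g : V ⟶ U), ∀ x ∈ Q U, rs ((fg O).obj M) g.op x ∈ Q V} {U : C}
    {f : O.obj.obj (op U)} (h : f ∈ (annSh M Q hQ).ideal U) {x : ((fg O).obj M).obj (op U)} (hx : x ∈ Q U) :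
    f • x = 0 := by
  have e := h (𝟙 U) x hx
  rw [op_id, CategoryTheory.Functor.map_id] at e
  exact e

/-- A module killed by generators is killed by the ideal. -/
theorem killed_of_isGenBy {I : DerComp.IdealSh O} {ι : Type u} {s : ι → DerComp.GSec O} (hI : I.IsGenBy s)
    (M : ModSite.Mod O) (h : ∀ i, DerComp.smulEnd (s i) M = 0) : Killed I M := by
  intro U f hf x
  refine mem_annSh (hI.2 (annSh M (fun _ => Set.univ) fun _ _ _ _ _ => trivial) (fun i V W g y _ => ?_) U hf) trivial
  rw [DerComp.GSec.compat]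
  exact congrArg (fun e : M ⟶ M => (e.val.app (op W)).hom y) (h i)

variable (φ : O ⟶ O') {I : DerComp.IdealSh O} {I' : DerComp.IdealSh O'}

/-- The linear structure is determined on killed modules. -/
theorem map_smul_of_killed (hI' : DerComp.IsIdealExt φ I I')
    (hsurj : ∀ (U : C) (f' : O'.obj.obj (op U)), ∃ S ∈ J U, ∀ ⦃V : C⦄ (g : V ⟶ U), S g →
      ∃ a : O.obj.obj (op V), (O'.obj.map g.op).hom f' - (φ.hom.app (op V)).hom a ∈ I'.ideal V)
    {M' N : ModSite.Mod O'} (hM : Killed I' M') (g : (res φ).obj M' ⟶ (res φ).obj N) (U : C)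
    (r : O'.obj.obj (op U)) (m : ((fg O').obj M').obj (op U)) :
    (g.val.app (op U)).hom (show ((fg O).obj ((res φ).obj M')).obj (op U) from r • m) =
      r • (show ((fg O').obj N).obj (op U) from (g.val.app (op U)).hom m) := by
  let G : ∀ V : C, ((fg O').obj M').obj (op V) →+ ((fg O').obj N).obj (op V) := fun V =>
    (g.val.app (op V)).hom.toAddMonoidHom
  have hG : ∀ (V : C) (a : O.obj.obj (op V)) (y), G V ((φ.hom.app (op V)).hom a • y) = (φ.hom.app (op V)).hom a • G V y :=
    fun V a y => (g.val.app (op V)).hom.map_smul' a y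
  have hr : ∀ ⦃V W : C⦄ (k : W ⟶ V) (y), G W (rs ((fg O').obj M') k.op y) = rs ((fg O').obj N) k.op (G V y) :=
    fun V W k y => app_rs (R := O.obj) ((fg O).map g) k.op y
  let A := annSh N (fun V => Set.range (G V)) (fun V W k x ⟨y, hy⟩ => ⟨rs _ k.op y, by rw [hr, hy]⟩)
  have hA : I' ≤ A := hI'.2 A fun V b hb W k x ⟨y, hy⟩ => by
    rw [show (O'.obj.map k.op).hom ((φ.hom.app (op V)).hom b) = (φ.hom.app (op W)).hom ((O.obj.map k.op).hom b) from
      (NatTrans.naturality_apply φ.hom k.op b).symm, ← hy, ← hG,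
      hM W _ (hI'.1 W _ (I.map_mem k hb)), map_zero]
  show G U (r • m) = r • G U m
  obtain ⟨S, hS, h⟩ := hsurj U r
  refine eq_of_locally (J := J) (H := (fg O').obj N) N.isSheaf hS fun V k hk => ?_
  obtain ⟨a, ha⟩ := h k hk
  rw [← hr, rs_smul, rs_smul, ← hr,
    show (O'.obj.map k.op).hom r = ((O'.obj.map k.op).hom r - (φ.hom.app (op V)).hom a) + (φ.hom.app (op V)).hom a from
      (sub_add_cancel _ _).symm, add_smul, add_smul, map_add, hG, hM V _ ha, map_zero,
    mem_annSh (hA V ha) ⟨_, rfl⟩]

variable (hI' : DerComp.IsIdealExt φ I I')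
  (hinj : ∀ (U : C) (f : O.obj.obj (op U)), (φ.hom.app (op U)).hom f ∈ I'.ideal U → f ∈ I.ideal U)
  (hsurj : ∀ (U : C) (f' : O'.obj.obj (op U)), ∃ S ∈ J U, ∀ ⦃V : C⦄ (g : V ⟶ U), S g →
    ∃ a : O.obj.obj (op V), (O'.obj.map g.op).hom f' - (φ.hom.app (op V)).hom a ∈ I'.ideal V)

include hI' hsurj in
/-- Restriction of scalars is bijective on maps out of killed modules. -/
theorem res_map_bijective {M' N : ModSite.Mod O'} (hM : Killed I' M') :
    Function.Bijective fun g : M' ⟶ N => (res φ).map g := by
  refine ⟨fun a b h => ?_, fun g => ?_⟩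
  · apply (fg O').map_injective
    refine PresheafOfModules.hom_ext fun X => ModuleCat.hom_ext (LinearMap.ext fun m => ?_)
    exact congrArg (fun k : (res φ).obj M' ⟶ (res φ).obj N => (k.val.app X).hom m) h
  · let g₀ : M'.val.presheaf ⟶ N.val.presheaf := (PresheafOfModules.toPresheaf (ModSite.ringSh O).obj).map g.val
    refine ⟨⟨PresheafOfModules.homMk g₀ fun X r m => ?_⟩, ?_⟩
    · exact map_smul_of_killed φ hI' hsurj hM g X.unop r m
    · apply (fg O).map_injective
      refine PresheafOfModules.hom_ext fun X => ModuleCat.hom_ext (LinearMap.ext fun m => rfl)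

/-- The action of `O'` on a killed module, on sections. -/
def IsAct (I' : DerComp.IdealSh O') (M : ModSite.Mod O) {U : C} (r : O'.obj.obj (op U))
    (m z : ((fg O).obj M).obj (op U)) : Prop :=
  ∀ ⦃V : C⦄ (k : V ⟶ U) (a : O.obj.obj (op V)),
    (O'.obj.map k.op).hom r - (φ.hom.app (op V)).hom a ∈ I'.ideal V →
      rs ((fg O).obj M) k.op z = a • rs ((fg O).obj M) k.op m

include hinj hsurj in
lemma existsUnique_isAct {M : ModSite.Mod O} (hM : Killed I M) {U : C} (r : O'.obj.obj (op U))
    (m : ((fg O).obj M).obj (op U)) : ∃! z, IsAct φ I' M r m z := by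
  classical
  obtain ⟨S, hS, h⟩ := hsurj U r
  choose a ha using h
  have key : ∀ ⦃V : C⦄ (k : V ⟶ U) (b b' : O.obj.obj (op V)),
      (O'.obj.map k.op).hom r - (φ.hom.app (op V)).hom b ∈ I'.ideal V →
      (O'.obj.map k.op).hom r - (φ.hom.app (op V)).hom b' ∈ I'.ideal V →
      ∀ x : ((fg O).obj M).obj (op V), b • x = b' • x := fun V k b b' hb hb' x => by
    rw [← sub_eq_zero, ← sub_smul]
    refine hM V _ (hinj V _ ?_) x
    have := Ideal.sub_mem _ hb' hb
    rwa [show ((O'.obj.map k.op).hom r - (φ.hom.app (op V)).hom b') -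
      ((O'.obj.map k.op).hom r - (φ.hom.app (op V)).hom b) = (φ.hom.app (op V)).hom (b - b') by
        rw [map_sub]; abel] at this
  have mem_comp : ∀ ⦃V W : C⦄ (k : V ⟶ U) (l : W ⟶ V) (b : O.obj.obj (op V)),
      (O'.obj.map k.op).hom r - (φ.hom.app (op V)).hom b ∈ I'.ideal V →
      (O'.obj.map (l ≫ k).op).hom r - (φ.hom.app (op W)).hom ((O.obj.map l.op).hom b) ∈ I'.ideal W :=
    fun V W k l b hb => by
      have := I'.map_mem l hb
      rw [map_sub, ← NatTrans.naturality_apply φ.hom l.op b] at this
      rw [op_comp, Functor.map_comp]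
      exact this
  have hsheaf := ((Presheaf.isSheaf_iff_isSheaf_forget J ((fg O).obj M).presheaf
    (CategoryTheory.forget Ab.{u})).1 M.isSheaf).isSheafFor S hS
  let x : Presieve.FamilyOfElements (((fg O).obj M).presheaf ⋙ CategoryTheory.forget Ab.{u}) S.arrows :=
    fun V k hk => (show ((fg O).obj M).obj (op V) from a k hk • rs ((fg O).obj M) k.op m)
  have hx : x.SieveCompatible := fun V W k l hk => by
    show a (l ≫ k) _ • rs ((fg O).obj M) (l ≫ k).op m = rs ((fg O).obj M) l.op (a k hk • rs ((fg O).obj M) k.op m)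
    rw [rs_smul, op_comp, rs_comp]
    exact key (l ≫ k) _ _ (ha _ _) (mem_comp k l _ (ha k hk)) _
  obtain ⟨z, hz, -⟩ := hsheaf x ((Presieve.compatible_iff_sieveCompatible x).2 hx)
  refine ⟨z, fun V k b hb => ?_, fun z' hz' => ?_⟩
  · refine eq_of_locally (J := J) (H := (fg O).obj M) M.isSheaf (J.pullback_stable k hS) fun W l hl => ?_
    rw [rs_smul, ← rs_comp, ← rs_comp, ← op_comp]
    refine (hz (l ≫ k) hl).trans ?_
    exact key (l ≫ k) _ _ (ha _ _) (mem_comp k l b hb) _
  · refine eq_of_locally (J := J) (H := (fg O).obj M) M.isSheaf hS fun V k hk => ?_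
    exact (hz' k (a k hk) (ha k hk)).trans (hz k hk).symm

variable {φ}

lemma IsAct.eq_of {M : ModSite.Mod O} {U : C} {r : O'.obj.obj (op U)} {m z z' : ((fg O).obj M).obj (op U)}
    (hz : IsAct φ I' M r m z) (hz' : IsAct φ I' M r m z') (h : ∃! z, IsAct φ I' M r m z) : z = z' :=
  h.unique hz hz'

variable (φ)

include hinj hsurj in
/-- Killed modules are restrictions of killed modules. -/
theorem exists_res_iso (hI' : DerComp.IsIdealExt φ I I') {M : ModSite.Mod O} (hM : Killed I M) :
    ∃ M' : ModSite.Mod O', Killed I' M' ∧ Nonempty ((res φ).obj M' ≅ M) := by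
  classical
  have E := fun (U : C) (r : O'.obj.obj (op U)) m => existsUnique_isAct φ hinj hsurj hM r m
  let act : ∀ (U : C), O'.obj.obj (op U) → ((fg O).obj M).obj (op U) → ((fg O).obj M).obj (op U) :=
    fun U r m => (E U r m).choose
  have hact : ∀ U r m, IsAct φ I' M r m (act U r m) := fun U r m => (E U r m).choose_spec.1
  -- equalities may be checked on a covering where the scalars are images
  have hloc : ∀ (U : C) (z z' : ((fg O).obj M).obj (op U)) (r r' : O'.obj.obj (op U)),
      (∀ ⦃V : C⦄ (k : V ⟶ U) (a a' : O.obj.obj (op V)),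
        (O'.obj.map k.op).hom r - (φ.hom.app (op V)).hom a ∈ I'.ideal V →
        (O'.obj.map k.op).hom r' - (φ.hom.app (op V)).hom a' ∈ I'.ideal V →
        rs ((fg O).obj M) k.op z = rs ((fg O).obj M) k.op z') → z = z' := fun U z z' r r' h => by
    obtain ⟨S, hS, hr⟩ := hsurj U r
    obtain ⟨S', hS', hr'⟩ := hsurj U r'
    refine eq_of_locally (J := J) (H := (fg O).obj M) M.isSheaf (J.intersection_covering hS hS') fun V k hk => ?_
    obtain ⟨a, ha⟩ := hr k hk.1
    obtain ⟨a', ha'⟩ := hr' k hk.2
    exact h k a a' ha ha'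
  have hφ : ∀ (U : C) (b : O.obj.obj (op U)) m, act U ((φ.hom.app (op U)).hom b) m = b • m := fun U b m => by
    refine (E U _ m).unique (hact U _ m) fun V k a ha => ?_
    rw [rs_smul, ← sub_eq_zero, ← sub_smul]
    refine hM V _ (hinj V _ ?_) _
    rwa [map_sub, NatTrans.naturality_apply φ.hom k.op b]
  have hzero : ∀ (U : C) (r : O'.obj.obj (op U)) m, r ∈ I'.ideal U → act U r m = 0 := fun U r m hr => by
    refine (E U _ m).unique (hact U _ m) fun V k a ha => ?_
    refine (map_zero _).trans (hM V _ (hinj V _ ?_) _).symm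
    have := Ideal.sub_mem _ (I'.map_mem k hr) ha
    rwa [sub_sub_cancel] at this
  let mod : ∀ X : Cᵒᵖ, Module ((ModSite.ringSh O').obj.obj X) (M.val.presheaf.obj X) := fun X =>
    { smul := fun r m => act X.unop r m
      one_smul := fun m => show act X.unop (1 : O'.obj.obj X) m = m from
        (congrArg (fun t => act X.unop t m) (map_one (φ.hom.app X).hom).symm).trans
          ((hφ X.unop (1 : O.obj.obj X) m).trans (one_smul (O.obj.obj X) (show ((fg O).obj M).obj X from m)))
      mul_smul := fun r r' m => hloc X.unop _ _ r r' fun V k a a' ha ha' => by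
        show rs _ k.op (act X.unop (r * r' : O'.obj.obj X) m) = rs _ k.op (act X.unop r (act X.unop r' m))
        rw [hact X.unop r (act X.unop r' m) k a ha, hact X.unop r' m k a' ha', ← mul_smul]
        refine hact X.unop (r * r' : O'.obj.obj X) m k (a * a') ?_
        rw [map_mul, map_mul]
        have := Ideal.add_mem _ (Ideal.mul_mem_right ((O'.obj.map k.op).hom r') _ ha)
          (Ideal.mul_mem_left _ ((φ.hom.app (op V)).hom a) ha')
        convert this using 1
        ring
      smul_zero := fun r => (E X.unop r 0).unique (hact X.unop r 0) fun V k a _ => by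
        show rs ((fg O).obj M) k.op 0 = a • rs ((fg O).obj M) k.op 0
        rw [show rs ((fg O).obj M) k.op 0 = 0 from map_zero _, smul_zero]
      smul_add := fun r m m' => (E X.unop r _).unique (hact X.unop r _) fun V k a ha => by
        show rs ((fg O).obj M) k.op (act X.unop r m + act X.unop r m') = a • rs ((fg O).obj M) k.op (m + m')
        rw [rs_add, rs_add, smul_add, hact X.unop r m k a ha, hact X.unop r m' k a ha]
      add_smul := fun r r' m => hloc X.unop _ _ r r' fun V k a a' ha ha' => by
        show rs _ k.op (act X.unop (r + r' : O'.obj.obj X) m) = rs _ k.op (act X.unop r m + act X.unop r' m)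
        rw [rs_add, hact X.unop r m k a ha, hact X.unop r' m k a' ha', ← add_smul]
        refine hact X.unop (r + r' : O'.obj.obj X) m k (a + a') ?_
        rw [map_add, map_add]
        have := Ideal.add_mem _ ha ha'
        convert this using 1
        abel
      zero_smul := fun m => hzero X.unop (0 : O'.obj.obj X) m (Ideal.zero_mem _) }
  have hmap : ∀ ⦃X Y : Cᵒᵖ⦄ (f : X ⟶ Y) (r : (ModSite.ringSh O').obj.obj X) (m : M.val.presheaf.obj X),
      letI := mod X; letI := mod Y
      M.val.presheaf.map f (r • m) = (ModSite.ringSh O').obj.map f r • M.val.presheaf.map f m := fun X Y f r m => by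
    refine ((E Y.unop ((O'.obj.map f).hom r) (rs ((fg O).obj M) f m)).unique (hact Y.unop _ _) fun V k a ha => ?_).symm
    show rs ((fg O).obj M) k.op (rs ((fg O).obj M) f (act X.unop r m)) = a • rs ((fg O).obj M) k.op (rs ((fg O).obj M) f m)
    rw [← rs_comp, ← rs_comp]
    refine hact X.unop r m (k ≫ f.unop) a ?_
    rw [show (k ≫ f.unop).op = f ≫ k.op from rfl, Functor.map_comp]
    exact ha
  let M' : ModSite.Mod O' :=
    { val := @PresheafOfModules.ofPresheaf _ _ _ M.val.presheaf mod hmap
      isSheaf := M.isSheaf }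
  refine ⟨M', fun U f hf x => hzero U f x hf,
    ⟨(SheafOfModules.fullyFaithfulForget _).preimageIso (PresheafOfModules.isoMk (fun X => ?_) fun {X Y} f => ?_)⟩⟩
  · exact LinearEquiv.toModuleIso
      (X₁ := ((fg O).obj ((res φ).obj M')).obj X) (X₂ := ((fg O).obj M).obj X)
      { AddEquiv.refl _ with map_smul' := fun b m => hφ X.unop b m }
  · rfl

include hI' hinj hsurj in
/-- The unit of base change is an isomorphism on killed modules. -/
theorem isIso_unit_of_killed {M : ModSite.Mod O} (hM : Killed I M) :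
    IsIso ((toRMor φ).adj.unit.app M) := by
  obtain ⟨M', hM', ⟨e⟩⟩ := exists_res_iso φ hinj hsurj hI' hM
  let a : (toRMor φ).pull ⊣ res φ := (toRMor φ).adj
  have hc : IsIso (a.counit.app M') := by
    refine (isIso_iff_coyoneda_map_bijective _).2 fun N => ?_
    have e : (fun f : M' ⟶ N => a.counit.app M' ≫ f) = (a.homEquiv _ _).symm ∘ fun f => (res φ).map f :=
      funext fun f => by
        rw [Function.comp_apply, Adjunction.homEquiv_counit]
        exact (a.counit.naturality f).symm
    show Function.Bijective fun f : M' ⟶ N => a.counit.app M' ≫ f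
    rw [e]
    exact ((a.homEquiv _ _).symm.bijective).comp (res_map_bijective φ hI' hsurj hM')
  have h : IsIso (a.unit.app ((res φ).obj M')) := by
    have t := a.right_triangle_components M'
    have : IsIso ((res φ).map (a.counit.app M')) := inferInstance
    exact IsIso.of_isIso_fac_right t
  exact (NatTrans.isIso_app_iff_of_iso a.unit e).1 h

end Groth.Agent.DerCompEquiv
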