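import Groth.Agent.H9Misc.DerCompRestr
import Groth.Agent.ModTensor.RestrKFlat
import Groth.Agent.DerCompEquiv.Killed

/-!
# Restriction of scalars commutes with extension by zero
-/

set_option backward.isDefEq.respectTransparency false

universe u

open CategoryTheory CategoryTheory.Limits Opposite
open Groth.Agent.ModTensor Groth.Agent.H9Misc.DerCompRestr

namespace Groth.Agent.DerCompEquiv

variable {C : Type u} [SmallCategory C] {J : GrothendieckTopology C} {O O' : Sheaf J CommRingCat.{u}}
  (φ : O ⟶ O') (U : C)

/-- The map of rings on the localised site. -/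
noncomputable def φU : O.over U ⟶ O'.over U := ⟨Functor.whiskerLeft (Over.forget U).op φ.hom⟩

/-- Restriction of scalars for presheaves of modules. -/
noncomputable abbrev resPre : P₀ O' ⥤ P₀ O :=
  PresheafOfModules.restrictScalars (Functor.whiskerRight φ.hom (forget₂ CommRingCat.{u} RingCat.{u}))

variable {φ U}

/-- The identification of sections of an extension by zero after restriction of scalars. -/
noncomputable def extResHom (G : P₀ (O'.over U)) :
    (extP O.obj U).obj ((resPre (φU φ U)).obj G) ⟶ (resPre φ).obj ((extP O'.obj U).obj G) :=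
  extDesc (M := (resPre φ).obj ((extP O'.obj U).obj G))
    ((resPre (φU φ U)).map (extUnit (R := O'.obj) (U := U) G))

lemma extResHom_inclO (G : P₀ (O'.over U)) {V : Cᵒᵖ} (Z : Over U) (α : V.unop ⟶ Z.left)
    (x : sec (R := O'.obj) G Z) :
    (extResHom G).app V (inclO (R := O.obj) ((resPre (φU φ U)).obj G) Z α x) = inclO (R := O'.obj) G Z α x := by
  refine (extDesc_inclO (R := O.obj) (M := (resPre φ).obj ((extP O'.obj U).obj G))
    ((resPre (φU φ U)).map (extUnit (R := O'.obj) (U := U) G)) Z α x).trans ?_
  exact rs_inclO_id (R := O'.obj) G Z α x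

unseal extObj inclO in
lemma extResHom_bijective (G : P₀ (O'.over U)) (V : Cᵒᵖ) :
    Function.Bijective ((extResHom (φ := φ) G).app V).hom := by
  let L : extSec (R := O.obj) ((resPre (φU φ U)).obj G) V →+ extSec (R := O'.obj) G V :=
    ((extResHom (φ := φ) G).app V).hom.toAddMonoidHom
  let i : extSec (R := O.obj) ((resPre (φU φ U)).obj G) V →+ extSec (R := O'.obj) G V :=
    AddMonoidHom.id (extSec (R := O'.obj) G V)
  have h : L = i := extSec_hom_ext (R := O.obj) ((resPre (φU φ U)).obj G) fun Z α x => extResHom_inclO G Z α x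
  show Function.Bijective L
  rw [h]
  exact Function.bijective_id

instance isIso_extResHom (G : P₀ (O'.over U)) : IsIso (extResHom (φ := φ) G) := by
  have : ∀ V, IsIso ((extResHom (φ := φ) G).app V) := fun V =>
    (ConcreteCategory.isIso_iff_bijective _).2 (extResHom_bijective G V)
  exact (PresheafOfModules.isoMk (fun V => asIso ((extResHom (φ := φ) G).app V))
    fun _ _ f => (extResHom (φ := φ) G).naturality f).isIso_hom

set_option maxHeartbeats 1000000 in
lemma extResHom_naturality {G G' : P₀ (O'.over U)} (f : G ⟶ G') :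
    (extP O.obj U).map ((resPre (φU φ U)).map f) ≫ extResHom G' =
      extResHom G ≫ (resPre φ).map ((extP O'.obj U).map f) := by
  refine extObj_hom_ext fun Z x => ?_
  let g := (resPre (φU φ U)).map f
  let y : sec (R := O'.obj) G' Z := f.app (op Z) x
  have h1 : ((extP O.obj U).map g).app (op Z.left) (inclO _ Z (𝟙 Z.left) x) =
      inclO (R := O.obj) ((resPre (φU φ U)).obj G') Z (𝟙 Z.left) y :=
    extP_map_inclO O.obj U g (V := op Z.left) Z (𝟙 Z.left) x
  have h2 : ((extP O'.obj U).map f).app (op Z.left) (inclO (R := O'.obj) G Z (𝟙 Z.left) x) =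
      inclO (R := O'.obj) G' Z (𝟙 Z.left) y :=
    extP_map_inclO O'.obj U f (V := op Z.left) Z (𝟙 Z.left) x
  have h3 := extResHom_inclO (φ := φ) G' (V := op Z.left) Z (𝟙 Z.left) y
  have h4 := extResHom_inclO (φ := φ) G (V := op Z.left) Z (𝟙 Z.left) x
  have c1 := congrArg ((extResHom (φ := φ) G').app (op Z.left)).hom h1
  have c2 := congrArg (((extP O'.obj U).map f).app (op Z.left)).hom h4
  exact (c1.trans h3).trans (h2.symm.trans c2.symm)

variable (φ U)

/-- Restriction of scalars and extension by zero of presheaves. -/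
noncomputable def extPResIso : resPre (φU φ U) ⋙ extP O.obj U ≅ extP O'.obj U ⋙ resPre φ :=
  NatIso.ofComponents (fun G => asIso (extResHom G)) fun f => extResHom_naturality f

/-- Sheafification commutes with restriction of scalars. -/
noncomputable def shResIso : resPre φ ⋙ sh O ≅ sh O' ⋙ res φ := by
  let w : resPre φ ⋙ sh O ⟶ (sh O' ⋙ res φ ⋙ fg O) ⋙ sh O :=
    Functor.whiskerRight (Functor.whiskerRight (shAdj O').unit (resPre φ)) (sh O)
  have hw : ∀ P, IsIso (w.app P) := fun P => by
    let f := (resPre φ).map ((shAdj O').unit.app P)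
    have : Presheaf.IsLocallyInjective J ((PresheafOfModules.toPresheaf _).map f) :=
      ModTensor.isLocallyInjective_unit (O := O') P
    have : Presheaf.IsLocallySurjective J ((PresheafOfModules.toPresheaf _).map f) :=
      ModTensor.isLocallySurjective_unit (O := O') P
    exact isIso_sh_map_of_locallyBijective O f
  have : IsIso w := NatIso.isIso_of_isIso_app w
  exact asIso w ≪≫ Functor.isoWhiskerLeft (sh O' ⋙ res φ) (counitIso O)

/-- Restriction of scalars commutes with extension by zero. -/
noncomputable def extResIso :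
    res (φU φ U) ⋙ ModSite.extZero O U ≅ ModSite.extZero O' U ⋙ res φ :=
  Functor.isoWhiskerLeft (res (φU φ U)) (extZeroIso O U) ≪≫
    (Functor.isoWhiskerLeft (fg (O'.over U)) (Functor.isoWhiskerRight (extPResIso φ U) (sh O)) ≪≫
      Functor.isoWhiskerLeft (fg (O'.over U) ⋙ extP O'.obj U) (shResIso φ)) ≪≫
    Functor.isoWhiskerRight (extZeroIso O' U).symm (res φ)

variable {φ U}

unseal extObj inclO in
/-- Extensions by zero of killed modules are killed. -/
theorem killed_extZero {I : DerComp.IdealSh O} {H : ModSite.Mod (O.over U)} (hH : Killed (I.over U) H) :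
    Killed I ((ModSite.extZero O U).obj H) := by
  let G := (fg (O.over U)).obj H
  let P : P₀ O := (extP O.obj U).obj G
  let S := (sh O).obj P
  have hS : Killed I S := by
    intro V f hf y
    obtain ⟨T, hT, hy⟩ : ∃ T ∈ J V, ∀ ⦃W : C⦄ (k : W ⟶ V), T k → ∃ p : P.obj (op W),
        ((shAdj O).unit.app P).app (op W) p = rs ((fg O).obj S) k.op y :=
      ⟨_, Presheaf.imageSieve_mem J ((PresheafOfModules.toPresheaf _).map ((shAdj O).unit.app P)) y,
        fun W k hk => by
          obtain ⟨p, hp⟩ := hk
          exact ⟨p, hp⟩⟩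
    refine eq_of_locally (J := J) (H := (fg O).obj S) S.isSheaf hT fun W k hk => ?_
    obtain ⟨p, hp⟩ := hy k hk
    refine Eq.trans ?_ (map_zero _).symm
    rw [rs_smul, ← hp]
    refine (LinearMap.map_smul _ _ p).symm.trans ?_
    suffices h : (O.obj.map k.op).hom f • p = 0 by rw [h]; exact map_zero _
    let L : extSec (R := O.obj) G (op W) →+ extSec (R := O.obj) G (op W) :=
      DistribSMul.toAddMonoidHom _ ((O.obj.map k.op).hom f)
    have hL : L = 0 := extSec_hom_ext G fun Z α x => ?_
    · exact DFunLike.congr_fun hL (show extSec (R := O.obj) G (op W) from p)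
    show (O.obj.map k.op).hom f • incl G Z α x = 0
    rw [show incl G Z α x = inclBase G (α ≫ Z.hom) (rsO G (Over.homMk α rfl : Over.mk (α ≫ Z.hom) ⟶ Z) x) from rfl,
      ← map_smul]
    have := hH (Over.mk (α ≫ Z.hom)) ((O.obj.map k.op).hom f) (I.map_mem k hf)
      (rsO G (Over.homMk α rfl : Over.mk (α ≫ Z.hom) ⟶ Z) x)
    exact (congrArg _ this).trans (map_zero _)
  intro V f hf y
  let i : (ModSite.extZero O U).obj H ≅ S := (extZeroIso O U).app H
  have h1 : ((fg O).map i.hom).app (op V) (f • y) = 0 :=
    (LinearMap.map_smul _ f y).trans (hS V f hf _)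
  have h2 := congrArg (((fg O).map i.inv).app (op V)).hom h1
  have h3 : ∀ z, ((fg O).map i.inv).app (op V) (((fg O).map i.hom).app (op V) z) = z := fun z =>
    congrArg (fun e : (ModSite.extZero O U).obj H ⟶ _ => (e.val.app (op V)).hom z) i.hom_inv_id
  exact (h3 _).symm.trans (h2.trans (map_zero _))

end Groth.Agent.DerCompEquiv
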