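import Groth.Agent.H9Misc.DerCompRestr
import Groth.Agent.SiteBase.FlatMor
import Groth.Agent.ModPull.Criterion
import Groth.Prelude.Def_ModSite2

/-!
# A flat map of sheaves of rings has an exact pullback
-/

set_option backward.isDefEq.respectTransparency false

universe u

open CategoryTheory CategoryTheory.Limits Opposite
open Groth.Agent.ModTensor Groth.Agent.ModPull Groth.Agent.SiteBase
open Groth.Agent.H9Misc.DerCompRestr

namespace Groth.Agent.DerCompEquiv

variable {C : Type u} [SmallCategory C] {J : GrothendieckTopology C} {O O' : Sheaf J CommRingCat.{u}}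
  (φ : O ⟶ O')

theorem relLift_unit (hflat : ModSite.IsFlat ((res φ).obj (ModSite.unit O'))) :
    RelLift (toRMor φ) (ModSite.unit O') := by
  classical
  intro W V h σ Y _ _ c a hrel
  let h₀ : W ⟶ V := h
  let M := (res φ).obj (ModSite.unit O')
  let a' : σ → ((fg O).obj M).obj (op W) := a
  have hrel' : ∀ y, ∑ l, (O.obj.map h₀.op).hom (c l y) • a' l = 0 := fun y => by
    refine Eq.trans (Finset.sum_congr rfl fun l _ => ?_) (hrel y)
    exact congrArg (fun r => (show O'.obj.obj (op W) from r) * (show O'.obj.obj (op W) from a l))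
      (NatTrans.naturality_apply φ.hom h₀.op (c l y))
  refine (exists_trivialisation (κ := Y) (Y := σ) hflat (fun y l => (O.obj.map h₀.op).hom (c l y)) a' hrel').mono
    fun W₁ g ⟨n, N, t, ht, hN⟩ => ?_
  refine ⟨W₁, g ≫ h₀, 𝟙 W₁, n, fun l j => N j l, t, Category.id_comp _, fun l => ?_, fun j y => ?_⟩
  · refine Eq.trans (ht l) (Finset.sum_congr rfl fun j _ => ?_)
    refine congrArg (fun r => (show O'.obj.obj (op W₁) from r) * (show O'.obj.obj (op W₁) from t j)) ?_
    exact (congrArg (fun k : O'.obj.obj (op W₁) ⟶ O'.obj.obj (op W₁) => k.hom ((φ.hom.app (op W₁)).hom (N j l)))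
      (O'.obj.map_id (op W₁))).symm
  · refine Eq.trans (Finset.sum_congr rfl fun l _ => ?_) (hN y j)
    rw [mul_comm, op_comp, Functor.map_comp]
    rfl

theorem preservesFiniteLimits_pull (hflat : ModSite.IsFlat ((res φ).obj (ModSite.unit O'))) :
    PreservesFiniteLimits (toRMor φ).pull :=
  isFlat_of_relLift (toRMor φ) (relLift_unit φ hflat)

end Groth.Agent.DerCompEquiv
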