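import Mathlib.Algebra.Homology.HomotopyCategory.Pretriangulated
import Mathlib.Algebra.Homology.HomotopyCategory.SingleFunctors
import Mathlib.Algebra.Homology.Linear
import Mathlib.Algebra.Homology.Embedding.CochainComplex

/-!
# Koszul complexes of commuting endomorphisms, by iterated mapping cones
-/

set_option backward.isDefEq.respectTransparency false

universe v v' u u'

open CategoryTheory CategoryTheory.Category CategoryTheory.Limits

namespace Groth.Agent.DerCompEquiv.Koszul

open CochainComplex

variable {A : Type u} [Category.{v} A] [Preadditive A] [HasBinaryBiproducts A] [HasZeroObject A]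
  {B : Type u'} [Category.{v'} B] [Preadditive B] [HasBinaryBiproducts B] [HasZeroObject B]

/-- A complex with commuting endomorphisms. -/
structure Sys (A : Type u) [Category.{v} A] [Preadditive A] (r : ℕ) where
  cx : CochainComplex A ℤ
  op : Fin r → (cx ⟶ cx)
  comm : ∀ i j, op i ≫ op j = op j ≫ op i

variable {r : ℕ}

/-- The cone on one of the endomorphisms. -/
noncomputable def Sys.cone (S : Sys A r) (k : Fin r) : Sys A r where
  cx := mappingCone (S.op k)
  op i := mappingCone.map (S.op k) (S.op k) (S.op i) (S.op i) (S.comm k i)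
  comm i j := by
    rw [← mappingCone.map_comp, ← mappingCone.map_comp]
    congr 1
    all_goals exact S.comm i j

/-- The iterated cones. -/
noncomputable def Sys.iter (S : Sys A r) : ℕ → Sys A r
  | 0 => S
  | k + 1 => if h : k < r then (S.iter k).cone ⟨k, h⟩ else S.iter k

lemma iter_succ (S : Sys A r) {k : ℕ} (h : k < r) : S.iter (k + 1) = (S.iter k).cone ⟨k, h⟩ := by
  rw [Sys.iter, dif_pos h]

/-- An isomorphism of systems along a functor. -/
structure Cmp (G : A ⥤ B) [G.Additive] (S : Sys A r) (S' : Sys B r) where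
  iso : (G.mapHomologicalComplex (ComplexShape.up ℤ)).obj S.cx ≅ S'.cx
  comm : ∀ i, (G.mapHomologicalComplex (ComplexShape.up ℤ)).map (S.op i) ≫ iso.hom = iso.hom ≫ S'.op i

/-- Naturality of the comparison of a functor with mapping cones. -/
lemma mapIso_naturality (G : A ⥤ B) [G.Additive] {K : CochainComplex A ℤ} (f g : K ⟶ K) (h : f ≫ g = g ≫ f) :
    (G.mapHomologicalComplex (ComplexShape.up ℤ)).map (mappingCone.map f f g g h) ≫
      (mappingCone.mapHomologicalComplexIso f G).hom =
    (mappingCone.mapHomologicalComplexIso f G).hom ≫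
      mappingCone.map _ _ ((G.mapHomologicalComplex (ComplexShape.up ℤ)).map g)
        ((G.mapHomologicalComplex (ComplexShape.up ℤ)).map g)
        (by rw [← Functor.map_comp, ← Functor.map_comp, h]) := by
  ext n
  simp only [mappingCone.mapHomologicalComplexIso, HomologicalComplex.comp_f,
    HomologicalComplex.Hom.isoOfComponents_hom_f, Functor.mapHomologicalComplex_map_f]
  rw [mappingCone.mapHomologicalComplexXIso_eq f G n (n + 1) rfl, mappingCone.mapHomologicalComplexXIso'_hom,
    mappingCone.ext_to_iff _ _ (n + 1) rfl]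
  constructor
  · simp only [mappingCone.map, mappingCone.desc_f _ _ _ _ n (n + 1) rfl, Preadditive.comp_add, Preadditive.add_comp,
      assoc, mappingCone.inl_v_fst_v, mappingCone.inr_f_fst_v, comp_zero, add_zero, zero_add, comp_id, G.map_add,
      CochainComplex.HomComplex.Cochain.comp_zero_cochain_v, CochainComplex.HomComplex.Cochain.zero_cochain_comp_v,
      CochainComplex.HomComplex.Cochain.ofHom_v, HomologicalComplex.comp_f, Functor.mapHomologicalComplex_map_f]
    erw [mappingCone.inl_v_fst_v_assoc, mappingCone.inr_f_fst_v_assoc]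
    refine (congrArg₂ (· + ·) (congrArg (G.map _ ≫ ·) (comp_id (G.map _))) (congrArg (G.map _ ≫ ·) (comp_id (G.map _)))).trans ?_
    simp only [← G.map_comp, assoc, mappingCone.inl_v_fst_v, mappingCone.inr_f_fst_v, comp_zero, zero_comp, comp_id,
      G.map_zero, add_zero]
  · simp only [mappingCone.map, mappingCone.desc_f _ _ _ _ n (n + 1) rfl, Preadditive.comp_add, Preadditive.add_comp,
      assoc, mappingCone.inl_v_snd_v, mappingCone.inr_f_snd_v, comp_zero, add_zero, zero_add, comp_id, G.map_add,
      CochainComplex.HomComplex.Cochain.comp_zero_cochain_v, CochainComplex.HomComplex.Cochain.zero_cochain_comp_v,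
      CochainComplex.HomComplex.Cochain.ofHom_v, HomologicalComplex.comp_f, Functor.mapHomologicalComplex_map_f]
    erw [mappingCone.inl_v_snd_v_assoc, mappingCone.inr_f_snd_v_assoc]
    refine (congrArg₂ (· + ·) (congrArg (G.map _ ≫ ·) (comp_id (G.map _))) (congrArg (G.map _ ≫ ·) (comp_id (G.map _)))).trans ?_
    simp only [← G.map_comp, assoc, mappingCone.inl_v_snd_v, mappingCone.inr_f_snd_v, comp_zero, zero_comp, comp_id,
      G.map_zero, zero_add]

/-- Cones of isomorphic systems are isomorphic. -/
noncomputable def Cmp.cone {G : A ⥤ B} [G.Additive] {S : Sys A r} {S' : Sys B r} (e : Cmp G S S') (k : Fin r) :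
    Cmp G (S.cone k) (S'.cone k) where
  iso := mappingCone.mapHomologicalComplexIso (S.op k) G ≪≫
    { hom := mappingCone.map _ _ e.iso.hom e.iso.hom (e.comm k)
      inv := mappingCone.map _ _ e.iso.inv e.iso.inv (by
        rw [Iso.eq_inv_comp, ← assoc, ← e.comm k, assoc, Iso.hom_inv_id, comp_id])
      hom_inv_id := by
        rw [← mappingCone.map_comp]
        refine Eq.trans ?_ (mappingCone.map_id _)
        congr 1
        all_goals exact e.iso.hom_inv_id
      inv_hom_id := by
        rw [← mappingCone.map_comp]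
        refine Eq.trans ?_ (mappingCone.map_id _)
        congr 1
        all_goals exact e.iso.inv_hom_id }
  comm i := by
    have hnat := mapIso_naturality G (S.op k) (S.op i) (S.comm k i)
    refine (assoc _ _ _).symm.trans ((congrArg (· ≫ _) hnat).trans ((assoc _ _ _).trans (Eq.trans ?_ (assoc _ _ _).symm)))
    refine congrArg ((mappingCone.mapHomologicalComplexIso (S.op k) G).hom ≫ ·) ?_
    show mappingCone.map _ _ _ _ _ ≫ mappingCone.map _ _ _ _ (e.comm k) =
      mappingCone.map _ _ _ _ (e.comm k) ≫ mappingCone.map _ _ _ _ (S'.comm k i)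
    rw [← mappingCone.map_comp, ← mappingCone.map_comp]
    congr 1
    all_goals exact e.comm i

/-- Iterated cones of isomorphic systems are isomorphic. -/
theorem nonempty_cmp_iter {G : A ⥤ B} [G.Additive] {S : Sys A r} {S' : Sys B r} (e : Cmp G S S') (k : ℕ) :
    Nonempty (Cmp G (S.iter k) (S'.iter k)) := by
  induction k with
  | zero => exact ⟨e⟩
  | succ k ih =>
    obtain ⟨e'⟩ := ih
    by_cases h : k < r
    · rw [iter_succ S h, iter_succ S' h]
      exact ⟨e'.cone _⟩
    · rw [Sys.iter, Sys.iter, dif_neg h, dif_neg h]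
      exact ⟨e'⟩

/-- Commuting endomorphisms of an object as a system in degree zero. -/
noncomputable def Sys.single (X : A) (u : Fin r → (X ⟶ X)) (hu : ∀ i j, u i ≫ u j = u j ≫ u i) : Sys A r where
  cx := (CochainComplex.singleFunctor A 0).obj X
  op i := (CochainComplex.singleFunctor A 0).map (u i)
  comm i j := by rw [← Functor.map_comp, ← Functor.map_comp, hu]

/-- Comparison of systems in degree zero. -/
noncomputable def cmpSingle (G : A ⥤ B) [G.Additive] {X : A} {u : Fin r → (X ⟶ X)}
    (hu : ∀ i j, u i ≫ u j = u j ≫ u i) {X' : B} {u' : Fin r → (X' ⟶ X')}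
    (hu' : ∀ i j, u' i ≫ u' j = u' j ≫ u' i) (e : G.obj X ≅ X') (he : ∀ i, G.map (u i) ≫ e.hom = e.hom ≫ u' i) :
    Cmp G (Sys.single X u hu) (Sys.single X' u' hu') where
  iso := (HomologicalComplex.singleMapHomologicalComplex G (ComplexShape.up ℤ) 0).app X ≪≫
    (CochainComplex.singleFunctor B 0).mapIso e
  comm i := by
    have h1 := (HomologicalComplex.singleMapHomologicalComplex G (ComplexShape.up ℤ) 0).hom.naturality (u i)
    have h2 := congrArg (CochainComplex.singleFunctor B 0).map (he i)
    rw [Functor.map_comp, Functor.map_comp] at h2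
    exact ((assoc _ _ _).symm.trans ((congrArg (· ≫ _) h1).trans ((assoc _ _ _).trans (congrArg (_ ≫ ·) h2)))).trans (assoc _ _ _).symm

/-- Terms of the iterated cones satisfy any property closed under biproducts that holds for the initial terms. -/
theorem prop_iter (P : A → Prop) (hP : ∀ M N, P M → P N → P (M ⊞ N)) (hiso : ∀ M N, (M ≅ N) → P M → P N)
    (S : Sys A r) (h : ∀ n, P (S.cx.X n)) (k : ℕ) (n : ℤ) : P ((S.iter k).cx.X n) := by
  induction k generalizing n with
  | zero => exact h n
  | succ k ih =>
    by_cases hk : k < r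
    · rw [iter_succ S hk]
      exact hiso _ _ (HomologicalComplex.homotopyCofiber.XIsoBiprod ((S.iter k).op ⟨k, hk⟩) n (n + 1) rfl).symm
        (hP _ _ (ih _) (ih _))
    · rw [Sys.iter, dif_neg hk]
      exact ih n

/-- Iterated cones are bounded above. -/
theorem isStrictlyLE_iter (S : Sys A r) (a : ℤ) [S.cx.IsStrictlyLE a] (k : ℕ) : (S.iter k).cx.IsStrictlyLE a := by
  induction k with
  | zero => assumption
  | succ k ih =>
    by_cases hk : k < r
    · rw [iter_succ S hk, CochainComplex.isStrictlyLE_iff]
      exact fun i hi => (mappingCone.isZero_X_iff _ i).2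
        ⟨CochainComplex.isZero_of_isStrictlyLE _ a _ (by omega), CochainComplex.isZero_of_isStrictlyLE _ a _ hi⟩
    · rw [Sys.iter, dif_neg hk]
      exact ih

section Linear

variable {R : Type*} [CommRing R] [Linear R A]

lemma map_smul_id {K : CochainComplex A ℤ} (c a : R) (h : (c • 𝟙 K) ≫ (a • 𝟙 K) = (a • 𝟙 K) ≫ (c • 𝟙 K)) :
    mappingCone.map (c • 𝟙 K) (c • 𝟙 K) (a • 𝟙 K) (a • 𝟙 K) h = a • 𝟙 _ := by
  ext n
  simp [mappingCone.ext_from_iff _ (n + 1) n rfl, mappingCone.map]

/-- Iterated cones of scalars carry scalars. -/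
theorem op_iter_smul (X : A) (s : Fin r → R) (hu : ∀ i j, (s i • 𝟙 X) ≫ (s j • 𝟙 X) = (s j • 𝟙 X) ≫ (s i • 𝟙 X))
    (k : ℕ) (i : Fin r) :
    ((Sys.single X (fun i => s i • 𝟙 X) hu).iter k).op i = s i • 𝟙 _ := by
  induction k generalizing i with
  | zero =>
    refine HomologicalComplex.from_single_hom_ext ?_
    show ((HomologicalComplex.single A (ComplexShape.up ℤ) 0).map (s i • 𝟙 X)).f 0 =
      s i • 𝟙 (((HomologicalComplex.single A (ComplexShape.up ℤ) 0).obj X).X 0)
    rw [HomologicalComplex.single_map_f_self, Linear.smul_comp, id_comp, Linear.comp_smul, Iso.hom_inv_id]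
  | succ k ih =>
    by_cases hk : k < r
    · rw [iter_succ _ hk]
      generalize ((Sys.single X (fun i => s i • 𝟙 X) hu).iter k) = T at ih ⊢
      obtain ⟨cx, op, comm⟩ := T
      obtain rfl : op = fun i => s i • 𝟙 cx := funext ih
      exact map_smul_id (s ⟨k, hk⟩) (s i) (comm ⟨k, hk⟩ i)
    · rw [Sys.iter, dif_neg hk]
      exact ih i

end Linear

end Groth.Agent.DerCompEquiv.Koszul
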