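import Groth.Agent.DerCompEquiv.Module
import Groth.Agent.H9Misc.DerCompRHom
import Groth.Agent.H9Misc.DerCompExists
import Groth.Agent.H9Misc.ExactLeftAdj
import Groth.Agent.SiteBase.ModColim
import Mathlib.CategoryTheory.Adjunction.AdjointFunctorTheorems
import Mathlib.Algebra.Homology.ShortComplex.Linear

/-!
# Derived complete objects along a flat map of rings inducing an isomorphism of quotients
-/

set_option backward.isDefEq.respectTransparency false
set_option linter.style.haveILetI false

universe u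

open CategoryTheory CategoryTheory.Category CategoryTheory.Limits CategoryTheory.Pretriangulated Opposite
open ZeroObject
open Groth.Agent.ModTensor Groth.Agent.H9Misc Groth.Agent.H9Misc.DerCompRestr Groth.Agent.H9Misc.DerCompTel

attribute [local instance] HasDerivedCategory.standard

namespace Groth.Agent.DerCompEquiv

section Abstract

variable {A : Type*} [Category* A] [Abelian A] [HasDerivedCategory A] {R : Type*} [CommRing R] [Linear R A]

/-- A scalar with bijective telescopes that acts bijectively acts on the zero group. -/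
lemma subsingleton_of_tb {M : Type*} [AddCommGroup M] (f : M →+ M) (hf : TelBij.TB f) (hb : Function.Bijective f) :
    Subsingleton M := by
  refine subsingleton_of_forall_eq 0 fun m => ?_
  let e := AddEquiv.ofBijective f hb
  exact hf.eq_zero (fun k => e.symm^[k] m) (fun k => by
    show e.symm^[k] m = e (e.symm^[k + 1] m)
    rw [Function.iterate_succ_apply', e.apply_symm_apply]) 0

/-- Vanishing of maps descends from cones of scalars with bijective telescopes. -/
lemma subsingleton_of_step {r : ℕ} (s : Fin r → R) (X : DerivedCategory A)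
    (hTB : ∀ i Y, TelBij.TB (TelLocal.sc (s i) Y X))
    (h0 : ∀ Y : DerivedCategory A, (∀ i, ∃ N : ℕ, s i ^ N • 𝟙 Y = 0) → Subsingleton (Y ⟶ X))
    (Y : DerivedCategory A) : Subsingleton (Y ⟶ X) := by
  suffices key : ∀ k, k ≤ r → ∀ Y : DerivedCategory A,
      (∀ i : Fin r, k ≤ (i : ℕ) → ∃ N : ℕ, s i ^ N • 𝟙 Y = 0) → Subsingleton (Y ⟶ X) by
    exact key r le_rfl Y fun i hi => absurd i.2 (by omega)
  intro k
  induction k with
  | zero => exact fun _ Y hY => h0 Y fun i => hY i (Nat.zero_le _)
  | succ k ih =>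
    intro hk Y hY
    let kk : Fin r := ⟨k, Nat.lt_of_succ_le hk⟩
    let c := s kk
    obtain ⟨Z, p, δ, hT⟩ := distinguished_cocone_triangle (c • 𝟙 Y)
    have hp : c • p = 0 := by
      have := comp_distTriang_mor_zero₁₂ _ hT
      rwa [show (Triangle.mk (c • 𝟙 Y) p δ).mor₁ ≫ (Triangle.mk (c • 𝟙 Y) p δ).mor₂ = (c • 𝟙 Y) ≫ p from rfl,
        Linear.smul_comp, id_comp] at this
    have hδ : c • δ = 0 := by
      have := comp_distTriang_mor_zero₃₁ _ hT
      rwa [show (Triangle.mk (c • 𝟙 Y) p δ).mor₃ ≫ (Triangle.mk (c • 𝟙 Y) p δ).mor₁⟦(1 : ℤ)⟧' = δ ≫ (c • 𝟙 Y)⟦(1 : ℤ)⟧' from rfl,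
        Functor.map_smul, CategoryTheory.Functor.map_id, Linear.comp_smul, comp_id] at this
    -- two scalars killing the outer terms kill the middle
    have hZ : ∀ a b : R, a • δ = 0 → b • p = 0 → (a * b) • 𝟙 Z = 0 := fun a b ha hb => by
      obtain ⟨x, hx⟩ := Triangle.coyoneda_exact₃ _ hT (a • 𝟙 Z) (by
        show (a • 𝟙 Z) ≫ δ = 0
        rw [Linear.smul_comp, id_comp, ha])
      rw [mul_comm, mul_smul]
      refine (congrArg (b • ·) hx).trans ?_
      show b • (x ≫ p) = 0
      rw [← Linear.comp_smul, hb, comp_zero]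
    have hZs : Subsingleton (Z ⟶ X) ∧ Subsingleton (Z ⟶ X⟦(1 : ℤ)⟧) := by
      have hZC : ∀ i : Fin r, k ≤ (i : ℕ) → ∃ N : ℕ, s i ^ N • 𝟙 Z = 0 := fun i hi => by
        rcases Nat.eq_or_lt_of_le hi with e | e
        · rw [show i = kk from Fin.ext e.symm]
          exact ⟨2, by rw [pow_two]; exact hZ c c hδ hp⟩
        · obtain ⟨N, hN⟩ := hY i e
          refine ⟨N + N, ?_⟩
          rw [pow_add]
          refine hZ _ _ ?_ ?_
          · rw [← comp_id δ, ← Linear.comp_smul, ← CategoryTheory.Functor.map_id, ← Functor.map_smul, hN,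
              Functor.map_zero, comp_zero]
          · rw [← id_comp p, ← Linear.smul_comp, hN, zero_comp]
      refine ⟨ih (by omega) Z hZC, ?_⟩
      have hZ' := ih (by omega) (Z⟦(-1 : ℤ)⟧) fun i hi => (hZC i hi).imp fun N hN => by
        rw [← CategoryTheory.Functor.map_id, ← Functor.map_smul, hN, Functor.map_zero]
      refine ⟨fun f g => (shiftFunctor (DerivedCategory A) (-1 : ℤ)).map_injective ?_⟩
      rw [← cancel_mono ((shiftFunctorCompIsoId (DerivedCategory A) (1 : ℤ) (-1) (by omega)).hom.app X)]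
      exact hZ'.elim _ _
    refine subsingleton_of_tb (TelLocal.sc c Y X) (hTB _ Y) ⟨fun f g hfg => ?_, fun f => ?_⟩
    · obtain ⟨x, hx⟩ := Triangle.yoneda_exact₂ _ hT (f - g) (by
        show (c • 𝟙 Y) ≫ (f - g) = 0
        rw [Linear.smul_comp, id_comp, smul_sub, sub_eq_zero]
        exact hfg)
      rw [← sub_eq_zero, hx, show x = 0 from hZs.1.elim x 0]
      exact comp_zero
    · have := hZs.2
      obtain ⟨y, hy⟩ := Triangle.yoneda_exact₃ _ (rot_of_distTriang _ hT) (f⟦(1 : ℤ)⟧') (by
        have := hZs.2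
        exact Subsingleton.elim (α := Z ⟶ X⟦(1 : ℤ)⟧) _ _)
      obtain ⟨y', rfl⟩ := (shiftFunctor (DerivedCategory A) (1 : ℤ)).map_surjective y
      refine ⟨-y', (shiftFunctor (DerivedCategory A) (1 : ℤ)).map_injective ?_⟩
      refine Eq.trans ?_ hy.symm
      show (c • (-y'))⟦(1 : ℤ)⟧' = (-(c • 𝟙 Y)⟦(1 : ℤ)⟧') ≫ y'⟦(1 : ℤ)⟧'
      rw [Functor.map_smul, Functor.map_neg, Preadditive.neg_comp, ← Functor.map_comp, Linear.smul_comp, id_comp,
        Functor.map_smul, smul_neg]

end Abstract

variable {C : Type u} [SmallCategory C] {J : GrothendieckTopology C} {O O' : Sheaf J CommRingCat.{u}}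
  (φ : O ⟶ O') {I : DerComp.IdealSh O} (hI : I.IsFiniteType) {I' : DerComp.IdealSh O'}
  (hI' : DerComp.IsIdealExt φ I I')
  (hflat : ModSite.IsFlat ((res φ).obj (ModSite.unit O')))
  (hinj : ∀ (U : C) (f : O.obj.obj (op U)), (φ.hom.app (op U)).hom f ∈ I'.ideal U → f ∈ I.ideal U)
  (hsurj : ∀ (U : C) (f' : O'.obj.obj (op U)), ∃ S ∈ J U, ∀ ⦃V : C⦄ (g : V ⟶ U), S g →
    ∃ a : O.obj.obj (op V), (O'.obj.map g.op).hom f' - (φ.hom.app (op V)).hom a ∈ I'.ideal V)
  [PreservesFiniteLimits (res φ)] [PreservesFiniteColimits (res φ)]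

omit [PreservesFiniteLimits (res φ)] [PreservesFiniteColimits (res φ)] in
/-- Restriction of scalars has a right adjoint. -/
theorem isLeftAdjoint_res : (res φ).IsLeftAdjoint := by
  have : PreservesColimitsOfSize.{u, u} (res φ) := SiteBase.preservesColimitsOfSize_restrictScalars _
  have : WellPowered.{u} (ModSite.Mod O') := inferInstance
  exact isLeftAdjoint_of_preservesColimits_of_isSeparating
    (P := ObjectProperty.singleton (separator (ModSite.Mod O'))) (isSeparator_separator _) _

/-- Restriction of scalars on derived categories detects isomorphisms. -/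
theorem isIso_of_isIso_res {X Y : DerivedCategory (ModSite.Mod O')} (f : X ⟶ Y)
    [IsIso ((res φ).mapDerivedCategory.map f)] : IsIso f := by
  obtain ⟨Z, g, h, hT⟩ := distinguished_cocone_triangle f
  refine (Triangle.isZero₃_iff_isIso₁ _ hT).1 ?_
  have hz : IsZero ((res φ).mapDerivedCategory.obj Z) :=
    (Triangle.isZero₃_iff_isIso₁ _ ((res φ).mapDerivedCategory.map_distinguished _ hT)).2
      (inferInstanceAs (IsIso ((res φ).mapDerivedCategory.map f)))
  obtain ⟨K, ⟨e⟩⟩ : ∃ K, Nonempty (DerivedCategory.Q.obj K ≅ Z) :=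
    ⟨_, ⟨(Localization.essSurj DerivedCategory.Q
      (HomologicalComplex.quasiIso (ModSite.Mod O') (ComplexShape.up ℤ))).mem_essImage Z |>.getIso⟩⟩
  refine ((FinDimDerived.isZero_Q_obj_iff K).2 fun n => ?_).of_iso e.symm
  have hK : (((res φ).mapHomologicalComplex (ComplexShape.up ℤ)).obj K).Acyclic :=
    (FinDimDerived.isZero_Q_obj_iff _).1
      (hz.of_iso (((res φ).mapDerivedCategoryFactors.app K).symm ≪≫ (res φ).mapDerivedCategory.mapIso e))
  have := SiteBase.reflectsIsomorphisms_restrictScalars ((sheafCompose J (forget₂ CommRingCat.{u} RingCat.{u})).map φ)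
  have hz' : IsZero ((res φ).obj (K.homology n)) :=
    ((HomologicalComplex.exactAt_iff_isZero_homology _ _).1 (hK n)).of_iso ((K.sc n).mapHomologyIso (res φ)).symm
  rw [HomologicalComplex.exactAt_iff_isZero_homology]
  have : IsIso ((res φ).map (0 : K.homology n ⟶ 0)) :=
    ⟨0, hz'.eq_of_src _ _, ((res φ).map_isZero (isZero_zero _)).eq_of_src _ _⟩
  have := isIso_of_reflects_iso (0 : K.homology n ⟶ 0) (res φ)
  exact (isZero_zero (ModSite.Mod O')).of_iso (asIso (0 : K.homology n ⟶ 0))

omit [PreservesFiniteLimits (res φ)] [PreservesFiniteColimits (res φ)] in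
lemma restr_mulOn_conj (W : C) (g : O.obj.obj (op W)) :
    (extResIso φ W).hom.app (ModSite.unit (O'.over W)) ≫
        (res φ).map (mulOn W ((φ.hom.app (op W)).hom g)) =
      (ModSite.extZero O W).map (DerComp.smulEnd (DerComp.GSec.ofSect O W g) ((res (φU φ W)).obj (ModSite.unit (O'.over W)))) ≫
        (extResIso φ W).hom.app (ModSite.unit (O'.over W)) := by
  refine ((extResIso φ W).hom.naturality
    (DerComp.smulEnd (DerComp.GSec.ofSect O' W ((φ.hom.app (op W)).hom g)) (ModSite.unit (O'.over W)))).symm.trans ?_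
  refine congrArg (· ≫ (extResIso φ W).hom.app _) (congrArg (ModSite.extZero O W).map ?_)
  apply (fg (O.over W)).map_injective
  refine PresheafOfModules.hom_ext fun Z => ModuleCat.hom_ext (LinearMap.ext fun z => ?_)
  exact congrArg (fun t => t * (show O'.obj.obj (op Z.unop.left) from z))
    (NatTrans.naturality_apply φ.hom Z.unop.hom.op g).symm

include hI' hflat hinj hsurj in
set_option maxHeartbeats 1000000 in
/-- The derived unit is invertible on extensions by zero of objects killed by powers of the generators. -/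
theorem isIso_derived_unit [PreservesFiniteLimits (toRMor φ).pull] [PreservesFiniteColimits (toRMor φ).pull]
    [(toRMor φ).pull.Additive] {U : C} {r : ℕ} (b : Fin r → O.obj.obj (op U))
    (hgen : (I.over U).IsGenBy fun i => DerComp.GSec.ofSect O U (b i))
    [(ModSite.extZero O U).Additive] [PreservesFiniteLimits (ModSite.extZero O U)]
    [PreservesFiniteColimits (ModSite.extZero O U)]
    (Y : DerivedCategory (ModSite.Mod (O.over U)))
    (hY : ∀ i, ∃ N : ℕ, DerComp.GSec.ofSect O U (b i) ^ N • 𝟙 Y = 0) :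
    IsIso ((TelLocal.derivedAdjunction (E := (toRMor φ).pull) (G := res φ) (toRMor φ).adj).unit.app
      ((ModSite.extZero O U).mapDerivedCategory.obj Y)) := by
  let adj : (toRMor φ).pull ⊣ res φ := (toRMor φ).adj
  let aL := TelLocal.derivedAdjunction adj
  let Eb := (ModSite.extZero O U).mapDerivedCategory
  let s := fun i => DerComp.GSec.ofSect O U (b i)
  obtain ⟨K, ⟨e⟩⟩ : ∃ K, Nonempty (DerivedCategory.Q.obj K ≅ Y) :=
    ⟨_, ⟨(Localization.essSurj DerivedCategory.Q
      (HomologicalComplex.quasiIso (ModSite.Mod (O.over U)) (ComplexShape.up ℤ))).mem_essImage Y |>.getIso⟩⟩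
  have hH : ∀ i, ∃ N : ℕ, ∀ m : ℤ, s i ^ N • 𝟙 (K.homology m) = 0 := fun i => (hY i).imp fun N hN m => by
    have h1 : DerivedCategory.Q.map (s i ^ N • 𝟙 K) = 0 := by
      rw [Functor.map_smul, CategoryTheory.Functor.map_id, ← e.hom_inv_id, ← id_comp e.inv, ← Linear.comp_smul,
        ← Linear.smul_comp, hN, zero_comp, comp_zero]
    have h2 := (DerivedCategory.homologyFunctorFactors (ModSite.Mod (O.over U)) m).hom.naturality (s i ^ N • 𝟙 K)
    rw [Functor.comp_map, h1, Functor.map_zero, zero_comp] at h2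
    have h3 : HomologicalComplex.homologyMap (s i ^ N • 𝟙 K) m = 0 :=
      (cancel_epi ((DerivedCategory.homologyFunctorFactors _ m).hom.app K)).1 (h2.symm.trans comp_zero.symm)
    rw [← h3]
    show _ = ShortComplex.homologyMap (s i ^ N • 𝟙 (K.sc m))
    rw [ShortComplex.homologyMap_smul, ShortComplex.homologyMap_id]
    rfl
  let EK := ((ModSite.extZero O U).mapHomologicalComplex (ComplexShape.up ℤ)).obj K
  let j : Eb.obj Y ≅ DerivedCategory.Qh.obj ((HomotopyCategory.quotient _ _).obj EK) :=
    Eb.mapIso e.symm ≪≫ (ModSite.extZero O U).mapDerivedCategoryFactors.app K ≪≫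
      ((DerivedCategory.quotientCompQhIso _).app EK).symm
  refine (NatTrans.isIso_app_iff_of_iso aL.unit j).2 ?_
  have hq := quasiIso_unit_extZero φ hI' hflat hinj hsurj b hgen K hH
  have h1 : IsIso (DerivedCategory.Qh.map ((SerreDerived.adjHtpy (ComplexShape.up ℤ) adj).unit.app
      ((HomotopyCategory.quotient _ _).obj EK))) := by
    let t : EK ⟶ _ := (NatTrans.mapHomologicalComplex ((Functor.rightUnitor (ModSite.extZero O U)).inv ≫
      Functor.whiskerLeft (ModSite.extZero O U) (show 𝟭 _ ⟶ (toRMor φ).pull ⋙ res φ from adj.unit))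
      (ComplexShape.up ℤ)).app K
    haveI : QuasiIso t := hq
    haveI : IsIso (DerivedCategory.Q.map t) := inferInstance
    have ht : IsIso (DerivedCategory.Qh.map ((HomotopyCategory.quotient _ _).map t)) :=
      (NatIso.isIso_map_iff (DerivedCategory.quotientCompQhIso _) t).2 inferInstance
    refine (congrArg (fun f => IsIso (DerivedCategory.Qh.map ((HomotopyCategory.quotient _ _).map f))) ?_).mp ht
    exact HomologicalComplex.hom_ext _ _ fun m => id_comp _
  show IsIso ((TelLocal.derivedAdjunction adj).unit.app _)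
  unfold TelLocal.derivedAdjunction
  rw [Adjunction.localization_unit_app]
  infer_instance

include hI hI' hflat hinj hsurj in
set_option maxHeartbeats 1000000 in
/-- The main statement: a right adjoint of restriction, inverse on complete objects. -/
theorem exists_rightAdjoint :
    ∃ (G : DerivedCategory (ModSite.Mod O) ⥤ DerivedCategory (ModSite.Mod O'))
      (a : (res φ).mapDerivedCategory ⊣ G),
      ∀ E, DerComp.IsDerComp O I E → DerComp.IsDerComp O' I' (G.obj E) ∧ IsIso (a.counit.app E) := by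
  have := isLeftAdjoint_res φ
  haveI : (res φ).rightAdjoint.Additive := (Adjunction.ofIsLeftAdjoint (res φ)).right_adjoint_additive
  obtain ⟨G, a, hG⟩ := ExactLeftAdj.exists_rightAdjoint (Adjunction.ofIsLeftAdjoint (res φ))
  haveI := preservesFiniteLimits_pull φ hflat
  haveI : (toRMor φ).pull.Additive := (toRMor φ).adj.left_adjoint_additive
  haveI : PreservesFiniteColimits (toRMor φ).pull := by
    haveI : PreservesColimitsOfSize.{0, 0} (toRMor φ).pull := (toRMor φ).adj.leftAdjoint_preservesColimits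
    exact ⟨fun _ => inferInstance⟩
  let adj : (toRMor φ).pull ⊣ res φ := (toRMor φ).adj
  let aL := TelLocal.derivedAdjunction adj
  refine ⟨G, a, fun E hE => ?_⟩
  have hGE : DerComp.IsDerComp O' I' (G.obj E) := by
    refine (DerCompIdeal.isDerComp_iff_le I' _).2 (hI'.2 _ fun W g hg V k => ?_)
    rw [show (O'.obj.map k.op).hom ((φ.hom.app (op W)).hom g) = (φ.hom.app (op V)).hom ((O.obj.map k.op).hom g) from
      (NatTrans.naturality_apply φ.hom k.op g).symm]
    refine (hG _ _ E).1 ?_
    refine DerCompIdeal.tbOn_of_iso ((extResIso φ V).app (ModSite.unit (O'.over V))) (restr_mulOn_conj φ V _) ?_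
    haveI := ModTensor.preservesFiniteLimits_extZero O V
    haveI := ModTensor.preservesFiniteColimits_extZero O V
    haveI := ModTensor.additive_extZero O V
    haveI : PreservesFiniteColimits (ModSite.restr O V) := SuppCore.preservesFiniteColimits_restr V
    haveI : PreservesLimitsOfSize.{0, 0} (ModSite.restr O V) := (ModSite.extZeroAdj O V).rightAdjoint_preservesLimits
    haveI : PreservesFiniteLimits (ModSite.restr O V) := ⟨fun _ => inferInstance⟩
    haveI : (ModSite.restr O V).Additive := (ModSite.extZeroAdj O V).right_adjoint_additive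
    refine (TelLocal.tbOn_map_iff (ModSite.extZeroAdj O V) _ _ E).2 fun n => ?_
    rw [show DerComp.smulEnd (DerComp.GSec.ofSect O V ((O.obj.map k.op).hom g)) ((res (φU φ V)).obj (ModSite.unit (O'.over V))) =
      DerComp.GSec.ofSect O V ((O.obj.map k.op).hom g) • 𝟙 _ from (comp_id _).symm, TelLocal.mu_smul_id]
    exact TelLocal.tb_sc_of_iso _
      ((shiftFunctorCompIsoId (DerivedCategory (ModSite.Mod (O.over V))) (-n) n (by omega)).app _) (Iso.refl _)
      (TelLocal.tb_sc_shift _ n (DerCompRHom.tb_sc_restr E _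
        (fun W l => (isDerComp_iff I E).1 hE W _ (I.map_mem l (I.map_mem k hg))) _))
  refine ⟨hGE, ?_⟩
  let Rb := (res φ).mapDerivedCategory
  have hRG : DerComp.IsDerComp O I (Rb.obj (G.obj E)) :=
    (isDerComp_iff I _).2 fun V g hg =>
      (tbOn_res_iff φ _ V g).1 ((isDerComp_iff I' _).1 hGE _ _ (hI'.1 V g hg))
  obtain ⟨D, p, δ, hT⟩ := distinguished_cocone_triangle (a.counit.app E)
  refine (Triangle.isZero₃_iff_isIso₁ _ hT).1 ?_
  -- the cone is complete
  have hD : DerComp.IsDerComp O I D := fun V g hg n => by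
    refine subsingleton_of_forall_eq 0 fun x => ?_
    have h1 := hE V g hg n
    have h2 := hRG V g hg (n + 1)
    obtain ⟨y, hy⟩ := Triangle.coyoneda_exact₃ _ (Triangle.shift_distinguished _ hT n) x (by
      let e := (shiftFunctorAdd (DerivedCategory (ModSite.Mod O)) n 1).app (Rb.obj (G.obj E))
      exact (cancel_mono e.inv).1 (Subsingleton.elim _ _))
    rw [hy, show y = 0 from h1.elim _ _]
    exact zero_comp
  -- a separating family of test objects
  let good : Set C := {V | ∃ (r : ℕ) (b : Fin r → O.obj.obj (op V)), (I.over V).IsGenBy fun i => DerComp.GSec.ofSect O V (b i)}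
  refine TelLocal.isZero_of_separating (ObjectProperty.ofObj fun X : good => ModSite.freeOn O (X : C))
    (ModTensor.isSeparating_freeOn good fun X => ?_) D fun P hP n => ?_
  · obtain ⟨S, hS, hgood⟩ := hI X
    refine ⟨Σ V : C, {g : V ⟶ X // S g}, fun i => i.1, fun i => i.2.1, J.superset_covering ?_ hS,
      fun i => hgood i.2.1 i.2.2⟩
    exact fun V g hg => Sieve.ofArrows_mk _ _ (⟨V, g, hg⟩ : Σ V : C, {g : V ⟶ X // S g})
  obtain ⟨⟨U, hU⟩⟩ := hP
  obtain ⟨r, b, hgen⟩ := hU
  haveI := ModTensor.preservesFiniteLimits_extZero O U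
  haveI := ModTensor.preservesFiniteColimits_extZero O U
  haveI := ModTensor.additive_extZero O U
  haveI : PreservesFiniteColimits (ModSite.restr O U) := SuppCore.preservesFiniteColimits_restr U
  haveI : PreservesLimitsOfSize.{0, 0} (ModSite.restr O U) := (ModSite.extZeroAdj O U).rightAdjoint_preservesLimits
  haveI : PreservesFiniteLimits (ModSite.restr O U) := ⟨fun _ => inferInstance⟩
  haveI : (ModSite.restr O U).Additive := (ModSite.extZeroAdj O U).right_adjoint_additive
  let Eb := (ModSite.extZero O U).mapDerivedCategory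
  let ad := TelLocal.derivedAdjunction (ModSite.extZeroAdj O U)
  let D' := (ModSite.restr O U).mapDerivedCategory.obj D
  let s := fun i => DerComp.GSec.ofSect O U (b i)
  -- vanishing on extensions by zero
  suffices key : ∀ Y, Subsingleton (Y ⟶ D') by
    let S₀ := (DerivedCategory.singleFunctor (ModSite.Mod (O.over U)) 0).obj (ModSite.unit (O.over U))
    have h' : Subsingleton (Eb.obj (S₀⟦-n⟧) ⟶ D) := @Equiv.subsingleton _ _ (ad.homEquiv (S₀⟦-n⟧) D) (key _)
    let i : ((DerivedCategory.singleFunctor (ModSite.Mod O) 0).obj (ModSite.freeOn O U))⟦-n⟧ ≅ Eb.obj (S₀⟦-n⟧) :=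
      (shiftFunctor (DerivedCategory (ModSite.Mod O)) (-n)).mapIso
          (((ModSite.extZero O U).mapDerivedCategorySingleFunctor 0).app _).symm ≪≫
        ((Eb.commShiftIso (-n)).app S₀).symm
    refine ⟨fun f f' => (shiftFunctor (DerivedCategory (ModSite.Mod O)) (-n)).map_injective ?_⟩
    rw [← cancel_epi i.inv, ← cancel_mono ((shiftFunctorCompIsoId (DerivedCategory (ModSite.Mod O)) n (-n) (by omega)).hom.app D)]
    exact h'.elim _ _
  refine subsingleton_of_step s D' (fun i Y => DerCompRHom.tb_sc_restr D (b i)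
    (fun V g => (isDerComp_iff I D).1 hD V _ (I.map_mem g (by
      have := hgen.1 i (Over.mk (𝟙 U))
      change (O.obj.map (𝟙 U).op).hom (b i) ∈ I.ideal U at this
      rwa [op_id, CategoryTheory.Functor.map_id] at this))) Y) fun Y hY => ?_
  -- the unit is invertible on test objects killed by powers of the generators
  have hunit : ∀ Y : DerivedCategory (ModSite.Mod (O.over U)), (∀ i, ∃ N : ℕ, s i ^ N • 𝟙 Y = 0) →
      IsIso (aL.unit.app (Eb.obj Y)) := fun Y hY =>
    isIso_derived_unit φ hI' hflat hinj hsurj b hgen Y hY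
  -- postcomposition with the counit is bijective
  have hbij : ∀ X, IsIso (aL.unit.app X) →
      Function.Bijective fun y : X ⟶ Rb.obj (G.obj E) => y ≫ a.counit.app E := fun X hX => by
    have e : (fun y : X ⟶ Rb.obj (G.obj E) => y ≫ a.counit.app E) =
        (fun b => aL.unit.app X ≫ b) ∘ (a.homEquiv _ E).symm ∘ (aL.homEquiv X (G.obj E)).symm := funext fun y => by
      obtain ⟨z, rfl⟩ := (aL.homEquiv X (G.obj E)).surjective y
      rw [Function.comp_apply, Function.comp_apply, Equiv.symm_apply_apply, aL.homEquiv_unit, a.homEquiv_counit,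
        assoc]
    rw [e]
    exact Function.Bijective.comp
      ⟨fun x y h => (cancel_epi (aL.unit.app X)).1 h, fun y => ⟨inv (aL.unit.app X) ≫ y, by simp⟩⟩
      ((Equiv.bijective _).comp (Equiv.bijective _))
  refine @Equiv.subsingleton _ _ (ad.homEquiv Y D).symm (subsingleton_of_forall_eq 0 fun x => ?_)
  let X := Eb.obj Y
  have hX1 : Function.Bijective fun y : X⟦(-1 : ℤ)⟧ ⟶ Rb.obj (G.obj E) => y ≫ a.counit.app E := by
    refine hbij _ ((NatTrans.isIso_app_iff_of_iso aL.unit ((Eb.commShiftIso (-1 : ℤ)).app Y)).1 (hunit _ fun i => ?_))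
    exact (hY i).imp fun N hN => by
      rw [← CategoryTheory.Functor.map_id, ← Functor.map_smul, hN, Functor.map_zero]
  have h3 : x ≫ δ = 0 := by
    let iS := (shiftFunctorCompIsoId (DerivedCategory (ModSite.Mod O)) (1 : ℤ) (-1) (by omega)).hom.app (Rb.obj (G.obj E))
    apply (shiftFunctor (DerivedCategory (ModSite.Mod O)) (-1 : ℤ)).map_injective
    rw [← cancel_mono iS, Functor.map_zero, zero_comp]
    refine hX1.1 ?_
    show (_ ≫ iS) ≫ a.counit.app E = 0 ≫ a.counit.app E
    rw [zero_comp, assoc, show iS ≫ a.counit.app E = ((a.counit.app E)⟦(1 : ℤ)⟧')⟦(-1 : ℤ)⟧' ≫ _ from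
      ((shiftFunctorCompIsoId (DerivedCategory (ModSite.Mod O)) (1 : ℤ) (-1) (by omega)).hom.naturality _).symm,
      ← assoc, ← Functor.map_comp, assoc x]
    have h31 : δ ≫ (a.counit.app E)⟦(1 : ℤ)⟧' = 0 := comp_distTriang_mor_zero₃₁ _ hT
    rw [h31, comp_zero, Functor.map_zero, zero_comp]
  obtain ⟨y, rfl⟩ := Triangle.coyoneda_exact₃ _ hT x h3
  obtain ⟨z, rfl⟩ := (hbij X (hunit Y hY)).2 y
  show (z ≫ a.counit.app E) ≫ p = 0
  rw [assoc]
  have h12 : a.counit.app E ≫ p = 0 := comp_distTriang_mor_zero₁₂ _ hT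
  rw [h12, comp_zero]

include hI hI' hflat hinj hsurj in
/-- Restriction of scalars is an equivalence on derived complete objects. -/
theorem equivalence_derComp :
    (∀ K' L' : DerivedCategory (ModSite.Mod O'), DerComp.IsDerComp O' I' L' →
      Function.Bijective (fun ψ : K' ⟶ L' => (res φ).mapDerivedCategory.map ψ)) ∧
    ∀ E, DerComp.IsDerComp O I E → ∃ K', DerComp.IsDerComp O' I' K' ∧
      Nonempty ((res φ).mapDerivedCategory.obj K' ≅ E) := by
  obtain ⟨G, a, ha⟩ := exists_rightAdjoint φ hI hI' hflat hinj hsurj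
  refine ⟨fun K' L' hL => ?_, fun E hE =>
    ⟨G.obj E, (ha E hE).1, ⟨@asIso _ _ _ _ _ (ha E hE).2⟩⟩⟩
  have hRL : DerComp.IsDerComp O I ((res φ).mapDerivedCategory.obj L') :=
    (isDerComp_iff I _).2 fun V g hg =>
      (tbOn_res_iff φ _ V g).1 ((isDerComp_iff I' _).1 hL _ _ (hI'.1 V g hg))
  have := (ha _ hRL).2
  have : IsIso ((res φ).mapDerivedCategory.map (a.unit.app L') ≫
      a.counit.app ((res φ).mapDerivedCategory.obj L')) :=
    (a.left_triangle_components L').symm ▸ IsIso.id _
  have : IsIso ((res φ).mapDerivedCategory.map (a.unit.app L')) :=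
    IsIso.of_isIso_comp_right _ (a.counit.app ((res φ).mapDerivedCategory.obj L'))
  have := isIso_of_isIso_res φ (a.unit.app L')
  have e : (fun ψ : K' ⟶ L' => (res φ).mapDerivedCategory.map ψ) =
      (a.homEquiv K' _).symm ∘ fun ψ => ψ ≫ a.unit.app L' := funext fun ψ => by
    rw [Function.comp_apply, a.homEquiv_counit, Functor.map_comp, assoc]
    exact ((congrArg (_ ≫ ·) (a.left_triangle_components L')).trans (comp_id _)).symm
  rw [e]
  exact (a.homEquiv K' _).symm.bijective.comp ⟨fun x y h => (cancel_mono (a.unit.app L')).1 h, fun y => ⟨y ≫ inv (a.unit.app L'), by simp⟩⟩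

end Groth.Agent.DerCompEquiv
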