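import Groth.Agent.DerCompEquiv.Flat
import Groth.Agent.DerCompEquiv.ExtZero

/-!
# The unit of base change on complexes with killed cohomology
-/

set_option backward.isDefEq.respectTransparency false
set_option linter.style.haveILetI false

universe u

open CategoryTheory CategoryTheory.Category CategoryTheory.Limits Opposite
open Groth.Agent.ModTensor Groth.Agent.H9Misc.DerCompRestr

attribute [local instance] HasDerivedCategory.standard

namespace Groth.Agent.DerCompEquiv

section General

variable {R : Type*} [CommRing R] {A : Type*} [Category* A] [Abelian A] [Linear R A]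

/-- A property closed under extensions holds for objects killed by a power once it does for killed objects. -/
lemma extend_pow (P Q : A → Prop) (s : R)
    (hext : ∀ (S : ShortComplex A), S.ShortExact → P S.X₁ → P S.X₃ → P S.X₂)
    (hQ₁ : ∀ (X Y : A) (i : X ⟶ Y), Mono i → Q Y → Q X)
    (h : ∀ H : A, Q H → s • 𝟙 H = 0 → P H) :
    ∀ (N : ℕ) (H : A), Q H → s ^ N • 𝟙 H = 0 → P H := by
  intro N
  induction N with
  | zero =>
    intro H hH h0
    rw [pow_zero, one_smul] at h0
    exact h H hH (by rw [h0, smul_zero])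
  | succ N ih =>
    intro H hH h0
    let f := s • 𝟙 H
    let S := ShortComplex.mk (kernel.ι f) (Abelian.factorThruImage f) (by
      rw [← cancel_mono (Abelian.image.ι f), assoc, Abelian.image.fac, kernel.condition, zero_comp])
    have hS : S.ShortExact :=
      { exact := ShortComplex.exact_of_f_is_kernel _ (KernelFork.IsLimit.ofι _ _
          (fun {W} g hg => kernel.lift f g (by
            rw [← Abelian.image.fac f, ← assoc]
            exact (congrArg (· ≫ Abelian.image.ι f) hg).trans zero_comp))
          (fun {W} g hg => kernel.lift_ι _ _ _)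
          (fun {W} g hg m hm => (cancel_mono (kernel.ι f)).1 (hm.trans (kernel.lift_ι _ _ _).symm))) }
    refine hext S hS (h _ (hQ₁ _ _ (kernel.ι f) inferInstance hH) ?_) (ih _ (hQ₁ _ _ (Abelian.image.ι f) inferInstance hH) ?_)
    · rw [← cancel_mono (kernel.ι f), Linear.smul_comp, id_comp, zero_comp]
      have e := kernel.condition f
      rwa [Linear.comp_smul, comp_id] at e
    · rw [← cancel_epi (Abelian.factorThruImage f), comp_zero, ← cancel_mono (Abelian.image.ι f), zero_comp,
        Linear.comp_smul, comp_id, Linear.smul_comp, Abelian.image.fac]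
      show s ^ N • (s • 𝟙 H) = 0
      rw [smul_smul, ← pow_succ, h0]

end General

variable {C : Type u} [SmallCategory C] {J : GrothendieckTopology C} {O O' : Sheaf J CommRingCat.{u}}
  (φ : O ⟶ O') {I : DerComp.IdealSh O} {I' : DerComp.IdealSh O'} (hI' : DerComp.IsIdealExt φ I I')
  (hflat : ModSite.IsFlat ((res φ).obj (ModSite.unit O')))
  (hinj : ∀ (U : C) (f : O.obj.obj (op U)), (φ.hom.app (op U)).hom f ∈ I'.ideal U → f ∈ I.ideal U)
  (hsurj : ∀ (U : C) (f' : O'.obj.obj (op U)), ∃ S ∈ J U, ∀ ⦃V : C⦄ (g : V ⟶ U), S g →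
    ∃ a : O.obj.obj (op V), (O'.obj.map g.op).hom f' - (φ.hom.app (op V)).hom a ∈ I'.ideal V)
  [PreservesFiniteLimits (res φ)] [PreservesFiniteColimits (res φ)]
  {U : C} {r : ℕ} (a : Fin r → O.obj.obj (op U))
  (hgen : (I.over U).IsGenBy fun i => DerComp.GSec.ofSect O U (a i))

include hI' hflat hinj hsurj hgen in
/-- The unit is an isomorphism on extensions by zero of modules killed by powers of the generators. -/
theorem isIso_unit_extZero (H : ModSite.Mod (O.over U))
    (h : ∀ i, ∃ N : ℕ, DerComp.GSec.ofSect O U (a i) ^ N • 𝟙 H = 0) :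
    IsIso ((toRMor φ).adj.unit.app ((ModSite.extZero O U).obj H)) := by
  classical
  haveI := preservesFiniteLimits_pull φ hflat
  haveI := ModTensor.preservesFiniteLimits_extZero O U
  haveI := ModTensor.preservesFiniteColimits_extZero O U
  haveI : (toRMor φ).pull.Additive := (toRMor φ).adj.left_adjoint_additive
  haveI : PreservesFiniteColimits (toRMor φ).pull := by
    haveI : PreservesColimitsOfSize.{0, 0} (toRMor φ).pull := (toRMor φ).adj.leftAdjoint_preservesColimits
    exact ⟨fun _ => inferInstance⟩
  let s := fun i => DerComp.GSec.ofSect O U (a i)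
  let adj : (toRMor φ).pull ⊣ res φ := (toRMor φ).adj
  let E := ModSite.extZero O U
  let F := E ⋙ (toRMor φ).pull ⋙ res φ
  let P : ModSite.Mod (O.over U) → Prop := fun H => IsIso (adj.unit.app (E.obj H))
  have hext : ∀ (S : ShortComplex (ModSite.Mod (O.over U))), S.ShortExact → P S.X₁ → P S.X₃ → P S.X₂ := by
    intro S hS h1 h3
    let τ : S.map E ⟶ S.map F := S.mapNatTrans ((Functor.rightUnitor E).inv ≫ Functor.whiskerLeft E adj.unit)
    have e : ∀ X, ((Functor.rightUnitor E).inv ≫ Functor.whiskerLeft E adj.unit).app X = adj.unit.app (E.obj X) :=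
      fun X => id_comp _
    have : IsIso τ.τ₁ := by rw [show τ.τ₁ = adj.unit.app (E.obj S.X₁) from e _]; exact h1
    have : IsIso τ.τ₃ := by rw [show τ.τ₃ = adj.unit.app (E.obj S.X₃) from e _]; exact h3
    have := ShortComplex.isIso₂_of_shortExact_of_isIso₁₃ τ (hS.map_of_exact E) (hS.map_of_exact F)
    show IsIso (adj.unit.app (E.obj S.X₂))
    rw [← e S.X₂]
    exact this
  suffices key : ∀ k : ℕ, ∀ H : ModSite.Mod (O.over U),
      (∀ i : Fin r, if (i : ℕ) < k then ∃ N : ℕ, s i ^ N • 𝟙 H = 0 else s i • 𝟙 H = 0) → P H by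
    exact key r H fun i => by rw [if_pos i.2]; exact h i
  intro k
  induction k with
  | zero =>
    intro H hH
    refine isIso_unit_of_killed φ hI' hinj hsurj (killed_extZero ?_)
    intro V f hf x
    refine killed_of_isGenBy (I := I.over U) (ι := ULift.{u} (Fin r)) (s := fun i => s i.down)
      ⟨fun i => hgen.1 i.down, fun I'' h'' => hgen.2 I'' fun i => h'' ⟨i⟩⟩ H (fun i => ?_) V f hf x
    have h0 : s i.down • 𝟙 H = 0 := by
      have := hH i.down
      rwa [if_neg (Nat.not_lt_zero _)] at this
    rw [DerComp.smul_def, comp_id] at h0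
    exact h0
  | succ k ih =>
    intro H hH
    by_cases hk : k < r
    · obtain ⟨N, hN⟩ : ∃ N : ℕ, s ⟨k, hk⟩ ^ N • 𝟙 H = 0 := by
        have := hH ⟨k, hk⟩
        rwa [if_pos (Nat.lt_succ_self k)] at this
      refine extend_pow P (fun H => ∀ i : Fin r, (i : ℕ) ≠ k →
        if (i : ℕ) < k then ∃ N : ℕ, s i ^ N • 𝟙 H = 0 else s i • 𝟙 H = 0) (s ⟨k, hk⟩) hext ?_ ?_ N H ?_ hN
      · intro X Y j _ hY i hi
        have hz : ∀ c : DerComp.GSec (O.over U), c • 𝟙 Y = 0 → c • 𝟙 X = 0 := fun c hc => by
          rw [← cancel_mono j, zero_comp, Linear.smul_comp, id_comp, ← comp_id j, ← Linear.comp_smul, hc, comp_zero]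
        have := hY i hi
        split_ifs at this ⊢ with hik
        · obtain ⟨N, hN⟩ := this; exact ⟨N, hz _ hN⟩
        · exact hz _ this
      · intro X hX hX0
        refine ih X fun i => ?_
        by_cases hi : (i : ℕ) = k
        · obtain rfl : i = ⟨k, hk⟩ := Fin.ext hi
          rw [if_neg (lt_irrefl _)]
          exact hX0
        · exact hX i hi
      · intro i hi
        have := hH i
        rcases Nat.lt_or_gt_of_ne hi with hlt | hgt
        · rw [if_pos hlt]; rwa [if_pos (by omega)] at this
        · rw [if_neg (by omega)]; rwa [if_neg (by omega)] at this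
    · refine ih H fun i => ?_
      have := hH i
      rw [if_pos (show (i : ℕ) < k by omega)]
      rwa [if_pos (show (i : ℕ) < k + 1 by omega)] at this

include hI' hflat hinj hsurj hgen in
/-- The unit is a quasi-isomorphism on complexes over `U` killed by powers of the generators. -/
theorem quasiIso_unit_extZero [(ModSite.extZero O U).Additive]
    (K : CochainComplex (ModSite.Mod (O.over U)) ℤ)
    (h : ∀ (i : Fin r), ∃ N : ℕ, ∀ n : ℤ, DerComp.GSec.ofSect O U (a i) ^ N • 𝟙 (K.homology n) = 0) :
    ∀ [(toRMor φ).pull.Additive], QuasiIso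
      ((NatTrans.mapHomologicalComplex
        ((Functor.rightUnitor (ModSite.extZero O U)).inv ≫
          Functor.whiskerLeft (ModSite.extZero O U) (show 𝟭 _ ⟶ (toRMor φ).pull ⋙ res φ from (toRMor φ).adj.unit))
        (ComplexShape.up ℤ)).app K) := by
  intro
  haveI := preservesFiniteLimits_pull φ hflat
  haveI := ModTensor.preservesFiniteLimits_extZero O U
  haveI := ModTensor.preservesFiniteColimits_extZero O U
  haveI : PreservesFiniteColimits (toRMor φ).pull := by
    haveI : PreservesColimitsOfSize.{0, 0} (toRMor φ).pull := (toRMor φ).adj.leftAdjoint_preservesColimits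
    exact ⟨fun _ => inferInstance⟩
  refine ⟨fun n => ?_⟩
  rw [quasiIsoAt_iff_isIso_homologyMap]
  let τ := (Functor.rightUnitor (ModSite.extZero O U)).inv ≫
    Functor.whiskerLeft (ModSite.extZero O U) (show 𝟭 _ ⟶ (toRMor φ).pull ⋙ res φ from (toRMor φ).adj.unit)
  have hiso : IsIso (τ.app (K.sc n).homology) := by
    rw [show τ.app (K.sc n).homology = _ from id_comp _]
    exact isIso_unit_extZero φ hI' hflat hinj hsurj a hgen _ fun i => (h i).imp fun N hN => hN n
  show IsIso (ShortComplex.homologyMap ((K.sc n).mapNatTrans τ))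
  rw [NatTrans.app_homology τ (K.sc n)] at hiso
  rw [isIso_comp_left_iff, isIso_comp_right_iff] at hiso
  exact hiso

end Groth.Agent.DerCompEquiv
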