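import Groth.Agent.DerCompEquiv.Main
import Groth.Agent.H9Misc.DerCompT
import Groth.Agent.QCohAlg.Over

/-!
# Objects without maps into complete objects, and objects killed by powers of generators
-/

set_option backward.isDefEq.respectTransparency false
set_option linter.style.haveILetI false

universe u

open CategoryTheory CategoryTheory.Category CategoryTheory.Limits CategoryTheory.Pretriangulated Opposite
open ZeroObject
open Groth.Agent.ModTensor Groth.Agent.H9Misc Groth.Agent.H9Misc.DerCompTel

attribute [local instance] HasDerivedCategory.standard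

namespace Groth.Agent.DerCompEquiv

section Abstract

variable {R : Type*} [CommRing R]

/-- An object killed by powers of the given scalars. -/
def KilledPow {T : Type*} [Category* T] [Preadditive T] [Linear R T] {r : ℕ} (s : Fin r → R) (Y : T) : Prop :=
  ∀ i, ∃ N : ℕ, s i ^ N • 𝟙 Y = 0

lemma KilledPow.map {T T' : Type*} [Category* T] [Preadditive T] [Linear R T] [Category* T'] [Preadditive T']
    [Linear R T'] (F : T ⥤ T') [F.Additive] [F.Linear R] {r : ℕ} {s : Fin r → R} {Y : T} (h : KilledPow s Y) :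
    KilledPow s (F.obj Y) := fun i =>
  (h i).imp fun N hN => by rw [← F.map_id, ← F.map_smul, hN, F.map_zero]

lemma KilledPow.of_iso {T : Type*} [Category* T] [Preadditive T] [Linear R T] {r : ℕ} {s : Fin r → R} {Y Y' : T}
    (e : Y ≅ Y') (h : KilledPow s Y) : KilledPow s Y' := fun i =>
  (h i).imp fun N hN => by
    rw [← e.inv_hom_id, ← Linear.smul_comp, ← comp_id e.inv, ← Linear.comp_smul, hN, comp_zero, zero_comp]

/-- Extension closed properties of killed objects extend to objects killed by powers. -/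
lemma extend_pows {A : Type*} [Category* A] [Abelian A] [Linear R A] {r : ℕ} (s : Fin r → R) (P : A → Prop)
    (hext : ∀ (S : ShortComplex A), S.ShortExact → P S.X₁ → P S.X₃ → P S.X₂)
    (h : ∀ H : A, (∀ i, s i • 𝟙 H = 0) → P H) (H : A) (hH : KilledPow s H) : P H := by
  classical
  suffices key : ∀ k : ℕ, ∀ H : A,
      (∀ i : Fin r, if (i : ℕ) < k then ∃ N : ℕ, s i ^ N • 𝟙 H = 0 else s i • 𝟙 H = 0) → P H by
    exact key r H fun i => by rw [if_pos i.2]; exact hH i
  intro k
  induction k with
  | zero =>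
    exact fun H hH => h H fun i => by
      have := hH i
      rwa [if_neg (Nat.not_lt_zero _)] at this
  | succ k ih =>
    intro H hH
    by_cases hk : k < r
    · obtain ⟨N, hN⟩ : ∃ N : ℕ, s ⟨k, hk⟩ ^ N • 𝟙 H = 0 := by
        have := hH ⟨k, hk⟩
        rwa [if_pos (Nat.lt_succ_self k)] at this
      refine extend_pow P (fun H => ∀ i : Fin r, (i : ℕ) ≠ k →
        if (i : ℕ) < k then ∃ N : ℕ, s i ^ N • 𝟙 H = 0 else s i • 𝟙 H = 0) (s ⟨k, hk⟩) hext ?_ ?_ N H ?_ hN
      · intro X Y j _ hY i hi
        have hz : ∀ c : R, c • 𝟙 Y = 0 → c • 𝟙 X = 0 := fun c hc => by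
          rw [← cancel_mono j, zero_comp, Linear.smul_comp, id_comp, ← comp_id j, ← Linear.comp_smul, hc, comp_zero]
        have := hY i hi
        split_ifs at this ⊢ with hik
        · obtain ⟨N, hN⟩ := this; exact ⟨N, hz _ hN⟩
        · exact hz _ this
      · intro X hX hX0
        refine ih X fun i => ?_
        by_cases hi : (i : ℕ) = k
        · obtain rfl : i = ⟨k, hk⟩ := Fin.ext hi
          rw [if_neg (lt_irrefl _)]
          exact hX0
        · exact hX i hi
      · intro i hi
        have := hH i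
        rcases Nat.lt_or_gt_of_ne hi with hlt | hgt
        · rw [if_pos hlt]; rwa [if_pos (by omega)] at this
        · rw [if_neg (by omega)]; rwa [if_neg (by omega)] at this
    · refine ih H fun i => ?_
      have := hH i
      rw [if_pos (show (i : ℕ) < k by omega)]
      rwa [if_pos (show (i : ℕ) < k + 1 by omega)] at this

variable {A : Type*} [Category* A] [Abelian A] [HasDerivedCategory A] [Linear R A]

/-- A property descends along cones of scalars from objects killed by powers of the scalars. -/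
lemma vanish_of_step {r : ℕ} (s : Fin r → R) (Q V : DerivedCategory A → Prop)
    (hQ : ∀ (i : Fin r) (Y Z : DerivedCategory A) (p : Y ⟶ Z) (δ : Z ⟶ Y⟦(1 : ℤ)⟧),
      Triangle.mk (s i • 𝟙 Y) p δ ∈ Pretriangulated.distinguishedTriangles → Q Y → Q Z)
    (hV : ∀ (i : Fin r) (Y Z : DerivedCategory A) (p : Y ⟶ Z) (δ : Z ⟶ Y⟦(1 : ℤ)⟧),
      Triangle.mk (s i • 𝟙 Y) p δ ∈ Pretriangulated.distinguishedTriangles → Q Y → V Z → V Y)
    (h0 : ∀ Y, Q Y → KilledPow s Y → V Y) (Y : DerivedCategory A) (hY : Q Y) : V Y := by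
  suffices key : ∀ k, k ≤ r → ∀ Y : DerivedCategory A,
      (∀ i : Fin r, k ≤ (i : ℕ) → ∃ N : ℕ, s i ^ N • 𝟙 Y = 0) → Q Y → V Y by
    exact key r le_rfl Y (fun i hi => absurd i.2 (by omega)) hY
  intro k
  induction k with
  | zero => exact fun _ Y hY hQY => h0 Y hQY fun i => hY i (Nat.zero_le _)
  | succ k ih =>
    intro hk Y hY hQY
    let kk : Fin r := ⟨k, Nat.lt_of_succ_le hk⟩
    let c := s kk
    obtain ⟨Z, p, δ, hT⟩ := distinguished_cocone_triangle (c • 𝟙 Y)
    refine hV kk Y Z p δ hT hQY (ih (by omega) Z (fun i hi => ?_) (hQ kk Y Z p δ hT hQY))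
    have hp : c • p = 0 := by
      have := comp_distTriang_mor_zero₁₂ _ hT
      rwa [show (Triangle.mk (c • 𝟙 Y) p δ).mor₁ ≫ (Triangle.mk (c • 𝟙 Y) p δ).mor₂ = (c • 𝟙 Y) ≫ p from rfl,
        Linear.smul_comp, id_comp] at this
    have hδ : c • δ = 0 := by
      have := comp_distTriang_mor_zero₃₁ _ hT
      rwa [show (Triangle.mk (c • 𝟙 Y) p δ).mor₃ ≫ (Triangle.mk (c • 𝟙 Y) p δ).mor₁⟦(1 : ℤ)⟧' = δ ≫ (c • 𝟙 Y)⟦(1 : ℤ)⟧' from rfl,
        Functor.map_smul, CategoryTheory.Functor.map_id, Linear.comp_smul, comp_id] at this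
    have hZ : ∀ a b : R, a • δ = 0 → b • p = 0 → (a * b) • 𝟙 Z = 0 := fun a b ha hb => by
      obtain ⟨x, hx⟩ := Triangle.coyoneda_exact₃ _ hT (a • 𝟙 Z) (by
        show (a • 𝟙 Z) ≫ δ = 0
        rw [Linear.smul_comp, id_comp, ha])
      rw [mul_comm, mul_smul]
      refine (congrArg (b • ·) hx).trans ?_
      show b • (x ≫ p) = 0
      rw [← Linear.comp_smul, hb, comp_zero]
    rcases Nat.eq_or_lt_of_le hi with e | e
    · rw [show i = kk from Fin.ext e.symm]
      exact ⟨2, by rw [pow_two]; exact hZ c c hδ hp⟩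
    · obtain ⟨N, hN⟩ := hY i e
      refine ⟨N + N, ?_⟩
      rw [pow_add]
      refine hZ _ _ ?_ ?_
      · rw [← comp_id δ, ← Linear.comp_smul, ← CategoryTheory.Functor.map_id, ← Functor.map_smul, hN,
          Functor.map_zero, comp_zero]
      · rw [← id_comp p, ← Linear.smul_comp, hN, zero_comp]

variable {T : Type*} [Category* T] [Preadditive T] [HasZeroObject T] [HasShift T ℤ]
  [∀ n : ℤ, (shiftFunctor T n).Additive] [Pretriangulated T]

lemma bijective_pre_of_triangle {Y₁ Y₂ Z X : T} {f : Y₁ ⟶ Y₂} {p : Y₂ ⟶ Z} {δ : Z ⟶ Y₁⟦(1 : ℤ)⟧}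
    (hT : Triangle.mk f p δ ∈ Pretriangulated.distinguishedTriangles)
    (h : ∀ n : ℤ, Subsingleton (Z ⟶ X⟦n⟧)) (n : ℤ) : Function.Bijective fun g : Y₂ ⟶ X⟦n⟧ => f ≫ g := by
  refine ⟨fun a b hab => ?_, fun g => ?_⟩
  · obtain ⟨x, hx⟩ := Triangle.yoneda_exact₂ _ hT (a - b) (by
      show f ≫ (a - b) = 0
      rw [Preadditive.comp_sub, sub_eq_zero]
      exact hab)
    rw [← sub_eq_zero, hx, show x = 0 from (h n).elim x 0]
    exact comp_zero
  · let e := (shiftFunctorAdd T n 1).app X
    have hs : Subsingleton (Z ⟶ (X⟦n⟧)⟦(1 : ℤ)⟧) := e.homToEquiv.symm.subsingleton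
    obtain ⟨y, hy⟩ := Triangle.yoneda_exact₃ _ (rot_of_distTriang _ hT) (g⟦(1 : ℤ)⟧') (hs.elim _ _)
    obtain ⟨y', rfl⟩ := (shiftFunctor T (1 : ℤ)).map_surjective y
    refine ⟨-y', (shiftFunctor T (1 : ℤ)).map_injective ?_⟩
    refine Eq.trans ?_ hy.symm
    show (f ≫ (-y'))⟦(1 : ℤ)⟧' = (-f⟦(1 : ℤ)⟧') ≫ y'⟦(1 : ℤ)⟧'
    rw [Functor.map_comp, Functor.map_neg, Preadditive.neg_comp, Preadditive.comp_neg]

lemma bijective_post_of_triangle {Y₁ Y₂ Z K : T} {f : Y₁ ⟶ Y₂} {p : Y₂ ⟶ Z} {δ : Z ⟶ Y₁⟦(1 : ℤ)⟧}
    (hT : Triangle.mk f p δ ∈ Pretriangulated.distinguishedTriangles)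
    (h₀ : Subsingleton (K ⟶ Z)) (h₁ : Subsingleton (K ⟶ Z⟦(-1 : ℤ)⟧)) :
    Function.Bijective fun g : K ⟶ Y₁ => g ≫ f := by
  refine ⟨fun a b hab => ?_, fun g => ?_⟩
  · obtain ⟨x, hx⟩ := Triangle.coyoneda_exact₂ _ (inv_rot_of_distTriang _ hT) (a - b) (by
      show (a - b) ≫ f = 0
      rw [Preadditive.sub_comp, sub_eq_zero]
      exact hab)
    rw [← sub_eq_zero, hx, show x = 0 from h₁.elim x 0]
    exact zero_comp
  · obtain ⟨x, hx⟩ := Triangle.coyoneda_exact₂ _ hT g (h₀.elim _ _)
    exact ⟨x, hx.symm⟩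

/-- A nilpotent bijective endomorphism acts on the zero group. -/
lemma subsingleton_of_nilpotent {M : Type*} [AddCommGroup M] [Module R M] (c : R) (N : ℕ)
    (hN : ∀ m : M, c ^ N • m = 0) (hb : Function.Bijective fun m : M => c • m) : Subsingleton M := by
  refine subsingleton_of_forall_eq 0 fun m => ?_
  have key : ∀ k : ℕ, Function.Injective fun m : M => c ^ k • m := fun k => by
    induction k with
    | zero => exact fun x y hxy => by simpa using hxy
    | succ k ih =>
      intro x y hxy
      simp only [pow_succ, mul_smul] at hxy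
      exact hb.1 (ih hxy)
  exact key N (by simp only [hN])

lemma tb_sc_of_nilpotent {M : Type*} [AddCommGroup M] (f : M →+ M) (N : ℕ) (hN : ∀ m, f^[N] m = 0) :
    TelBij.TB f := by
  refine ⟨(injective_iff_map_eq_zero _).2 fun x hx => funext fun k => ?_, fun y => ?_⟩
  · have h : ∀ j k, x k = f^[j] (x (k + j)) := fun j => by
      induction j with
      | zero => exact fun k => rfl
      | succ j ih =>
        intro k
        rw [Function.iterate_succ_apply]
        exact (ih k).trans (congrArg _ (sub_eq_zero.1 (congrFun hx (k + j))))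
    rw [h N k, hN]
    rfl
  · refine ⟨fun k => ∑ j ∈ Finset.range N, f^[j] (y (k + j)), funext fun k => ?_⟩
    rw [TelBij.tel_apply, map_sum,
      Finset.sum_congr rfl fun j _ => (show f (f^[j] (y (k + 1 + j))) = f^[j + 1] (y (k + (j + 1))) by
        rw [Function.iterate_succ_apply', Nat.add_assoc k 1 j, Nat.add_comm 1 j]),
      ← Finset.sum_sub_distrib, Finset.sum_range_sub' (fun j => f^[j] (y (k + j))) N, hN]
    simp

end Abstract

variable {C : Type u} [SmallCategory C] {J : GrothendieckTopology C} {O : Sheaf J CommRingCat.{u}}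

instance linear_tensorFlip (T : ModSite.Mod O) :
    ((ModSite.tensorBi O).flip.obj T).Linear (DerComp.GSec O) where
  map_smul {M N} f c := by
    rw [DerComp.smul_def, DerComp.smul_def, Functor.map_comp]
    exact congrArg (· ≫ _) (TensorLinear.tensorBi_map_smulEnd c M T)

/-- Homology of an object killed by powers is killed by powers. -/
lemma killedPow_homology {r : ℕ} {s : Fin r → DerComp.GSec O} (K : CochainComplex (ModSite.Mod O) ℤ)
    (h : KilledPow s (DerivedCategory.Q.obj K)) (m : ℤ) : KilledPow s (K.homology m) := fun i =>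
  (h i).imp fun N hN => by
    have h1 : DerivedCategory.Q.map (s i ^ N • 𝟙 K) = 0 := by
      rw [Functor.map_smul, CategoryTheory.Functor.map_id, hN]
    have h2 := (DerivedCategory.homologyFunctorFactors (ModSite.Mod O) m).hom.naturality (s i ^ N • 𝟙 K)
    rw [Functor.comp_map, h1, Functor.map_zero, zero_comp] at h2
    have h3 : HomologicalComplex.homologyMap (s i ^ N • 𝟙 K) m = 0 :=
      (cancel_epi ((DerivedCategory.homologyFunctorFactors _ m).hom.app K)).1 (h2.symm.trans comp_zero.symm)
    rw [← h3]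
    show _ = ShortComplex.homologyMap (s i ^ N • 𝟙 (K.sc m))
    rw [ShortComplex.homologyMap_smul, ShortComplex.homologyMap_id]
    rfl

variable (I : DerComp.IdealSh O) {U : C} {r : ℕ} (b : Fin r → O.obj.obj (op U))
  (hgen : (I.over U).IsGenBy fun i => DerComp.GSec.ofSect O U (b i))

include hgen in
set_option maxHeartbeats 1000000 in
/-- Killed modules become zero after tensoring with a localisation at a section of the ideal. -/
theorem isZero_tensor_away (V : C) (g : O.obj.obj (op V)) (hg : g ∈ I.ideal V)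
    (M : ModSite.Mod (O.over U)) (hM : ∀ i, DerComp.GSec.ofSect O U (b i) • 𝟙 M = 0) :
    IsZero (((ModSite.tensorBi (O.over U)).obj M).obj
      ((ModSite.restr O U).obj ((ModSite.extZero O V).obj (DerComp.awayOver O V g)))) := by
  let A := DerComp.awayOver O V g
  let Z := (ModSite.extZero O U).obj M
  have hMk : Killed (I.over U) M :=
    killed_of_isGenBy (I := I.over U) (ι := ULift.{u} (Fin r)) (s := fun i => DerComp.GSec.ofSect O U (b i.down))
      ⟨fun i => hgen.1 i.down, fun I'' h'' => hgen.2 I'' fun i => h'' ⟨i⟩⟩ M fun i => by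
        have h0 := hM i.down
        rwa [DerComp.smul_def, comp_id] at h0
  have hZ : Killed I Z := killed_extZero hMk
  let ZV := (ModSite.restr O V).obj Z
  let s := DerComp.GSec.ofSect O V g
  have hs : DerComp.smulEnd s ZV = 0 := by
    apply (fg (O.over V)).map_injective
    refine PresheafOfModules.hom_ext fun Y => ModuleCat.hom_ext (LinearMap.ext fun y => ?_)
    exact hZ Y.unop.left _ (I.map_mem Y.unop.hom hg) y
  have h0 : IsZero (((ModSite.tensorBi (O.over V)).obj A).obj ZV) := by
    have : IsIso (DerComp.smulEnd s A) := DerCompT.isIso_smulEnd_locAway s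
    have h1 : ((ModSite.tensorBi (O.over V)).map (DerComp.smulEnd s A)).app ZV = 0 := by
      rw [TensorLinear.tensorBi_map_smulEnd, ← DerCompT.tensorBi_obj_map_smulEnd, hs, Functor.map_zero]
    have : IsIso (((ModSite.tensorBi (O.over V)).map (DerComp.smulEnd s A)).app ZV) := inferInstance
    rw [IsZero.iff_id_eq_zero, ← IsIso.hom_inv_id (((ModSite.tensorBi (O.over V)).map (DerComp.smulEnd s A)).app ZV)]
    exact (congrArg (· ≫ inv (((ModSite.tensorBi (O.over V)).map (DerComp.smulEnd s A)).app ZV)) h1).trans zero_comp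
  haveI := additive_extZero O V
  refine isZero_of_isZero_extZero _ (IsZero.of_iso ?_
    ((extZeroTensorIso O U ((ModSite.extZero O V).obj A)).app M))
  refine IsZero.of_iso ((ModSite.extZero O V).map_isZero h0) ?_
  let X := (ModSite.extZero O V).obj A
  let e1 : ((ModSite.tensorBi O).flip.obj X).obj Z ≅ ((ModSite.tensorBi O).obj X).obj Z :=
    Iso.app ((tensorFlipIso O).app X) Z
  let e2 : (ModSite.extZero O V).obj (((ModSite.tensorBi (O.over V)).obj A).obj ((ModSite.restr O V).obj Z)) ≅
      ((ModSite.tensorBi O).obj X).obj Z :=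
    (extZeroTensorIsoLeft O V A).app Z
  exact e1 ≪≫ e2.symm

set_option maxHeartbeats 1000000 in
/-- The localisation restricted to `U` is flat. -/
theorem isFlat_restr_away (V : C) (g : O.obj.obj (op V)) :
    ModSite.IsFlat ((ModSite.restr O U).obj ((ModSite.extZero O V).obj (DerComp.awayOver O V g))) := by
  refine isFlat_restr (isFlat_extZero ?_) U
  haveI : ∀ M, PreservesColimitsOfShape ℕ ((ModSite.tensorBi (O.over V)).obj M) := fun M => by
    have : PreservesColimitsOfSize.{0, 0} ((ModSite.tensorBi (O.over V)).obj M) :=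
      preservesColimitsOfSize_shrink.{0, u, 0, u} _
    infer_instance
  have hu : ModSite.IsFlat (ModSite.unit (O.over V)) := (isFlat_iff_preservesFiniteLimits _).2
    (preservesFiniteLimits_of_natIso ((unitTensorIso (O.over V)).symm ≪≫
      ((tensorFlipIso (O.over V)).app (ModSite.unit (O.over V))).symm))
  exact isFlat_of_isColimit (D := DerCompT.seq (DerComp.GSec.ofSect O V g)) (fun _ => hu)
    (DerCompT.isColimitAwayCocone (DerComp.GSec.ofSect O V g))

include hgen in
set_option maxHeartbeats 2000000 in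
/-- No maps from a localisation at a section of the ideal into an object killed by powers of the generators. -/
theorem subsingleton_away_to_killed (V : C) (g : O.obj.obj (op V)) (hg : g ∈ I.ideal V)
    (N : DerivedCategory (ModSite.Mod (O.over U)))
    (hN : KilledPow (fun i => DerComp.GSec.ofSect O U (b i)) N) (n : ℤ) :
    Subsingleton ((DerivedCategory.singleFunctor (ModSite.Mod (O.over U)) 0).obj
      ((ModSite.restr O U).obj ((ModSite.extZero O V).obj (DerComp.awayOver O V g))) ⟶ N⟦n⟧) := by
  let T := (ModSite.restr O U).obj ((ModSite.extZero O V).obj (DerComp.awayOver O V g))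
  let s := fun i => DerComp.GSec.ofSect O U (b i)
  let Φ := (ModSite.tensorBi (O.over U)).flip.obj T
  have hT := isFlat_restr_away (O := O) (U := U) V g
  haveI : PreservesFiniteLimits Φ := hT.1
  haveI : PreservesFiniteColimits Φ := hT.2
  haveI : PreservesColimitsOfSize.{0, 0} Φ := preservesColimitsOfSize_shrink.{0, u, 0, u} _
  haveI : Φ.Additive := Functor.additive_of_preserves_binary_products Φ
  haveI : Φ.Linear (DerComp.GSec (O.over U)) := linear_tensorFlip T
  let F := Φ.mapDerivedCategory
  haveI : F.Linear (DerComp.GSec (O.over U)) := inferInstance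
  let V' : DerivedCategory (ModSite.Mod (O.over U)) → Prop := fun Y => ∀ n : ℤ, Subsingleton (F.obj Y ⟶ N⟦n⟧)
  have hV : ∀ Y, V' Y := fun Y => by
    refine vanish_of_step s (fun _ => True) V' (fun _ _ _ _ _ _ _ => trivial) ?_ (fun Y _ hY => ?_) Y trivial
    · intro i Y Z p δ hTr _ hZ m
      obtain ⟨M, hM⟩ := (hN.map (shiftFunctor (DerivedCategory (ModSite.Mod (O.over U))) m)) i
      have hb := bijective_pre_of_triangle (F.map_distinguished _ hTr) hZ m
      refine subsingleton_of_nilpotent (s i) M (fun x => ?_) ?_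
      · rw [← comp_id x, ← Linear.comp_smul, hM, comp_zero]
      · have e : (fun x : F.obj Y ⟶ N⟦m⟧ => s i • x) = fun x => F.map (s i • 𝟙 Y) ≫ x := funext fun x => by
          rw [F.map_smul, F.map_id, Linear.smul_comp, id_comp]
        rw [e]
        exact hb
    · intro m
      obtain ⟨K, ⟨e⟩⟩ : ∃ K, Nonempty (DerivedCategory.Q.obj K ≅ Y) :=
        ⟨_, ⟨(Localization.essSurj DerivedCategory.Q
          (HomologicalComplex.quasiIso (ModSite.Mod (O.over U)) (ComplexShape.up ℤ))).mem_essImage Y |>.getIso⟩⟩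
      have hH : ∀ j : ℤ, KilledPow s (K.homology j) := killedPow_homology K (hY.of_iso e.symm)
      have hz : ∀ j : ℤ, IsZero (Φ.obj (K.homology j)) := fun j => by
        refine extend_pows s (fun M => IsZero (Φ.obj M)) (fun S hS h1 h3 => ?_) (fun M hM => ?_) _ (hH j)
        · exact (hS.map_of_exact Φ).exact.isZero_of_both_zeros (h1.eq_of_src _ _) (h3.eq_of_tgt _ _)
        · exact isZero_tensor_away I b hgen V g hg M hM
      have h1 : IsZero (DerivedCategory.Q.obj ((Φ.mapHomologicalComplex (ComplexShape.up ℤ)).obj K)) :=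
        (FinDimDerived.isZero_Q_obj_iff _).2 fun j =>
          (HomologicalComplex.exactAt_iff_isZero_homology _ _).2 ((hz j).of_iso ((K.sc j).mapHomologyIso Φ))
      have h2 : IsZero (F.obj Y) := h1.of_iso (F.mapIso e.symm ≪≫ Φ.mapDerivedCategoryFactors.app K)
      exact ⟨fun x y => h2.eq_of_src x y⟩
  let eT : F.obj ((DerivedCategory.singleFunctor _ 0).obj (ModSite.unit (O.over U))) ≅
      (DerivedCategory.singleFunctor _ 0).obj T :=
    (Φ.mapDerivedCategorySingleFunctor 0).app _ ≪≫
      (DerivedCategory.singleFunctor _ 0).mapIso ((unitTensorIso (O.over U)).app T)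
  exact @Equiv.subsingleton _ _ eT.homFromEquiv.symm (hV _ n)

include hgen in
set_option maxHeartbeats 1000000 in
/-- No maps from objects killed by powers of the generators into restrictions of orthogonal objects. -/
theorem subsingleton_killed_to_orth [(ModSite.restr O U).Additive]
    [PreservesFiniteLimits (ModSite.restr O U)] [PreservesFiniteColimits (ModSite.restr O U)]
    (F : DerivedCategory (ModSite.Mod O))
    (hF : ∀ E, DerComp.IsDerComp O I E → Subsingleton (F ⟶ E))
    (K : DerivedCategory (ModSite.Mod (O.over U)))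
    (hK : KilledPow (fun i => DerComp.GSec.ofSect O U (b i)) K) :
    Subsingleton (K ⟶ (ModSite.restr O U).mapDerivedCategory.obj F) := by
  let s := fun i => DerComp.GSec.ofSect O U (b i)
  let Rs := (ModSite.restr O U).mapDerivedCategory
  haveI : PreservesColimitsOfSize.{u, u} (ModSite.restr O U) := QCohAlg.preservesColimitsOfSize_restr U
  have : WellPowered.{u} (ModSite.Mod O) := inferInstance
  haveI : (ModSite.restr O U).IsLeftAdjoint := isLeftAdjoint_of_preservesColimits_of_isSeparating
    (P := ObjectProperty.singleton (separator (ModSite.Mod O))) (isSeparator_separator _) _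
  haveI : (ModSite.restr O U).rightAdjoint.Additive :=
    (Adjunction.ofIsLeftAdjoint (ModSite.restr O U)).right_adjoint_additive
  obtain ⟨G, a, hG⟩ := ExactLeftAdj.exists_rightAdjoint (Adjunction.ofIsLeftAdjoint (ModSite.restr O U))
  -- restrictions of orthogonal objects have no maps into killed objects
  have hkill : ∀ N, KilledPow s N → Subsingleton (Rs.obj F ⟶ N) := fun N hN => by
    refine @Equiv.subsingleton _ _ (a.homEquiv F N) (hF _ ((isDerComp_iff I _).2 fun V g hg => (hG _ _ N).1 ?_))
    haveI : PreservesColimitsOfSize.{0, 0} (ModSite.extZero O V) :=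
      (ModSite.extZeroAdj O V).leftAdjoint_preservesColimits
    haveI : PreservesColimitsOfSize.{0, 0} (ModSite.restr O U) := preservesColimitsOfSize_shrink.{0, u, 0, u} _
    haveI := additive_extZero O V
    let m := DerComp.smulEnd (DerComp.GSec.ofSect O V g) (ModSite.unit (O.over V))
    let ι := fun n => Sigma.ι (fun _ : ℕ => ModSite.unit (O.over V)) n
    let FF := ModSite.extZero O V ⋙ ModSite.restr O U
    have hc : IsColimit (Cofan.mk (FF.obj (∐ fun _ : ℕ => ModSite.unit (O.over V))) fun n => FF.map (ι n)) :=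
      isColimitCofanMkObjOfIsColimit FF _ _ (coproductIsCoproduct _)
    refine (TelOrth.forall_subsingleton_iff_tbOn ((shortExact V g).map_of_exact (ModSite.restr O U)) _ _ hc _ hc
      (fun k => ?_) N).1 (fun n => subsingleton_away_to_killed I b hgen V g hg N hN n)
    refine (FF.map_comp _ _).symm.trans ?_
    refine (congrArg FF.map (Sigma.ι_desc (fun n => ι n - m ≫ ι (n + 1)) k)).trans ?_
    exact (Functor.map_sub _).trans (congrArg (_ - ·) (FF.map_comp _ _))
  let Q' : DerivedCategory (ModSite.Mod (O.over U)) → Prop := fun Y =>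
    ∀ N, KilledPow s N → Subsingleton (Y ⟶ N)
  let V' : DerivedCategory (ModSite.Mod (O.over U)) → Prop := fun Y =>
    ∀ K, KilledPow s K → Subsingleton (K ⟶ Y)
  refine vanish_of_step s Q' V' ?_ ?_ ?_ (Rs.obj F) hkill K hK
  · intro i Y Z p δ hTr hY N hN
    refine subsingleton_of_forall_eq 0 fun x => ?_
    have hpx : p ≫ x = 0 := (hY N hN).elim _ _
    obtain ⟨y, rfl⟩ := Triangle.yoneda_exact₃ _ hTr x hpx
    have hN' := hN.map (shiftFunctor (DerivedCategory (ModSite.Mod (O.over U))) (-1 : ℤ))
    have hy : y = 0 := (shiftFunctor (DerivedCategory (ModSite.Mod (O.over U))) (-1 : ℤ)).map_injective (by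
      rw [← cancel_epi ((shiftFunctorCompIsoId (DerivedCategory (ModSite.Mod (O.over U))) (1 : ℤ) (-1) (by omega)).inv.app Y)]
      exact (hY _ hN').elim _ _)
    rw [hy]
    exact comp_zero
  · intro i Y Z p δ hTr _ hZ K hK
    obtain ⟨M, hM⟩ := hK i
    have h₁ : Subsingleton (K ⟶ Z⟦(-1 : ℤ)⟧) := by
      refine ⟨fun f g => (shiftFunctor (DerivedCategory (ModSite.Mod (O.over U))) (1 : ℤ)).map_injective ?_⟩
      rw [← cancel_mono ((shiftFunctorCompIsoId (DerivedCategory (ModSite.Mod (O.over U))) (-1 : ℤ) 1 (by omega)).hom.app Z)]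
      exact (hZ _ (hK.map _)).elim _ _
    refine subsingleton_of_nilpotent (s i) M (fun x => ?_) ?_
    · rw [← id_comp x, ← Linear.smul_comp, hM, zero_comp]
    · have e : (fun x : K ⟶ Y => s i • x) = fun x => x ≫ (s i • 𝟙 Y) := funext fun x => by
        rw [Linear.comp_smul, comp_id]
      rw [e]
      exact bijective_post_of_triangle hTr (hZ K hK) h₁
  · intro Y hY hYk K _
    have := hY Y hYk
    have hid : 𝟙 Y = 0 := this.elim _ _
    exact ⟨fun f g => ((IsZero.iff_id_eq_zero Y).2 hid).eq_of_tgt f g⟩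

end Groth.Agent.DerCompEquiv
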