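import Groth.Agent.ModPull.Refine
import Groth.Prelude.Def_DerComp

/-!
# Generators of the extension of a sheaf of ideals along a morphism of ringed sites
-/

universe u

open CategoryTheory Opposite

namespace Groth.Agent.DerCompEquiv

variable {C D : Type u} [SmallCategory C] [SmallCategory D] {J : GrothendieckTopology C}
  {K : GrothendieckTopology D} {O_C : Sheaf J CommRingCat.{u}} {O_D : Sheaf K CommRingCat.{u}}
  (f : ModSite.RMor O_C O_D)

/-- The image of a section. -/
def shApp (V : D) : O_D.obj.obj (op V) →+* O_C.obj.obj (op (f.fn.obj V)) := (f.sharp.hom.app (op V)).hom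

lemma shApp_nat {V V' : D} (a : V' ⟶ V) (x : O_D.obj.obj (op V)) :
    shApp f V' ((O_D.obj.map a.op).hom x) = (O_C.obj.map (f.fn.map a).op).hom (shApp f V x) :=
  NatTrans.naturality_apply f.sharp.hom a.op x

lemma map_map {X Y Z : C} (g : Y ⟶ X) (h : Z ⟶ Y) (x : O_C.obj.obj (op X)) :
    (O_C.obj.map h.op).hom ((O_C.obj.map g.op).hom x) = (O_C.obj.map (h ≫ g).op).hom x := by
  rw [op_comp, Functor.map_comp]
  rfl

lemma shApp_map {V V' : D} {Y : C} (a : V' ⟶ V) (h : Y ⟶ f.fn.obj V') (x : O_D.obj.obj (op V)) :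
    (O_C.obj.map h.op).hom (shApp f V' ((O_D.obj.map a.op).hom x)) =
      (O_C.obj.map (h ≫ f.fn.map a).op).hom (shApp f V x) := by
  rw [shApp_nat, map_map]

/-- The sections whose restrictions over `W` lie in a given sheaf of ideals of the slice. -/
def pushIdeal {W : C} (I'' : DerComp.IdealSh (O_C.over W)) : DerComp.IdealSh O_C where
  ideal X :=
    { carrier := {x | ∀ ⦃Y : C⦄ (k : Y ⟶ X) (l : Y ⟶ W), (O_C.obj.map k.op).hom x ∈ I''.ideal (Over.mk l)}
      add_mem' := fun {a b} ha hb Y k l => by
        rw [map_add]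
        exact Ideal.add_mem _ (ha k l) (hb k l)
      zero_mem' := fun Y k l => by
        rw [map_zero]
        exact Ideal.zero_mem _
      smul_mem' := fun c {a} ha Y k l => by
        rw [smul_eq_mul, map_mul]
        exact Ideal.mul_mem_left _ _ (ha k l) }
  map_mem g _ hx Y k l := by
    rw [map_map]
    exact hx _ l
  glue {X x} S hS h Y k l := by
    refine I''.glue ((Sieve.overEquiv (Over.mk l)).symm (S.pullback k)) ?_ fun Z g hg => ?_
    · refine (GrothendieckTopology.mem_over_iff _ _).2 ?_
      exact Eq.subst (motive := fun T => T ∈ J Y) ((Sieve.overEquiv (Over.mk l)).apply_symm_apply _).symm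
        (J.pullback_stable k hS)
    · have h1 := h (g.left ≫ k) (show (S.pullback k) g.left from hg) (𝟙 Z.left) Z.hom
      rw [map_map, Category.id_comp] at h1
      change (O_C.obj.map g.left.op).hom ((O_C.obj.map k.op).hom x) ∈ I''.ideal Z
      rw [map_map]
      exact h1

/-- The sections over `V` whose images lie in a given sheaf of ideals over the image of `V`. -/
def pullIdeal {V : D} (I'' : DerComp.IdealSh (O_C.over (f.fn.obj V))) : DerComp.IdealSh (O_D.over V) where
  ideal Q :=
    { carrier := {x | ∀ (Z : Over (f.fn.obj V)) (h : Z.left ⟶ f.fn.obj Q.left),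
        h ≫ f.fn.map Q.hom = Z.hom → (O_C.obj.map h.op).hom (shApp f Q.left x) ∈ I''.ideal Z}
      add_mem' := fun {a b} ha hb Z h e => by
        erw [map_add (shApp f Q.left), map_add]
        exact Ideal.add_mem _ (ha Z h e) (hb Z h e)
      zero_mem' := fun Z h e => by
        erw [map_zero (shApp f Q.left), map_zero]
        exact Ideal.zero_mem _
      smul_mem' := fun c {a} ha Z h e => by
        rw [smul_eq_mul]
        erw [map_mul (shApp f Q.left), map_mul]
        exact Ideal.mul_mem_left _ _ (ha Z h e) }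
  map_mem {Q Q'} g x hx Z h e := by
    refine Eq.subst (motive := fun y => y ∈ I''.ideal Z) (shApp_map f g.left h x).symm (hx Z _ ?_)
    rw [Category.assoc, ← Functor.map_comp, Over.w g]
    exact e
  glue {Q x} S hS hx Z h e := by
    refine I''.glue ((Sieve.overEquiv Z).symm (ModPull.imgSieve f.fn (Sieve.overEquiv Q S) h)) ?_ fun Z' t ht => ?_
    · refine (GrothendieckTopology.mem_over_iff _ _).2 ?_
      exact Eq.subst (motive := fun T => T ∈ J Z.left) ((Sieve.overEquiv Z).apply_symm_apply _).symm
        (ModPull.imgSieve_mem f.fn ((GrothendieckTopology.mem_over_iff _ _).1 hS) h)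
    · obtain ⟨Q', a, h', ha, e'⟩ := (show ModPull.imgSieve f.fn (Sieve.overEquiv Q S) h t.left from ht)
      have h1 := hx (Over.homMk a : Over.mk (a ≫ Q.hom) ⟶ Q) ((Sieve.overEquiv_iff S a).1 ha) Z' h' (by
        show h' ≫ f.fn.map (a ≫ Q.hom) = Z'.hom
        rw [Functor.map_comp, ← Category.assoc, e', Category.assoc, e, Over.w t])
      refine Eq.subst (motive := fun y => y ∈ I''.ideal Z') ?_ h1
      exact ((shApp_map f a h' x).trans (congrArg (fun t => (O_C.obj.map t.op).hom (shApp f Q.left x)) e')).trans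
        (map_map h t.left _).symm

/-- Generators of `I` over `V` map to generators of its extension over the image of `V`. -/
theorem isGenBy_ext {I : DerComp.IdealSh O_D} {I' : DerComp.IdealSh O_C} (hI' : DerComp.RIsIdealExt f I I')
    {V : D} {r : ℕ} (b : Fin r → O_D.obj.obj (op V))
    (hgen : (I.over V).IsGenBy fun i => DerComp.GSec.ofSect O_D V (b i)) :
    (I'.over (f.fn.obj V)).IsGenBy fun i => DerComp.GSec.ofSect O_C (f.fn.obj V) (shApp f V (b i)) := by
  refine ⟨fun i Y => I'.map_mem Y.hom (hI'.1 V (b i) ?_), fun I'' hI'' => ?_⟩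
  · have h := hgen.1 i (Over.mk (𝟙 V))
    change (O_D.obj.map (𝟙 V).op).hom (b i) ∈ I.ideal V at h
    rwa [op_id, CategoryTheory.Functor.map_id] at h
  have hJ : I' ≤ pushIdeal I'' := hI'.2 _ fun V' a ha Y k l => by
    refine I''.glue ((Sieve.overEquiv (Over.mk l)).symm (ModPull.pairSieve f.fn k l)) ?_ fun Z g hg => ?_
    · refine (GrothendieckTopology.mem_over_iff _ _).2 ?_
      exact Eq.subst (motive := fun T => T ∈ J Y) ((Sieve.overEquiv (Over.mk l)).apply_symm_apply _).symm
        (ModPull.pairSieve_mem (K := K) f.fn k l)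
    · obtain ⟨P, a₁, a₂, h, e₁, e₂⟩ := (show ModPull.pairSieve f.fn k l g.left from hg)
      have hle : I.over V ≤ pullIdeal f I'' := hgen.2 _ fun i Q Z' h' e' =>
        Eq.subst (motive := fun y => y ∈ I''.ideal Z') ((shApp_map f Q.hom h' (b i)).trans
            (congrArg (fun t => (O_C.obj.map t.op).hom (shApp f V (b i))) e')).symm (hI'' i Z')
      have h1 := hle (Over.mk a₂) (show (O_D.obj.map a₁.op).hom a ∈ I.ideal P from I.map_mem a₁ ha) Z h
        (e₂.trans (Over.w g))
      refine Eq.subst (motive := fun y => y ∈ I''.ideal Z) ?_ h1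
      exact ((shApp_map f a₁ h a).trans (congrArg (fun t => (O_C.obj.map t.op).hom (shApp f V' a)) e₁)).trans
        (map_map k g.left _).symm
  intro Y x hx
  have h := hJ Y.left hx (𝟙 Y.left) Y.hom
  rw [op_id, CategoryTheory.Functor.map_id] at h
  exact h

end Groth.Agent.DerCompEquiv
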