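import Groth.Agent.DerCompEquiv.Koszul
import Groth.Agent.DerCompEquiv.Orth
import Groth.Agent.DerCompEquiv.RGen
import Groth.Agent.H9Misc.DerCompPush
import Groth.Agent.H9Misc.DerCompRestrict
import Groth.Agent.SiteCmpLib.Secs.DerivedProps

/-!
# Derived completion and derived direct images
-/

set_option backward.isDefEq.respectTransparency false
set_option linter.style.haveILetI false

universe u

open CategoryTheory CategoryTheory.Category CategoryTheory.Limits CategoryTheory.Pretriangulated Opposite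
open ZeroObject
open Groth.Agent.ModTensor Groth.Agent.H9Misc Groth.Agent.H9Misc.DerCompTel

attribute [local instance] HasDerivedCategory.standard

namespace Groth.Agent.DerCompEquiv

section Abstract

variable {A : Type*} [Category* A] [Abelian A] [HasDerivedCategory A] {R : Type*} [CommRing R] [Linear R A]

/-- Scalars killing the cone of a scalar. -/
lemma smul_cone {Y Z : DerivedCategory A} {c : R} {p : Y ⟶ Z} {δ : Z ⟶ Y⟦(1 : ℤ)⟧}
    (hT : Triangle.mk (c • 𝟙 Y) p δ ∈ Pretriangulated.distinguishedTriangles) :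
    (c * c) • 𝟙 Z = 0 ∧ ∀ a : R, a • 𝟙 Y = 0 → (a * a) • 𝟙 Z = 0 := by
  have hp : c • p = 0 := by
    have := comp_distTriang_mor_zero₁₂ _ hT
    rwa [show (Triangle.mk (c • 𝟙 Y) p δ).mor₁ ≫ (Triangle.mk (c • 𝟙 Y) p δ).mor₂ = (c • 𝟙 Y) ≫ p from rfl,
      Linear.smul_comp, id_comp] at this
  have hδ : c • δ = 0 := by
    have := comp_distTriang_mor_zero₃₁ _ hT
    rwa [show (Triangle.mk (c • 𝟙 Y) p δ).mor₃ ≫ (Triangle.mk (c • 𝟙 Y) p δ).mor₁⟦(1 : ℤ)⟧' = δ ≫ (c • 𝟙 Y)⟦(1 : ℤ)⟧' from rfl,
      Functor.map_smul, CategoryTheory.Functor.map_id, Linear.comp_smul, comp_id] at this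
  have hZ : ∀ a b : R, a • δ = 0 → b • p = 0 → (a * b) • 𝟙 Z = 0 := fun a b ha hb => by
    obtain ⟨x, hx⟩ := Triangle.coyoneda_exact₃ _ hT (a • 𝟙 Z) (by
      show (a • 𝟙 Z) ≫ δ = 0
      rw [Linear.smul_comp, id_comp, ha])
    rw [mul_comm, mul_smul]
    refine (congrArg (b • ·) hx).trans ?_
    show b • (x ≫ p) = 0
    rw [← Linear.comp_smul, hb, comp_zero]
  refine ⟨hZ c c hδ hp, fun a ha => hZ a a ?_ ?_⟩
  · rw [← comp_id δ, ← Linear.comp_smul, ← CategoryTheory.Functor.map_id, ← Functor.map_smul, ha,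
      Functor.map_zero, comp_zero]
  · rw [← id_comp p, ← Linear.smul_comp, ha, zero_comp]

/-- Scalars on iterated cones. -/
lemma killed_iter {r : ℕ} (s : Fin r → R) (X : A)
    (hu : ∀ i j, (s i • 𝟙 X) ≫ (s j • 𝟙 X) = (s j • 𝟙 X) ≫ (s i • 𝟙 X)) (k : ℕ) (i : Fin r) (hi : (i : ℕ) < k) :
    ∃ N : ℕ, s i ^ N • 𝟙 (DerivedCategory.Q.obj ((Koszul.Sys.single X (fun i => s i • 𝟙 X) hu).iter k).cx) = 0 := by
  induction k with
  | zero => exact absurd hi (Nat.not_lt_zero _)
  | succ k ih =>
    by_cases hk : k < r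
    · rw [Koszul.iter_succ _ hk]
      have hT := DerivedCategory.mappingCone_triangle_distinguished
        (((Koszul.Sys.single X (fun i => s i • 𝟙 X) hu).iter k).op ⟨k, hk⟩)
      have e : DerivedCategory.Q.map (((Koszul.Sys.single X (fun i => s i • 𝟙 X) hu).iter k).op ⟨k, hk⟩) =
          s ⟨k, hk⟩ • 𝟙 _ := by
        rw [Koszul.op_iter_smul, Functor.map_smul, CategoryTheory.Functor.map_id]
      have hT' : ∃ p δ, Triangle.mk (DerivedCategory.Q.map
          (((Koszul.Sys.single X (fun i => s i • 𝟙 X) hu).iter k).op ⟨k, hk⟩)) p δ ∈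
          Pretriangulated.distinguishedTriangles (C := DerivedCategory A) := ⟨_, _, hT⟩
      rw [e] at hT'
      obtain ⟨p, δ, hT'⟩ := hT'
      obtain ⟨h1, h2⟩ := smul_cone hT'
      rcases Nat.eq_or_lt_of_le (Nat.le_of_lt_succ hi) with e' | e'
      · rw [show i = ⟨k, hk⟩ from Fin.ext e']
        exact ⟨2, by rw [pow_two]; exact h1⟩
      · obtain ⟨N, hN⟩ := ih e'
        exact ⟨N + N, by rw [pow_add]; exact h2 _ hN⟩
    · rw [Koszul.Sys.iter, dif_neg hk]
      exact ih (by omega)

end Abstract

section Koszul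

variable {C : Type u} [SmallCategory C] {J : GrothendieckTopology C} {O : Sheaf J CommRingCat.{u}}
  (U : C) {r : ℕ} (b : Fin r → O.obj.obj (op U))

/-- The scalars on the unit over `U`. -/
noncomputable def unitSys : Koszul.Sys (ModSite.Mod (O.over U)) r :=
  Koszul.Sys.single (ModSite.unit (O.over U))
    (fun i => DerComp.GSec.ofSect O U (b i) • 𝟙 (ModSite.unit (O.over U))) fun i j => by
      rw [Linear.smul_comp, Linear.smul_comp, id_comp, id_comp, smul_comm]

/-- The Koszul complex over `U`. -/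
noncomputable def koszulCx : CochainComplex (ModSite.Mod (O.over U)) ℤ := ((unitSys U b).iter r).cx

/-- The multiplications on the free module on `U`. -/
noncomputable def freeSys : Koszul.Sys (ModSite.Mod O) r :=
  Koszul.Sys.single (ModSite.freeOn O U) (fun i => mulOn U (b i)) fun i j => by
    rw [← DerCompIdeal.mulOn_mul, ← DerCompIdeal.mulOn_mul, mul_comm]

/-- The Koszul complex over `U` extended by zero. -/
theorem nonempty_cmp_ext [(ModSite.extZero O U).Additive] :
    Nonempty (Koszul.Cmp (ModSite.extZero O U) ((unitSys U b).iter r) ((freeSys U b).iter r)) := by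
  refine Koszul.nonempty_cmp_iter (Koszul.cmpSingle _ _ _ (Iso.refl _) fun i => ?_) r
  rw [Iso.refl_hom, comp_id, id_comp]
  exact congrArg (ModSite.extZero O U).map (comp_id _)

lemma killedPow_koszul : KilledPow (fun i => DerComp.GSec.ofSect O U (b i)) (DerivedCategory.Q.obj (koszulCx U b)) :=
  fun i => killed_iter (fun i => DerComp.GSec.ofSect O U (b i)) (ModSite.unit (O.over U)) _ r i i.2

end Koszul

section Criterion

variable {C : Type u} [SmallCategory C] {J : GrothendieckTopology C} {O : Sheaf J CommRingCat.{u}}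
  (I : DerComp.IdealSh O)

lemma isDerComp_shift {E : DerivedCategory (ModSite.Mod O)} (hE : DerComp.IsDerComp O I E) (m : ℤ) :
    DerComp.IsDerComp O I (E⟦m⟧) := fun V g hg n => by
  have := hE V g hg (m + n)
  exact ((shiftFunctorAdd (DerivedCategory (ModSite.Mod O)) m n).app E).homToEquiv.symm.subsingleton

/-- The cone of the completion map is orthogonal to complete objects. -/
lemma subsingleton_cone [DerComp.HasDerCompletion O I] {X F : DerivedCategory (ModSite.Mod O)}
    {p : ((DerComp.derCompletion O I).obj X).obj ⟶ F} {δ : F ⟶ X⟦(1 : ℤ)⟧}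
    (hT : Triangle.mk (DerComp.toDerCompletion I X) p δ ∈ Pretriangulated.distinguishedTriangles)
    (E : DerivedCategory (ModSite.Mod O)) (hE : DerComp.IsDerComp O I E) : Subsingleton (F ⟶ E) := by
  let η := DerComp.toDerCompletion I X
  refine subsingleton_of_forall_eq 0 fun x => ?_
  have h0 : p ≫ x = 0 := (DerCompRestrict.toDerCompletion_bijective I X E hE).1 (by
    show η ≫ p ≫ x = η ≫ 0
    have h12 : η ≫ p = 0 := comp_distTriang_mor_zero₁₂ _ hT
    rw [← assoc, h12, zero_comp, comp_zero])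
  obtain ⟨y, rfl⟩ := Triangle.yoneda_exact₃ _ hT x h0
  let S := shiftFunctor (DerivedCategory (ModSite.Mod O)) (-1 : ℤ)
  let i := shiftFunctorCompIsoId (DerivedCategory (ModSite.Mod O)) (1 : ℤ) (-1) (by omega)
  obtain ⟨g, hg⟩ := (DerCompRestrict.toDerCompletion_bijective I X _ (isDerComp_shift I hE (-1))).2
    (i.inv.app X ≫ S.map y)
  obtain ⟨y', hy'⟩ := S.map_surjective (i.hom.app _ ≫ g)
  have hy : η⟦(1 : ℤ)⟧' ≫ y' = y := S.map_injective (by
    rw [S.map_comp, hy', ← assoc, show S.map (η⟦(1 : ℤ)⟧') ≫ i.hom.app _ = i.hom.app X ≫ η from i.hom.naturality η,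
      assoc]
    exact (congrArg (i.hom.app X ≫ ·) hg).trans (i.hom_inv_id_app_assoc X _))
  show δ ≫ y = 0
  have h31 : δ ≫ η⟦(1 : ℤ)⟧' = 0 := comp_distTriang_mor_zero₃₁ _ hT
  rw [← hy, ← assoc, h31, zero_comp]

set_option maxHeartbeats 1000000 in
/-- Objects without maps from Koszul complexes have no maps into complete objects. -/
theorem subsingleton_to_complete (hI : I.IsFiniteType) [DerComp.HasDerCompletion O I]
    (X : DerivedCategory (ModSite.Mod O))
    (h : ∀ (U : C) (r : ℕ) (b : Fin r → O.obj.obj (op U)),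
      ((I.over U).IsGenBy fun i => DerComp.GSec.ofSect O U (b i)) →
      ∀ [(ModSite.restr O U).Additive] [PreservesFiniteLimits (ModSite.restr O U)]
        [PreservesFiniteColimits (ModSite.restr O U)] (n : ℤ),
        Subsingleton (DerivedCategory.Q.obj (koszulCx U b) ⟶ ((ModSite.restr O U).mapDerivedCategory.obj X)⟦n⟧))
    (N : DerivedCategory (ModSite.Mod O)) (hN : DerComp.IsDerComp O I N) : Subsingleton (X ⟶ N) := by
  let H := ((DerComp.derCompletion O I).obj X).obj
  have hH : DerComp.IsDerComp O I H := ((DerComp.derCompletion O I).obj X).property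
  suffices hz : IsZero H by
    have hb := DerCompRestrict.toDerCompletion_bijective I X N hN
    refine ⟨fun a b => ?_⟩
    obtain ⟨a', rfl⟩ := hb.2 a
    obtain ⟨b', rfl⟩ := hb.2 b
    rw [hz.eq_of_src a' b']
  obtain ⟨F, p, δ, hT⟩ := distinguished_cocone_triangle (DerComp.toDerCompletion I X)
  let good : Set C := {V | ∃ (r : ℕ) (b : Fin r → O.obj.obj (op V)), (I.over V).IsGenBy fun i => DerComp.GSec.ofSect O V (b i)}
  refine TelLocal.isZero_of_separating (ObjectProperty.ofObj fun X : good => ModSite.freeOn O (X : C))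
    (ModTensor.isSeparating_freeOn good fun X => ?_) H fun P hP n => ?_
  · obtain ⟨S, hS, hgood⟩ := hI X
    refine ⟨Σ V : C, {g : V ⟶ X // S g}, fun i => i.1, fun i => i.2.1, J.superset_covering ?_ hS,
      fun i => hgood i.2.1 i.2.2⟩
    exact fun V g hg => Sieve.ofArrows_mk _ _ (⟨V, g, hg⟩ : Σ V : C, {g : V ⟶ X // S g})
  obtain ⟨⟨U, hU⟩⟩ := hP
  obtain ⟨r, b, hgen⟩ := hU
  haveI := ModTensor.preservesFiniteLimits_extZero O U
  haveI := ModTensor.preservesFiniteColimits_extZero O U
  haveI := ModTensor.additive_extZero O U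
  haveI : PreservesFiniteColimits (ModSite.restr O U) := SuppCore.preservesFiniteColimits_restr U
  haveI : PreservesLimitsOfSize.{0, 0} (ModSite.restr O U) := (ModSite.extZeroAdj O U).rightAdjoint_preservesLimits
  haveI : PreservesFiniteLimits (ModSite.restr O U) := ⟨fun _ => inferInstance⟩
  haveI : (ModSite.restr O U).Additive := (ModSite.extZeroAdj O U).right_adjoint_additive
  let Rs := (ModSite.restr O U).mapDerivedCategory
  let Eb := (ModSite.extZero O U).mapDerivedCategory
  let ad := TelLocal.derivedAdjunction (ModSite.extZeroAdj O U)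
  let s := fun i => DerComp.GSec.ofSect O U (b i)
  let T := fun k => (unitSys U b).iter k
  -- no maps from Koszul complexes
  have hr : ∀ m : ℤ, Subsingleton (DerivedCategory.Q.obj (T r).cx ⟶ (Rs.obj H)⟦m⟧) := fun m => by
    refine subsingleton_of_forall_eq 0 fun x => ?_
    let SF := shiftFunctor (DerivedCategory (ModSite.Mod (O.over U))) (-m)
    have hF : Subsingleton (DerivedCategory.Q.obj (T r).cx ⟶ (Rs.obj F)⟦m⟧) := by
      have hk := subsingleton_killed_to_orth I b hgen F (subsingleton_cone I hT) _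
        ((killedPow_koszul U b).map SF)
      refine ⟨fun f g => SF.map_injective ?_⟩
      rw [← cancel_mono ((shiftFunctorCompIsoId (DerivedCategory (ModSite.Mod (O.over U))) m (-m) (by omega)).hom.app (Rs.obj F))]
      exact hk.elim _ _
    obtain ⟨y, hy⟩ := Triangle.coyoneda_exact₂ _
      (Triangle.shift_distinguished _ (Rs.map_distinguished _ hT) m) x (hF.elim _ _)
    rw [hy, show y = 0 from (h U r b hgen m).elim _ _]
    exact zero_comp
  have key : ∀ k, k ≤ r → ∀ m : ℤ, Subsingleton (DerivedCategory.Q.obj (T k).cx ⟶ (Rs.obj H)⟦m⟧) := by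
    intro k hk
    induction hk using Nat.decreasingInduction with
    | self => exact hr
    | of_succ k hk ih =>
      intro m
      let kk : Fin r := ⟨k, hk⟩
      have e : DerivedCategory.Q.map ((T k).op kk) = s kk • 𝟙 _ := by
        rw [show (T k).op kk = s kk • 𝟙 _ from Koszul.op_iter_smul _ _ _ k kk, Functor.map_smul,
          CategoryTheory.Functor.map_id]
      have hT' := DerivedCategory.mappingCone_triangle_distinguished ((T k).op kk)
      have ih' : ∀ m : ℤ, Subsingleton (DerivedCategory.Q.obj (CochainComplex.mappingCone ((T k).op kk)) ⟶ (Rs.obj H)⟦m⟧) :=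
        fun m => by
          have := ih m
          rwa [show T (k + 1) = _ from Koszul.iter_succ _ hk] at this
      have hb := bijective_pre_of_triangle (f := DerivedCategory.Q.map ((T k).op kk)) hT' ih' m
      refine subsingleton_of_tb (TelLocal.sc (s kk) _ _) ?_ ?_
      · exact TelLocal.tb_sc_of_iso _
          ((shiftFunctorCompIsoId (DerivedCategory (ModSite.Mod (O.over U))) (-m) m (by omega)).app _) (Iso.refl _)
          (TelLocal.tb_sc_shift _ m (DerCompRHom.tb_sc_restr H (b kk)
            (fun V g => (isDerComp_iff I H).1 hH V _ (I.map_mem g (by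
              have := hgen.1 kk (Over.mk (𝟙 U))
              change (O.obj.map (𝟙 U).op).hom (b kk) ∈ I.ideal U at this
              rwa [op_id, CategoryTheory.Functor.map_id] at this))) _))
      · refine (congrArg Function.Bijective (funext fun g => ?_)).mp hb
        rw [e, Linear.smul_comp, id_comp]
        rfl
  let S₀ := (DerivedCategory.singleFunctor (ModSite.Mod (O.over U)) 0).obj (ModSite.unit (O.over U))
  have h0 : Subsingleton (S₀ ⟶ (Rs.obj H)⟦n⟧) := @Equiv.subsingleton _ _
    ((DerivedCategory.singleFunctorIsoCompQ (ModSite.Mod (O.over U)) 0).app (ModSite.unit (O.over U))).homFromEquiv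
    (key 0 (Nat.zero_le _) n)
  have h1 : Subsingleton (S₀ ⟶ Rs.obj (H⟦n⟧)) := @Equiv.subsingleton _ _ ((Rs.commShiftIso n).app H).homToEquiv h0
  have h2 : Subsingleton (Eb.obj S₀ ⟶ H⟦n⟧) := @Equiv.subsingleton _ _ (ad.homEquiv _ _) h1
  exact @Equiv.subsingleton _ _
    (((ModSite.extZero O U).mapDerivedCategorySingleFunctor 0).app _).homFromEquiv.symm h2

end Criterion

variable {C D : Type u} [SmallCategory C] [SmallCategory D] {J : GrothendieckTopology C}
  {K : GrothendieckTopology D} {O_C : Sheaf J CommRingCat.{u}} {O_D : Sheaf K CommRingCat.{u}}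
  (f : ModSite.RMor O_C O_D) [SiteCmp.HasRpushD f]

/-- Maps out of bounded above complexes of good objects into derived direct images. -/
theorem subsingleton_RpushD (P : CochainComplex (ModSite.Mod O_D) ℤ) (a : ℤ) [P.IsStrictlyLE a]
    (hP : ∀ n, LeftAdjExists.Good f.push (P.X n)) (Z : DerivedCategory (ModSite.Mod O_C))
    (h : Subsingleton (DerivedCategory.Q.obj ((f.pull.mapHomologicalComplex (ComplexShape.up ℤ)).obj P) ⟶ Z)) :
    Subsingleton (DerivedCategory.Q.obj P ⟶ (SiteCmp.RpushD f).obj Z) := by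
  have := TriCat.qh_isLeftAdjoint_of_exists_resolution (A := ModSite.Mod O_C) fun L => by
    obtain ⟨I, g, hI, hg, -, -⟩ := TriCat.exists_kInjective_resolution' L
    exact ⟨I, g, hI, hg⟩
  let adjQ := Adjunction.ofIsLeftAdjoint (DerivedCategory.Qh (C := ModSite.Mod O_C))
  let W := HomotopyCategory.quasiIso (ModSite.Mod O_C) (ComplexShape.up ℤ)
  let F := f.push.mapHomotopyCategory (ComplexShape.up ℤ) ⋙ DerivedCategory.Qh
  have := TriCat.isRightDerivedFunctor_of_adjunction adjQ W F
  let eR := (Functor.rightDerivedUnique (LeftAdjExists.RG f.push DerivedCategory.Qh.rightAdjoint) (SiteCmp.RpushD f)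
    (Functor.whiskerRight adjQ.unit F : F ⟶ DerivedCategory.Qh ⋙ DerivedCategory.Qh.rightAdjoint ⋙ F)
    (F.totalRightDerivedUnit DerivedCategory.Qh W) W).app Z
  let a' := (SerreDerived.adjHtpy (ComplexShape.up ℤ) f.adj).comp adjQ
  let FK := f.pull.mapHomotopyCategory (ComplexShape.up ℤ)
  let i : DerivedCategory.Qh.obj (FK.obj ((HomotopyCategory.quotient _ _).obj P)) ≅
      DerivedCategory.Q.obj ((f.pull.mapHomologicalComplex (ComplexShape.up ℤ)).obj P) :=
    DerivedCategory.Qh.mapIso ((f.pull.mapHomotopyCategoryFactors (ComplexShape.up ℤ)).app P) ≪≫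
      (DerivedCategory.quotientCompQhIso _).app _
  have h1 : Subsingleton (DerivedCategory.Qh.obj (FK.obj ((HomotopyCategory.quotient _ _).obj P)) ⟶ Z) :=
    @Equiv.subsingleton _ _ i.homFromEquiv h
  have h2 := @Equiv.subsingleton _ _ ((a'.homEquiv ((HomotopyCategory.quotient _ _).obj P) Z).trans (Equiv.ofBijective _
    (LeftAdjExists.Qh_map_bijective f.adj (RpushLeftAdj.exists_good f) adjQ P a hP Z))).symm h1
  exact @Equiv.subsingleton _ _
    ((((DerivedCategory.quotientCompQhIso _).app P).symm.homFromEquiv).trans eR.symm.homToEquiv) h2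

lemma good_of_iso {M N : ModSite.Mod O_D} (e : M ≅ N) (h : LeftAdjExists.Good f.push M) :
    LeftAdjExists.Good f.push N := fun E hE k => by
  have := h E hE k
  refine ⟨fun x y => ?_⟩
  rw [← Abelian.Ext.mk₀_id_comp x, ← Abelian.Ext.mk₀_id_comp y, ← e.inv_hom_id,
    ← Abelian.Ext.mk₀_comp_mk₀_assoc, ← Abelian.Ext.mk₀_comp_mk₀_assoc,
    Subsingleton.elim ((Abelian.Ext.mk₀ e.hom).comp x (zero_add _))]

set_option maxHeartbeats 1000000 in
/-- Derived direct images of objects orthogonal to complete objects have no maps from Koszul complexes. -/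
theorem subsingleton_koszul_RpushD {I : DerComp.IdealSh O_D} {I' : DerComp.IdealSh O_C}
    (hI' : DerComp.RIsIdealExt f I I') (Z : DerivedCategory (ModSite.Mod O_C))
    (hZ : ∀ E, DerComp.IsDerComp O_C I' E → Subsingleton (Z ⟶ E))
    (V : D) {r : ℕ} (b : Fin r → O_D.obj.obj (op V))
    (hgen : (I.over V).IsGenBy fun i => DerComp.GSec.ofSect O_D V (b i))
    [(ModSite.restr O_D V).Additive] [PreservesFiniteLimits (ModSite.restr O_D V)]
    [PreservesFiniteColimits (ModSite.restr O_D V)] (n : ℤ) :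
    Subsingleton (DerivedCategory.Q.obj (koszulCx V b) ⟶
      ((ModSite.restr O_D V).mapDerivedCategory.obj ((SiteCmp.RpushD f).obj Z))⟦n⟧) := by
  haveI := ModTensor.preservesFiniteLimits_extZero O_D V
  haveI := ModTensor.preservesFiniteColimits_extZero O_D V
  haveI := ModTensor.additive_extZero O_D V
  let W := f.fn.obj V
  let b' : Fin r → O_C.obj.obj (op W) := fun i => shApp f V (b i)
  haveI := ModTensor.preservesFiniteLimits_extZero O_C W
  haveI := ModTensor.preservesFiniteColimits_extZero O_C W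
  haveI := ModTensor.additive_extZero O_C W
  haveI : PreservesFiniteColimits (ModSite.restr O_C W) := SuppCore.preservesFiniteColimits_restr W
  haveI : PreservesLimitsOfSize.{0, 0} (ModSite.restr O_C W) := (ModSite.extZeroAdj O_C W).rightAdjoint_preservesLimits
  haveI : PreservesFiniteLimits (ModSite.restr O_C W) := ⟨fun _ => inferInstance⟩
  haveI : (ModSite.restr O_C W).Additive := (ModSite.extZeroAdj O_C W).right_adjoint_additive
  haveI : f.pull.Additive := f.adj.left_adjoint_additive
  obtain ⟨eD⟩ := nonempty_cmp_ext V b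
  obtain ⟨eC⟩ := nonempty_cmp_ext W b'
  obtain ⟨eP⟩ := Koszul.nonempty_cmp_iter (Koszul.cmpSingle f.pull
    (X := ModSite.freeOn O_D V) (u := fun i => mulOn V (b i))
    (fun i j => by rw [← DerCompIdeal.mulOn_mul, ← DerCompIdeal.mulOn_mul, mul_comm])
    (X' := ModSite.freeOn O_C W) (u' := fun i => mulOn W (b' i))
    (fun i j => by rw [← DerCompIdeal.mulOn_mul, ← DerCompIdeal.mulOn_mul, mul_comm])
    (DerCompPush.pullFreeIso f V) fun i => (DerCompPush.pullFreeIso_comm f V (b i)).symm) r
  let ad := TelLocal.derivedAdjunction (ModSite.extZeroAdj O_D V)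
  let ad' := TelLocal.derivedAdjunction (ModSite.extZeroAdj O_C W)
  let SD := ((freeSys V b).iter r).cx
  let EC := (ModSite.extZero O_C W).mapHomologicalComplex (ComplexShape.up ℤ)
  let ED := (ModSite.extZero O_D V).mapHomologicalComplex (ComplexShape.up ℤ)
  let FP := f.pull.mapHomologicalComplex (ComplexShape.up ℤ)
  let SV := shiftFunctor (DerivedCategory (ModSite.Mod (O_D.over V))) (-n)
  have hW : Subsingleton (DerivedCategory.Q.obj ((koszulCx W b')⟦-n⟧) ⟶
      (ModSite.restr O_C W).mapDerivedCategory.obj Z) :=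
    subsingleton_killed_to_orth I' b' (isGenBy_ext f hI' b hgen) Z hZ _
      (((killedPow_koszul W b').map (shiftFunctor (DerivedCategory (ModSite.Mod (O_C.over W))) (-n))).of_iso
        ((DerivedCategory.Q.commShiftIso (-n)).app (koszulCx W b')).symm)
  let jC : (ModSite.extZero O_C W).mapDerivedCategory.obj (DerivedCategory.Q.obj ((koszulCx W b')⟦-n⟧)) ≅
      DerivedCategory.Q.obj (FP.obj (SD⟦-n⟧)) :=
    (ModSite.extZero O_C W).mapDerivedCategoryFactors.app _ ≪≫
      DerivedCategory.Q.mapIso ((EC.commShiftIso (-n)).app _ ≪≫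
        (shiftFunctor (CochainComplex (ModSite.Mod O_C) ℤ) (-n)).mapIso (eC.iso ≪≫ eP.iso.symm) ≪≫
        ((FP.commShiftIso (-n)).app SD).symm)
  have hC : Subsingleton (DerivedCategory.Q.obj (FP.obj (SD⟦-n⟧)) ⟶ Z) :=
    @Equiv.subsingleton _ _ jC.symm.homFromEquiv (@Equiv.subsingleton _ _ (ad'.homEquiv _ _) hW)
  have hgood : ∀ i, LeftAdjExists.Good f.push (((freeSys V b).iter r).cx.X i) :=
    Koszul.prop_iter _ (fun _ _ => LeftAdjExists.good_biprod) (fun _ _ => good_of_iso f) _ (fun i => by
      by_cases hi : i = 0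
      · subst hi
        exact good_of_iso f (HomologicalComplex.singleObjXSelf (ComplexShape.up ℤ) 0 (ModSite.freeOn O_D V)).symm
          (DerCompPush.good_freeOn f V)
      · exact LeftAdjExists.good_of_isZero (HomologicalComplex.isZero_single_obj_X _ _ _ _ hi)) r
  haveI : (freeSys V b).cx.IsStrictlyLE 0 := by
    rw [CochainComplex.isStrictlyLE_iff]
    exact fun i hi => HomologicalComplex.isZero_single_obj_X _ _ _ _ (by omega)
  haveI : SD.IsStrictlyLE 0 := Koszul.isStrictlyLE_iter (freeSys V b) 0 r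
  haveI : (SD⟦-n⟧).IsStrictlyLE n := CochainComplex.isStrictlyLE_shift SD 0 (-n) n (by omega)
  have hD : Subsingleton (DerivedCategory.Q.obj (SD⟦-n⟧) ⟶ (SiteCmp.RpushD f).obj Z) :=
    subsingleton_RpushD f (SD⟦-n⟧) n (fun i => hgood (i + -n)) Z hC
  let jD : (ModSite.extZero O_D V).mapDerivedCategory.obj (DerivedCategory.Q.obj ((koszulCx V b)⟦-n⟧)) ≅
      DerivedCategory.Q.obj (SD⟦-n⟧) :=
    (ModSite.extZero O_D V).mapDerivedCategoryFactors.app _ ≪≫
      DerivedCategory.Q.mapIso ((ED.commShiftIso (-n)).app _ ≪≫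
        (shiftFunctor (CochainComplex (ModSite.Mod O_D) ℤ) (-n)).mapIso eD.iso)
  have hV : Subsingleton (DerivedCategory.Q.obj ((koszulCx V b)⟦-n⟧) ⟶
      (ModSite.restr O_D V).mapDerivedCategory.obj ((SiteCmp.RpushD f).obj Z)) :=
    @Equiv.subsingleton _ _ (ad.homEquiv _ _).symm (@Equiv.subsingleton _ _ jD.homFromEquiv hD)
  refine ⟨fun x y => SV.map_injective ?_⟩
  rw [← cancel_epi ((DerivedCategory.Q.commShiftIso (-n)).hom.app (koszulCx V b)),
    ← cancel_mono ((shiftFunctorCompIsoId (DerivedCategory (ModSite.Mod (O_D.over V))) n (-n) (by omega)).hom.app _)]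
  exact hV.elim _ _

set_option maxHeartbeats 1000000 in
/-- Derived direct images of the completion map are universal. -/
theorem RpushD_toDerCompletion_bijective {I : DerComp.IdealSh O_D} (hI : I.IsFiniteType) {I' : DerComp.IdealSh O_C}
    (hI' : DerComp.RIsIdealExt f I I') [DerComp.HasDerCompletion O_D I] [DerComp.HasDerCompletion O_C I']
    (M : DerivedCategory (ModSite.Mod O_C)) (N : DerivedCategory (ModSite.Mod O_D)) (hN : DerComp.IsDerComp O_D I N) :
    Function.Bijective fun g => (SiteCmp.RpushD f).map (DerComp.toDerCompletion I' M) ≫ g ≫ 𝟙 N := by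
  obtain ⟨F, p, δ, hT⟩ := distinguished_cocone_triangle (DerComp.toDerCompletion I' M)
  obtain ⟨ε, hε⟩ := SiteCmpLib.Secs.exists_distinguished_RG f.push _ hT
  have hF : ∀ m : ℤ, Subsingleton ((SiteCmp.RpushD f).obj F ⟶ N⟦m⟧) := fun m =>
    subsingleton_to_complete I hI _
      (fun V r b hgen _ _ _ k => subsingleton_koszul_RpushD f hI' F (subsingleton_cone I' hT) V b hgen k)
      _ (isDerComp_shift I hN m)
  let e := (shiftFunctorZero (DerivedCategory (ModSite.Mod O_D)) ℤ).app N
  have hb := bijective_pre_of_triangle (f := (SiteCmp.RpushD f).map (DerComp.toDerCompletion I' M)) hε hF 0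
  refine (congrArg Function.Bijective (funext fun g => ?_)).mp
    (e.homToEquiv.bijective.comp (hb.comp e.homToEquiv.symm.bijective))
  simp [Iso.homToEquiv]

end Groth.Agent.DerCompEquiv
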