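import Groth.Agent.DerCompEquiv.Push
import Groth.Agent.H9Misc.DerCompRHom
import Groth.Agent.ModTensor.KFlat

/-!
# Derived completion and internal derived homs
-/

set_option backward.isDefEq.respectTransparency false
set_option linter.style.haveILetI false

universe u

open CategoryTheory CategoryTheory.Category CategoryTheory.Limits CategoryTheory.Pretriangulated Opposite
open ZeroObject
open Groth.Agent.ModTensor Groth.Agent.H9Misc Groth.Agent.H9Misc.DerCompTel

attribute [local instance] HasDerivedCategory.standard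

namespace Groth.Agent.DerCompEquiv

section Abstract

variable {A : Type*} [Category* A] [Abelian A] {R : Type*} [CommRing R] [Linear R A]

/-- Scalars killing the cone of a scalar, in a linear triangulated category. -/
lemma smul_cone' {T : Type*} [Category* T] [Preadditive T] [Linear R T] [HasZeroObject T] [HasShift T ℤ]
    [∀ n : ℤ, (shiftFunctor T n).Additive] [∀ n : ℤ, Functor.Linear R (shiftFunctor T n)] [Pretriangulated T]
    {Y Z : T} {c : R} {p : Y ⟶ Z} {δ : Z ⟶ Y⟦(1 : ℤ)⟧}
    (hT : Triangle.mk (c • 𝟙 Y) p δ ∈ Pretriangulated.distinguishedTriangles) :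
    (c * c) • 𝟙 Z = 0 ∧ ∀ a : R, a • 𝟙 Y = 0 → (a * a) • 𝟙 Z = 0 := by
  have hp : c • p = 0 := by
    have := comp_distTriang_mor_zero₁₂ _ hT
    rwa [show (Triangle.mk (c • 𝟙 Y) p δ).mor₁ ≫ (Triangle.mk (c • 𝟙 Y) p δ).mor₂ = (c • 𝟙 Y) ≫ p from rfl,
      Linear.smul_comp, id_comp] at this
  have hδ : c • δ = 0 := by
    have := comp_distTriang_mor_zero₃₁ _ hT
    rwa [show (Triangle.mk (c • 𝟙 Y) p δ).mor₃ ≫ (Triangle.mk (c • 𝟙 Y) p δ).mor₁⟦(1 : ℤ)⟧' = δ ≫ (c • 𝟙 Y)⟦(1 : ℤ)⟧' from rfl,
      Functor.map_smul, CategoryTheory.Functor.map_id, Linear.comp_smul, comp_id] at this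
  have hZ : ∀ a b : R, a • δ = 0 → b • p = 0 → (a * b) • 𝟙 Z = 0 := fun a b ha hb => by
    obtain ⟨x, hx⟩ := Triangle.coyoneda_exact₃ _ hT (a • 𝟙 Z) (by
      show (a • 𝟙 Z) ≫ δ = 0
      rw [Linear.smul_comp, id_comp, ha])
    rw [mul_comm, mul_smul]
    refine (congrArg (b • ·) hx).trans ?_
    show b • (x ≫ p) = 0
    rw [← Linear.comp_smul, hb, comp_zero]
  refine ⟨hZ c c hδ hp, fun a ha => hZ a a ?_ ?_⟩
  · rw [← comp_id δ, ← Linear.comp_smul, ← CategoryTheory.Functor.map_id, ← Functor.map_smul, ha,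
      Functor.map_zero, comp_zero]
  · rw [← id_comp p, ← Linear.smul_comp, ha, zero_comp]

/-- Powers of the scalars are nullhomotopic on iterated cones. -/
lemma homotopic_zero_iter {r : ℕ} (s : Fin r → R) (X : A)
    (hu : ∀ i j, (s i • 𝟙 X) ≫ (s j • 𝟙 X) = (s j • 𝟙 X) ≫ (s i • 𝟙 X)) (k : ℕ) (i : Fin r) (hi : (i : ℕ) < k) :
    ∃ N : ℕ, Nonempty (Homotopy (s i ^ N • 𝟙 ((Koszul.Sys.single X (fun i => s i • 𝟙 X) hu).iter k).cx) 0) := by
  let qq := HomotopyCategory.quotient A (ComplexShape.up ℤ)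
  suffices ∃ N : ℕ, s i ^ N • 𝟙 (qq.obj ((Koszul.Sys.single X (fun i => s i • 𝟙 X) hu).iter k).cx) = 0 by
    obtain ⟨N, hN⟩ := this
    refine ⟨N, ⟨HomotopyCategory.homotopyOfEq _ _ ?_⟩⟩
    rw [Functor.map_smul, CategoryTheory.Functor.map_id, Functor.map_zero]
    exact hN
  induction k with
  | zero => exact absurd hi (Nat.not_lt_zero _)
  | succ k ih =>
    by_cases hk : k < r
    · rw [Koszul.iter_succ _ hk]
      let op := ((Koszul.Sys.single X (fun i => s i • 𝟙 X) hu).iter k).op ⟨k, hk⟩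
      have hT' : ∃ p δ, Triangle.mk (qq.map op) p δ ∈
          Pretriangulated.distinguishedTriangles (C := HomotopyCategory A (ComplexShape.up ℤ)) :=
        ⟨_, _, HomotopyCategory.mappingCone_triangleh_distinguished op⟩
      rw [show qq.map op = s ⟨k, hk⟩ • 𝟙 _ by
        rw [show op = _ from Koszul.op_iter_smul _ _ _ k ⟨k, hk⟩, Functor.map_smul, CategoryTheory.Functor.map_id]] at hT'
      obtain ⟨p, δ, hT'⟩ := hT'
      obtain ⟨h1, h2⟩ := smul_cone' hT'
      rcases Nat.eq_or_lt_of_le (Nat.le_of_lt_succ hi) with e' | e'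
      · rw [show i = ⟨k, hk⟩ from Fin.ext e']
        exact ⟨2, by rw [pow_two]; exact h1⟩
      · obtain ⟨N, hN⟩ := ih e'
        exact ⟨N + N, by rw [pow_add]; exact h2 _ hN⟩
    · rw [Koszul.Sys.iter, dif_neg hk]
      exact ih (by omega)

end Abstract

variable {C : Type u} [SmallCategory C] {J : GrothendieckTopology C} {O : Sheaf J CommRingCat.{u}}
  (P : CochainComplex (ModSite.Mod O) ℤ)

/-- Bounded above flat complexes on which powers of scalars are nullhomotopic. -/
def Nice (U : C) {r : ℕ} (b : Fin r → O.obj.obj (op U)) (K : CochainComplex (ModSite.Mod (O.over U)) ℤ) : Prop :=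
  (∃ a : ℤ, K.IsStrictlyLE a) ∧ (∀ n, ModSite.IsFlat (K.X n)) ∧
    ∀ i, ∃ N : ℕ, Nonempty (Homotopy (DerComp.GSec.ofSect O U (b i) ^ N • 𝟙 K) 0)

lemma Nice.shift {U : C} {r : ℕ} {b : Fin r → O.obj.obj (op U)} {K : CochainComplex (ModSite.Mod (O.over U)) ℤ}
    (h : Nice U b K) (m : ℤ) : Nice U b (K⟦m⟧) := by
  obtain ⟨⟨a, ha⟩, hf, hh⟩ := h
  refine ⟨⟨a - m, CochainComplex.isStrictlyLE_shift K a m (a - m) (by omega)⟩, fun n => hf (n + m), fun i => ?_⟩
  obtain ⟨N, ⟨H⟩⟩ := hh i
  refine ⟨N, ⟨((Homotopy.ofEq ?_).trans (H.shift m)).trans (Homotopy.ofEq (Functor.map_zero _ _ _))⟩⟩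
  exact HomologicalComplex.hom_ext _ _ fun n => rfl

lemma nice_koszul (U : C) {r : ℕ} (b : Fin r → O.obj.obj (op U)) : Nice U b (koszulCx U b) := by
  haveI : (unitSys U b).cx.IsStrictlyLE 0 := by
    rw [CochainComplex.isStrictlyLE_iff]
    exact fun i hi => HomologicalComplex.isZero_single_obj_X _ _ _ _ (by omega)
  have hu : ModSite.IsFlat (ModSite.unit (O.over U)) := (isFlat_iff_preservesFiniteLimits _).2
    (preservesFiniteLimits_of_natIso ((unitTensorIso (O.over U)).symm ≪≫
      ((tensorFlipIso (O.over U)).app (ModSite.unit (O.over U))).symm))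
  refine ⟨⟨0, Koszul.isStrictlyLE_iter (unitSys U b) 0 r⟩,
    Koszul.prop_iter _ (fun M N => isFlat_biprod (O.over U) M N) (fun _ _ => isFlat_of_iso) _ (fun i => ?_) r,
    fun i => homotopic_zero_iter (fun i => DerComp.GSec.ofSect O U (b i)) (ModSite.unit (O.over U)) _ r i i.2⟩
  by_cases hi : i = 0
  · subst hi
    exact isFlat_of_iso (HomologicalComplex.singleObjXSelf (ComplexShape.up ℤ) 0 (ModSite.unit (O.over U))).symm hu
  · exact (isFlat_of_isZero _ _ (HomologicalComplex.isZero_single_obj_X _ _ _ _ hi))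

set_option maxHeartbeats 1000000 in
/-- No maps from tensor products with Koszul complexes into orthogonal objects. -/
theorem subsingleton_LTensorCx [ModSite.HasLTensorCx P] (I : DerComp.IdealSh O) {U : C} {r : ℕ}
    (b : Fin r → O.obj.obj (op U)) (hgen : (I.over U).IsGenBy fun i => DerComp.GSec.ofSect O U (b i))
    [(ModSite.extZero O U).Additive] [(ModSite.restr O U).Additive]
    [PreservesFiniteLimits (ModSite.restr O U)] [PreservesFiniteColimits (ModSite.restr O U)]
    (K : CochainComplex (ModSite.Mod (O.over U)) ℤ) (hK : Nice U b K) (Z : DerivedCategory (ModSite.Mod O))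
    (hZ : ∀ E, DerComp.IsDerComp O I E → Subsingleton (Z ⟶ E)) :
    Subsingleton ((ModSite.LTensorCx P).obj
      (DerivedCategory.Q.obj (((ModSite.extZero O U).mapHomologicalComplex (ComplexShape.up ℤ)).obj K)) ⟶ Z) := by
  haveI := ModTensor.preservesFiniteLimits_extZero O U
  haveI := ModTensor.preservesFiniteColimits_extZero O U
  haveI : (ModTensor.restrBi O U).Additive := inferInstance
  haveI : ∀ X, ((ModTensor.restrBi O U).obj X).Additive := fun X =>
    inferInstanceAs (ModSite.restr O U ⋙ (ModSite.tensorBi (O.over U)).obj X).Additive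
  haveI : PreservesColimitsOfSize.{0, 0} (ModSite.extZero O U) :=
    (ModSite.extZeroAdj O U).leftAdjoint_preservesColimits
  obtain ⟨⟨a, ha⟩, hfl, hh⟩ := hK
  let E := (ModSite.extZero O U).mapHomologicalComplex (ComplexShape.up ℤ)
  let RP := ((ModSite.restr O U).mapHomologicalComplex (ComplexShape.up ℤ)).obj P
  let tot := ((ModSite.tensorCx (O.over U)).obj K).obj RP
  haveI : CochainComplex.IsStrictlyLE (E.obj K) a := by
    rw [CochainComplex.isStrictlyLE_iff]
    exact fun i hi => (ModSite.extZero O U).map_isZero (CochainComplex.isZero_of_isStrictlyLE K a i hi)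
  have hEK : ModSite.IsKFlat (E.obj K) :=
    ModTensor.isKFlat_of_isStrictlyLE _ a fun n => isFlat_extZero (hfl n)
  let c := ((ModSite.tensorCxQ P).totalLeftDerivedCounit DerivedCategory.Q
      (HomologicalComplex.quasiIso (ModSite.Mod O) (ComplexShape.up ℤ)))
  have hc : IsIso (c.app (E.obj K)) := TensorLinear.isIso_counit P hEK
  let T := KFlatLib.totalMapIso (ModTensor.projBiIso O U) K P
  let η : (ModSite.LTensorCx P).obj (DerivedCategory.Q.obj (E.obj K)) ≅
      (ModSite.extZero O U).mapDerivedCategory.obj (DerivedCategory.Q.obj tot) :=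
    @asIso _ _ _ _ (c.app (E.obj K)) hc ≪≫ DerivedCategory.Q.mapIso T ≪≫
      ((ModSite.extZero O U).mapDerivedCategoryFactors.app tot).symm
  have hk : KilledPow (fun i => DerComp.GSec.ofSect O U (b i)) (DerivedCategory.Q.obj tot) := fun i => by
    obtain ⟨N, ⟨H⟩⟩ := hh i
    refine ⟨N, ?_⟩
    obtain ⟨H'⟩ := KFlatLib.nonempty_homotopy₁ (ModSite.tensorBi (O.over U)) RP
      (H.trans (Homotopy.ofEq (show (0 : K ⟶ K) = (0 : DerComp.GSec (O.over U)) • 𝟙 K from (zero_smul _ _).symm)))
    have h0 : DerivedCategory.Q.map (DerComp.GSec.ofSect O U (b i) ^ N • 𝟙 tot) = 0 := by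
      rw [← TensorLinear.tensorCx_map_smul]
      refine (NatIso.naturality_1 (DerivedCategory.quotientCompQhIso _) _).symm.trans ?_
      show _ ≫ DerivedCategory.Qh.map ((HomotopyCategory.quotient _ _).map _) ≫ _ = 0
      erw [HomotopyCategory.eq_of_homotopy _ _ H']
      rw [show ((ModSite.tensorBi (O.over U)).map₂CochainComplex.flip.obj RP).map ((0 : DerComp.GSec (O.over U)) • 𝟙 K) =
          (0 : DerComp.GSec (O.over U)) • 𝟙 tot from TensorLinear.tensorCx_map_smul _ _ _]
      simp
    rwa [Functor.map_smul, CategoryTheory.Functor.map_id] at h0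
  let ad := TelLocal.derivedAdjunction (ModSite.extZeroAdj O U)
  exact @Equiv.subsingleton _ _ η.homFromEquiv
    (@Equiv.subsingleton _ _ (ad.homEquiv _ _) (subsingleton_killed_to_orth I b hgen Z hZ _ hk))

set_option maxHeartbeats 1000000 in
/-- Internal homs of the completion map are universal. -/
theorem RHom_toDerCompletion_bijective (I : DerComp.IdealSh O) (hI : I.IsFiniteType) [DerComp.HasDerCompletion O I]
    [ModSite.HasLTensorCx P] [DerComp.HasRHom P] (G N : DerivedCategory (ModSite.Mod O))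
    (hN : DerComp.IsDerComp O I N) :
    Function.Bijective fun g => (DerComp.RHom P).map (DerComp.toDerCompletion I G) ≫ g ≫ 𝟙 N := by
  let η := DerComp.toDerCompletion I G
  let φ := (DerComp.RHom P).map η
  obtain ⟨F, p, δ, hT⟩ := distinguished_cocone_triangle η
  obtain ⟨F', p', δ', hT'⟩ := distinguished_cocone_triangle φ
  have hF : ∀ m : ℤ, Subsingleton (F' ⟶ N⟦m⟧) := fun m => by
    refine subsingleton_to_complete I hI F' (fun U r b hgen _ _ _ k => ?_) _ (isDerComp_shift I hN m)
    haveI := ModTensor.preservesFiniteLimits_extZero O U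
    haveI := ModTensor.preservesFiniteColimits_extZero O U
    haveI := ModTensor.additive_extZero O U
    let E := (ModSite.extZero O U).mapHomologicalComplex (ComplexShape.up ℤ)
    have hF0 : ∀ m : ℤ, ∀ E, DerComp.IsDerComp O I E → Subsingleton (F⟦m⟧ ⟶ E) := fun m E hE => by
      have := subsingleton_cone I hT _ (isDerComp_shift I hE (-m))
      refine ⟨fun f g => (shiftFunctor (DerivedCategory (ModSite.Mod O)) (-m)).map_injective ?_⟩
      rw [← cancel_epi ((shiftFunctorCompIsoId (DerivedCategory (ModSite.Mod O)) m (-m) (by omega)).inv.app F)]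
      exact this.elim _ _
    -- postcomposition is bijective on test objects
    have hb : ∀ K, Nice U b K → Function.Bijective fun g : DerivedCategory.Q.obj (E.obj K) ⟶ (DerComp.RHom P).obj G =>
        g ≫ φ := fun K hK => by
      have h1 := bijective_post_of_triangle hT (subsingleton_LTensorCx P I b hgen K hK F (subsingleton_cone I hT))
        (subsingleton_LTensorCx P I b hgen K hK _ (hF0 (-1)))
      let a := DerComp.RHomAdj P
      refine (congrArg Function.Bijective (funext fun g => ?_)).mp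
        ((a.homEquiv _ _).bijective.comp (h1.comp (a.homEquiv _ _).symm.bijective))
      show a.homEquiv _ _ ((a.homEquiv _ _).symm g ≫ η) = g ≫ φ
      rw [a.homEquiv_naturality_right, Equiv.apply_symm_apply]
    have hTF : ∀ K, Nice U b K → Subsingleton (DerivedCategory.Q.obj (E.obj K) ⟶ F') := fun K hK => by
      refine subsingleton_of_forall_eq 0 fun x => ?_
      let S := shiftFunctor (DerivedCategory (ModSite.Mod O)) (-1 : ℤ)
      let e : DerivedCategory.Q.obj (E.obj (K⟦(-1 : ℤ)⟧)) ≅ S.obj (DerivedCategory.Q.obj (E.obj K)) :=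
        DerivedCategory.Q.mapIso ((E.commShiftIso (-1 : ℤ)).app K) ≪≫
          (DerivedCategory.Q.commShiftIso (-1 : ℤ)).app (E.obj K)
      let i := shiftFunctorCompIsoId (DerivedCategory (ModSite.Mod O)) (1 : ℤ) (-1) (by omega)
      have h3 : x ≫ δ' = 0 := S.map_injective (by
        rw [← cancel_mono (i.hom.app _), ← cancel_epi e.hom]
        refine (hb _ (hK.shift (-1))).1 ?_
        show (e.hom ≫ S.map (x ≫ δ') ≫ i.hom.app _) ≫ φ = (e.hom ≫ S.map 0 ≫ i.hom.app _) ≫ φ
        rw [assoc, assoc, show i.hom.app ((DerComp.RHom P).obj G) ≫ φ = S.map (φ⟦(1 : ℤ)⟧') ≫ i.hom.app _ from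
          (i.hom.naturality φ).symm, ← S.map_comp_assoc, assoc x]
        have h31 : δ' ≫ φ⟦(1 : ℤ)⟧' = 0 := comp_distTriang_mor_zero₃₁ _ hT'
        rw [h31, comp_zero, S.map_zero]
        simp)
      obtain ⟨y, rfl⟩ := Triangle.coyoneda_exact₃ _ hT' x h3
      obtain ⟨z, rfl⟩ := (hb K hK).2 y
      show (z ≫ φ) ≫ p' = 0
      have h12 : φ ≫ p' = 0 := comp_distTriang_mor_zero₁₂ _ hT'
      rw [assoc, h12, comp_zero]
    let ad := TelLocal.derivedAdjunction (ModSite.extZeroAdj O U)
    have hV : Subsingleton (DerivedCategory.Q.obj ((koszulCx U b)⟦-k⟧) ⟶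
        (ModSite.restr O U).mapDerivedCategory.obj F') :=
      @Equiv.subsingleton _ _ (ad.homEquiv _ _).symm (@Equiv.subsingleton _ _
        ((ModSite.extZero O U).mapDerivedCategoryFactors.app _).homFromEquiv (hTF _ ((nice_koszul U b).shift (-k))))
    refine ⟨fun x y => (shiftFunctor (DerivedCategory (ModSite.Mod (O.over U))) (-k)).map_injective ?_⟩
    rw [← cancel_epi ((DerivedCategory.Q.commShiftIso (-k)).hom.app (koszulCx U b)),
      ← cancel_mono ((shiftFunctorCompIsoId (DerivedCategory (ModSite.Mod (O.over U))) k (-k) (by omega)).hom.app _)]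
    exact hV.elim _ _
  let e := (shiftFunctorZero (DerivedCategory (ModSite.Mod O)) ℤ).app N
  have hb := bijective_pre_of_triangle (f := φ) hT' hF 0
  refine (congrArg Function.Bijective (funext fun g => ?_)).mp
    (e.homToEquiv.bijective.comp (hb.comp e.homToEquiv.symm.bijective))
  simp [Iso.homToEquiv, φ, η]

end Groth.Agent.DerCompEquiv
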