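import Groth.Agent.H9Misc.DRingAdic
import Groth.Agent.H9Misc.DRingComplAmp
import Groth.Agent.H9Misc.DRingRestrict
import Groth.Agent.DerCompEquiv.Orth
import Groth.Agent.PushAmp.ComplFinite
import Groth.Agent.S7096

/-!
# Completions of finite modules over Noetherian algebras
-/

set_option backward.isDefEq.respectTransparency false
set_option linter.style.haveILetI false

universe u

open CategoryTheory CategoryTheory.Category CategoryTheory.Limits CategoryTheory.Pretriangulated
open Groth.Agent.H9Misc Groth.Agent.H9Misc.DRingNakayama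

attribute [local instance] HasDerivedCategory.standard

namespace Groth.Agent.DerCompEquiv.RR

section Dead

variable {D : Type*} [Category* D] [Preadditive D] [HasZeroObject D] [HasShift D ℤ]
  [∀ n : ℤ, (shiftFunctor D n).Additive] [Pretriangulated D]
variable {R : Type*} [CommRing R] [Linear R D]

/-- The iterated cones of the scalars vanish. -/
def Dead : List R → D → Prop
  | [], W => IsZero W
  | s :: l, W => ∃ (Z : D) (q : W ⟶ Z) (d : Z ⟶ W⟦(1 : ℤ)⟧),
      Triangle.mk (s • 𝟙 W) q d ∈ distTriang D ∧ Dead l Z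

end Dead

section Map

variable {D : Type*} [Category* D] [Preadditive D] [HasZeroObject D] [HasShift D ℤ]
  [∀ n : ℤ, (shiftFunctor D n).Additive] [Pretriangulated D]
variable {D' : Type*} [Category* D'] [Preadditive D'] [HasZeroObject D'] [HasShift D' ℤ]
  [∀ n : ℤ, (shiftFunctor D' n).Additive] [Pretriangulated D']
variable {R R' : Type*} [CommRing R] [Linear R D] [CommRing R'] [Linear R' D']

lemma Dead.map (F : D ⥤ D') [F.CommShift ℤ] [F.IsTriangulated] [F.Additive] (φ : R' → R)
    (hF : ∀ (a : R') (W : D), F.map (φ a • 𝟙 W) = a • 𝟙 (F.obj W)) :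
    ∀ (l : List R') (W : D), Dead (l.map φ) W → Dead l (F.obj W)
  | [], W, h => F.map_isZero h
  | a :: l, W, h => by
    obtain ⟨Z, q, d, hT, hZ⟩ := h
    have h' := F.map_distinguished _ hT
    refine ⟨F.obj Z, F.map q, F.map d ≫ (F.commShiftIso (1 : ℤ)).hom.app W, ?_, Dead.map F φ hF l Z hZ⟩
    have e : F.mapTriangle.obj (Triangle.mk (φ a • 𝟙 W) q d) =
        Triangle.mk (a • 𝟙 (F.obj W)) (F.map q) (F.map d ≫ (F.commShiftIso (1 : ℤ)).hom.app W) := by
      show Triangle.mk (F.map (φ a • 𝟙 W)) _ _ = _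
      rw [hF]
      rfl
    rwa [e] at h'

end Map

section Orth

variable {D : Type*} [Category* D] [Preadditive D] [HasZeroObject D] [HasShift D ℤ]
  [∀ n : ℤ, (shiftFunctor D n).Additive] [Pretriangulated D]
variable {R : Type*} [CommRing R] [Linear R D] [∀ n : ℤ, (shiftFunctor D n).Linear R]

lemma Dead.lOrth : ∀ (l : List R) (W : D), Dead l W → ∀ X : D, Tors l X → LOrth X W
  | [], W, h, X, _ => fun n => ⟨fun a b => h.eq_of_src a b⟩
  | s :: l, W, h, X, hX => fun n => by
    obtain ⟨Z, q, d, hT, hZ⟩ := h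
    have hZo := Dead.lOrth l Z hZ X fun f hf => hX f (List.mem_cons_of_mem _ hf)
    have hinj : ∀ x : W ⟶ X⟦n⟧, s • x = 0 → x = 0 := fun x hx => by
      obtain ⟨z, hz⟩ := Triangle.yoneda_exact₂ _ hT x (by
        show (s • 𝟙 W) ≫ x = 0
        rw [Linear.smul_comp, id_comp, hx])
      rw [hz, (hZo n).elim z 0]
      exact comp_zero
    obtain ⟨k, hk⟩ := hX s List.mem_cons_self
    have hpow : ∀ (j : ℕ) (x : W ⟶ X⟦n⟧), s ^ j • x = 0 → x = 0 := fun j => by
      induction j with
      | zero => intro x hx; simpa using hx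
      | succ j ih => intro x hx; exact ih x (hinj _ (by rw [smul_smul, ← pow_succ']; exact hx))
    exact subsingleton_of_forall_eq 0 fun x => hpow k x (smul_hom_eq_zero (smul_shift_eq_zero hk n) x)

end Orth

variable {A : Type u} [CommRing A]

/-- Powers of ideals are preserved by equivalences. -/
lemma mem_smul_top_iff_of_equiv (I : Ideal A) (n : ℕ) {M N : Type*} [AddCommGroup M] [Module A M] [AddCommGroup N]
    [Module A N] (e : M ≃ₗ[A] N) (x : M) : e x ∈ (I ^ n • ⊤ : Submodule A N) ↔ x ∈ (I ^ n • ⊤ : Submodule A M) := by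
  conv_lhs => rw [show (⊤ : Submodule A N) = Submodule.map (e : M →ₗ[A] N) ⊤ by
    rw [Submodule.map_top, LinearEquiv.range], ← Submodule.map_smul'', Submodule.mem_map_equiv, e.symm_apply_apply]

/-- Objects killed by powers of generators are complete. -/
lemma isDerivedComplete_of_tors (I : Ideal A) (l : List A) (hl : Ideal.ofList l = I) {N : Dual.D A}
    (hN : Tors l N) : DRing.IsDerivedComplete I N := by
  refine (DRingTel.isDerivedComplete_iff _ N).2 fun f hf i => ?_
  refine TBMod.mem_tbIdeal.1 ((show I ≤ TBMod.tbIdeal (Dual.HD A N i) (A := A) from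
    hl ▸ Ideal.span_le.2 fun g hg => ?_) hf)
  obtain ⟨M, hM⟩ := hN g hg
  refine tb_sc_of_nilpotent _ M fun x => ?_
  have h0 : (g ^ M) • 𝟙 ((DerivedCategory.homologyFunctor (ModuleCat.{u} A) i).obj N) = 0 := by
    obtain ⟨K, ⟨e⟩⟩ : ∃ K, Nonempty (DerivedCategory.Q.obj K ≅ N) :=
      ⟨_, ⟨DerivedCategory.Q.objObjPreimageIso N⟩⟩
    let H := DerivedCategory.homologyFunctor (ModuleCat.{u} A) i
    have h2 := (DerivedCategory.homologyFunctorFactors (ModuleCat.{u} A) i).hom.naturality ((g ^ M) • 𝟙 K)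
    have h3 : HomologicalComplex.homologyMap ((g ^ M) • 𝟙 K) i = (g ^ M) • 𝟙 (K.homology i) := by
      show ShortComplex.homologyMap ((g ^ M) • 𝟙 (K.sc i)) = _
      rw [ShortComplex.homologyMap_smul, ShortComplex.homologyMap_id]
      rfl
    have hK : DerivedCategory.Q.map ((g ^ M) • 𝟙 K) = 0 := by
      rw [Functor.map_smul, CategoryTheory.Functor.map_id, ← cancel_mono e.hom, Linear.smul_comp, id_comp,
        ← comp_id e.hom, ← Linear.comp_smul, hM, comp_zero, zero_comp]
    have h4 : HomologicalComplex.homologyMap ((g ^ M) • 𝟙 K) i = 0 := by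
      rw [← cancel_epi ((DerivedCategory.homologyFunctorFactors (ModuleCat.{u} A) i).hom.app K), comp_zero]
      refine h2.symm.trans ?_
      show H.map (DerivedCategory.Q.map ((g ^ M) • 𝟙 K)) ≫ _ = 0
      rw [hK, Functor.map_zero, zero_comp]
    let eK : H.obj N ≅ K.homology i :=
      H.mapIso e.symm ≪≫ (DerivedCategory.homologyFunctorFactors (ModuleCat.{u} A) i).app K
    rw [← cancel_mono eK.hom, Linear.smul_comp, id_comp, ← comp_id eK.hom, ← Linear.comp_smul, ← h3, h4,
      comp_zero, zero_comp]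
  have h1 : ∀ k, (TBMod.mulBy (Dual.HD A N i) g)^[k] x = g ^ k • x := fun k => by
    induction k with
    | zero => simp
    | succ k ih => rw [Function.iterate_succ_apply', ih, TBMod.mulBy_apply, smul_smul, pow_succ']
  rw [h1]
  exact congrArg (fun t : (DerivedCategory.homologyFunctor (ModuleCat.{u} A) i).obj N ⟶ _ => t.hom x) h0

/-- Objects without maps into complete objects are dead. -/
lemma dead_of_orth (I : Ideal A) (l₀ : List A) (hl : Ideal.ofList l₀ = I) :
    ∀ (l l₂ : List A) (W : Dual.D A), (∀ f, f ∈ l₀ → f ∈ l ∨ f ∈ l₂) → Tors l₂ W →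
      (∀ E, DRing.IsDerivedComplete I E → LOrth E W) → Dead l W := by
  intro l
  induction l with
  | nil =>
    intro l₂ W hmem hW ho
    have hc := isDerivedComplete_of_tors I l₀ hl
      (fun f hf => hW f ((hmem f hf).resolve_left List.not_mem_nil))
    show IsZero W
    rw [IsZero.iff_id_eq_zero, ← cancel_mono ((shiftFunctorZero (Dual.D A) ℤ).app W).inv]
    exact (ho W hc 0).elim _ _
  | cons f l ih =>
    intro l₂ W hmem hW ho
    obtain ⟨Z, q, d, hT⟩ := distinguished_cocone_triangle (f • 𝟙 W)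
    have hfq : f • q = 0 := by
      rw [← id_comp q, ← Linear.smul_comp]
      exact comp_distTriang_mor_zero₁₂ _ hT
    have hfd : f • d = 0 := by
      have h1 : d ≫ (shiftFunctor (Dual.D A) (1 : ℤ)).map (f • 𝟙 W) = 0 := comp_distTriang_mor_zero₃₁ _ hT
      rwa [Functor.map_smul, CategoryTheory.Functor.map_id, Linear.comp_smul, comp_id] at h1
    refine ⟨Z, q, d, hT, ih (f :: l₂) Z (fun g hg => ?_) ?_ fun E hE n => ?_⟩
    · rcases hmem g hg with h | h
      · rcases List.mem_cons.1 h with rfl | h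
        · exact Or.inr List.mem_cons_self
        · exact Or.inl h
      · exact Or.inr (List.mem_cons_of_mem _ h)
    · intro g hg
      rcases List.mem_cons.1 hg with rfl | hg
      · exact ⟨2, cone_killed hT hfq hfd⟩
      · obtain ⟨k, hk⟩ := hW g hg
        refine ⟨k * 2, ?_⟩
        rw [pow_mul]
        refine cone_killed hT ?_ (smul_hom_eq_zero (smul_shift_eq_zero hk 1) d)
        rw [← id_comp q, ← Linear.smul_comp, hk, zero_comp]
    · have h₁ := ho E hE
      refine subsingleton_of_forall_eq 0 fun x => mor₂_injective _ hT h₁ ?_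
      exact (h₁ n).elim _ _

/-- Maps with dead cone into complete objects are reflections. -/
theorem refl_of_dead {I : Ideal A} (l : List A) (hl : Ideal.ofList l = I) {X Y W : Dual.D A} {c : X ⟶ Y}
    {q : Y ⟶ W} {d : W ⟶ X⟦(1 : ℤ)⟧} (hT : Triangle.mk c q d ∈ distTriang _)
    (hY : DRing.IsDerivedComplete I Y) (hW : Dead l W) : DRingCompl.Refl (DRing.IsDerivedComplete I) c := by
  have ho : ∀ Z, DRing.IsDerivedComplete I Z → LOrth Z W := fun Z hZ =>
    DRingAdic.lOrth_of_complete I l (fun f hf => hl ▸ Ideal.subset_span hf) (fun X hX => hW.lOrth l W X hX)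
      l [] Z (fun f => by simp) hZ (fun f hf => absurd hf List.not_mem_nil)
  refine ⟨hY, fun Z hZ n => ⟨fun g g' h => sub_eq_zero.1 (lOrth_mor₁ _ hT (ho Z hZ) ?_), fun x => ?_⟩⟩
  · show c ≫ (g - g') = 0
    rw [Preadditive.comp_sub, sub_eq_zero]
    exact h
  · have hT' := inv_rot_of_distTriang _ hT
    obtain ⟨g, hg⟩ := Triangle.yoneda_exact₂ _ hT' x ((lOrth_shift (ho Z hZ) (-1) n).elim _ _)
    exact ⟨g, hg.symm⟩

/-- Reflections have dead cones. -/
theorem dead_of_refl {I : Ideal A} (l : List A) (hl : Ideal.ofList l = I) {X Y W : Dual.D A} {c : X ⟶ Y}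
    {q : Y ⟶ W} {d : W ⟶ X⟦(1 : ℤ)⟧} (hT : Triangle.mk c q d ∈ distTriang _)
    (h : DRingCompl.Refl (DRing.IsDerivedComplete I) c) : Dead l W := by
  refine dead_of_orth I l hl l [] W (fun f hf => Or.inl hf) (fun f hf => absurd hf List.not_mem_nil) fun E hE n => ?_
  refine subsingleton_of_forall_eq 0 fun x => ?_
  have hq : q ≫ x = 0 := h.cancel hE (by
    rw [comp_zero, ← assoc]
    have h12 : c ≫ q = 0 := comp_distTriang_mor_zero₁₂ _ hT
    rw [h12, zero_comp])
  obtain ⟨y, hy⟩ := Triangle.yoneda_exact₃ _ hT x hq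
  obtain ⟨z, hz⟩ := (h.shift_bij 1 hE n).2 y
  rw [hy, ← hz]
  show d ≫ c⟦(1 : ℤ)⟧' ≫ z = 0
  have h31 : d ≫ c⟦(1 : ℤ)⟧' = 0 := comp_distTriang_mor_zero₃₁ _ hT
  rw [← assoc, h31, zero_comp]

/-- Cohomology in degree zero of a module. -/
noncomputable abbrev h0 (M : ModuleCat.{u} A) :
    (DerivedCategory.homologyFunctor (ModuleCat.{u} A) 0).obj ((DerivedCategory.singleFunctor (ModuleCat.{u} A) 0).obj M) ≅ M :=
  (DerivedCategory.singleFunctorCompHomologyFunctorIso (ModuleCat.{u} A) 0).app M

variable {B : Type u} [CommRing B] (φ : A →+* B)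

/-- Scalars through the ring map. -/
lemma restrictD_map_smul (a : A) (W : Dual.D B) :
    (DRing.restrictD φ).map (φ a • 𝟙 W) = a • 𝟙 ((DRing.restrictD φ).obj W) := by
  let F := ModuleCat.restrictScalars.{u} φ
  let Fc := F.mapHomologicalComplex (ComplexShape.up ℤ)
  obtain ⟨K, ⟨e⟩⟩ : ∃ K, Nonempty (DerivedCategory.Q.obj K ≅ W) := ⟨_, ⟨DerivedCategory.Q.objObjPreimageIso W⟩⟩
  let fac := F.mapDerivedCategoryFactors
  have hc : Fc.map (φ a • 𝟙 K) = a • 𝟙 (Fc.obj K) := HomologicalComplex.hom_ext _ _ fun i => ModuleCat.hom_ext rfl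
  have hK : (DRing.restrictD φ).map (φ a • 𝟙 (DerivedCategory.Q.obj K)) =
      a • 𝟙 ((DRing.restrictD φ).obj (DerivedCategory.Q.obj K)) := by
    rw [show φ a • 𝟙 (DerivedCategory.Q.obj K) = DerivedCategory.Q.map (φ a • 𝟙 K) by
      rw [Functor.map_smul, CategoryTheory.Functor.map_id], ← cancel_mono (fac.hom.app K)]
    refine (fac.hom.naturality _).trans ?_
    show _ ≫ DerivedCategory.Q.map (Fc.map (φ a • 𝟙 K)) = _
    rw [hc, Functor.map_smul, CategoryTheory.Functor.map_id, Linear.comp_smul, comp_id, Linear.smul_comp, id_comp]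
  have he : φ a • 𝟙 W = e.inv ≫ (φ a • 𝟙 (DerivedCategory.Q.obj K)) ≫ e.hom := by
    rw [Linear.smul_comp, id_comp, Linear.comp_smul, e.inv_hom_id]
  rw [he, Functor.map_comp, Functor.map_comp, hK, Linear.smul_comp, id_comp, Linear.comp_smul, ← Functor.map_comp,
    e.inv_hom_id, CategoryTheory.Functor.map_id]

/-- Restrictions of complete objects are complete. -/
lemma isDerivedComplete_restrict (I : Ideal A) {W : Dual.D B} (hW : DRing.IsDerivedComplete (I.map φ) W) :
    DRing.IsDerivedComplete I ((DRing.restrictD φ).obj W) := by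
  refine (DRingTel.isDerivedComplete_iff _ _).2 fun f hf i => ?_
  have h := (DRingTel.isDerivedComplete_iff _ _).1 hW (φ f) (Ideal.mem_map_of_mem φ hf) i
  let e := ((KFlatLib.mapDCHomologyIso (ModuleCat.restrictScalars.{u} φ) i).app W).toLinearEquiv
  exact TBMod.TBm.of_equiv e.symm h

/-- Powers of the ideal on a restricted module. -/
lemma mem_smul_top_restrict (I : Ideal A) (N : ModuleCat.{u} B) (n : ℕ) (x : N) :
    x ∈ ((I.map φ) ^ n • ⊤ : Submodule B N) ↔
      (show ((ModuleCat.restrictScalars.{u} φ).obj N) from x) ∈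
        (I ^ n • ⊤ : Submodule A ((ModuleCat.restrictScalars.{u} φ).obj N)) := by
  let RN := (ModuleCat.restrictScalars.{u} φ).obj N
  constructor
  · intro hx
    rw [← Ideal.map_pow] at hx
    refine Submodule.smul_induction_on hx (fun b hb m _ => ?_) fun y z hy hz => add_mem hy hz
    suffices ∀ m : N, (show RN from b • m) ∈ (I ^ n • ⊤ : Submodule A RN) from this m
    induction hb using Submodule.span_induction with
    | mem b hb =>
      obtain ⟨a, ha, rfl⟩ := hb
      exact fun m => Submodule.smul_mem_smul ha (Submodule.mem_top (x := (show RN from m)))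
    | zero =>
      intro m
      show (show RN from (0 : B) • m) ∈ _
      rw [zero_smul]
      exact zero_mem _
    | add b c _ _ h₁ h₂ =>
      intro m
      show (show RN from (b + c) • m) ∈ _
      rw [add_smul]
      exact add_mem (h₁ m) (h₂ m)
    | smul r b _ h =>
      intro m
      show (show RN from (r • b) • m) ∈ _
      rw [smul_eq_mul, mul_comm, mul_smul]
      exact h (r • m)
  · intro hx
    refine Submodule.smul_induction_on (M := RN) (p := fun y : RN => (show N from y) ∈ ((I.map φ) ^ n • ⊤ : Submodule B N)) hx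
      (fun a ha m _ => ?_) fun y z hy hz => add_mem hy hz
    show φ a • (show N from m) ∈ _
    exact Submodule.smul_mem_smul (Ideal.map_pow φ I n ▸ Ideal.mem_map_of_mem φ ha) Submodule.mem_top

set_option maxHeartbeats 1000000 in
/-- Completions of finite modules over Noetherian algebras are in degree zero. -/
theorem exists_finite_refl [IsNoetherianRing A] [IsNoetherianRing B] (I : Ideal A) (N : ModuleCat.{u} B)
    [Module.Finite B N] :
    ∃ (W : Dual.D A) (c : Dual.inD A ((ModuleCat.restrictScalars.{u} φ).obj N) ⟶ W),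
      DRingCompl.Refl (DRing.IsDerivedComplete I) c ∧ (∀ i : ℤ, i < 0 → Subsingleton (Dual.HD A W i)) ∧
      ∀ x : (ModuleCat.restrictScalars.{u} φ).obj N,
        ((DerivedCategory.homologyFunctor (ModuleCat.{u} A) 0).map c).hom ((h0 ((ModuleCat.restrictScalars.{u} φ).obj N)).inv.hom x) = 0 ↔
          ∀ n : ℕ, x ∈ (I ^ n • ⊤ : Submodule A ((ModuleCat.restrictScalars.{u} φ).obj N)) := by
  classical
  obtain ⟨s, hs⟩ : I.FG := IsNoetherian.noetherian _
  let l := s.toList
  have hl : Ideal.ofList l = I := by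
    rw [← hs]
    exact congrArg Ideal.span (by ext; simp [l])
  have hlB : Ideal.ofList (l.map φ) = I.map φ := by
    rw [← hl, Ideal.map_ofList]
  haveI : DRing.HasDerivedCompletion (I.map φ) := Groth.Agent.S7096.result _ (IsNoetherian.noetherian _)
  let X : Dual.D B := Dual.inD B N
  let F := ModuleCat.restrictScalars.{u} φ
  let Y : Dual.D B := ((DRing.derivedCompletion (I.map φ)).obj X).obj
  let c₀ : X ⟶ Y := DRing.toDerivedCompletion (I.map φ) X
  obtain ⟨V, q, d, hT⟩ := distinguished_cocone_triangle c₀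
  have hV : Dead (l.map φ) V := dead_of_refl _ hlB hT (DRingCompl.refl_unit X)
  have hV' := Dead.map (DRing.restrictD φ) φ (restrictD_map_smul φ) l V hV
  have hYc := isDerivedComplete_restrict φ I ((DRing.derivedCompletion (I.map φ)).obj X).property
  have hr := refl_of_dead l hl ((DRing.restrictD φ).map_distinguished _ hT) hYc hV'
  let eX : Dual.inD A (F.obj N) ≅ (DRing.restrictD φ).obj X := (DRingRestrict.restrictInDIso φ N).symm
  refine ⟨(DRing.restrictD φ).obj Y, eX.hom ≫ (DRing.restrictD φ).map c₀, ⟨hYc, fun Z hZ n => ?_⟩, fun i hi => ?_, fun x => ?_⟩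
  · have h1 := eX.symm.homFromEquiv.bijective.comp (hr.bij Z hZ n)
    refine (congrArg Function.Bijective (funext fun g => ?_)).mp h1
    exact (Category.assoc eX.hom ((DRing.restrictD φ).map c₀) g).symm
  all_goals
    have hfin : ∀ j : ℤ, Module.Finite B (Dual.HD B X j) := fun j => by
      rcases eq_or_ne j 0 with rfl | hj
      · exact Module.Finite.equiv (h0 N).toLinearEquiv.symm
      · haveI : Subsingleton (Dual.HD B X j) := ModuleCat.subsingleton_of_isZero (by
          rcases lt_or_gt_of_ne hj with h | h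
          · exact DerivedCategory.isZero_of_isGE _ 0 j h
          · exact DerivedCategory.isZero_of_isLE _ 0 j h)
        infer_instance
  · obtain ⟨e, -⟩ := PushAmp.ComplFinite.exists_homology_equiv (I.map φ) X hfin i
    haveI : Subsingleton (Dual.HD B X i) := ModuleCat.subsingleton_of_isZero (DerivedCategory.isZero_of_isGE _ 0 i hi)
    haveI : Subsingleton (AdicCompletion (I.map φ) (Dual.HD B X i)) :=
      ⟨fun a b => AdicCompletion.ext fun k => Subsingleton.elim _ _⟩
    haveI : Subsingleton (Dual.HD B Y i) := e.toEquiv.subsingleton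
    exact ModuleCat.subsingleton_of_isZero (DRingRestrict.isZero_H_restrict φ
      (ModuleCat.isZero_of_subsingleton _))
  · obtain ⟨e, he⟩ := PushAmp.ComplFinite.exists_homology_equiv (I.map φ) X hfin 0
    let HA := DerivedCategory.homologyFunctor (ModuleCat.{u} A) 0
    let HB := DerivedCategory.homologyFunctor (ModuleCat.{u} B) 0
    let ν := KFlatLib.mapDCHomologyIso F 0
    -- the comparison of the two descriptions of degree zero
    let eN : HB.obj X ≃ₗ[B] N := (h0 N).toLinearEquiv
    let eA : F.obj N ≅ F.obj (HB.obj X) := (h0 (F.obj N)).symm ≪≫ HA.mapIso eX ≪≫ ν.app X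
    have hnat : HA.map (eX.hom ≫ (DRing.restrictD φ).map c₀) ≫ (ν.app Y).hom =
        HA.map eX.hom ≫ (ν.app X).hom ≫ F.map (HB.map c₀) := by
      rw [Functor.map_comp, assoc]
      exact congrArg (HA.map eX.hom ≫ ·) (ν.hom.naturality c₀)
    have h1 : (ν.app Y).hom.hom ((HA.map (eX.hom ≫ (DRing.restrictD φ).map c₀)).hom ((h0 (F.obj N)).inv.hom x)) =
        (F.map (HB.map c₀)).hom (eA.hom.hom x) :=
      congrArg (fun t : HA.obj (Dual.inD A (F.obj N)) ⟶ F.obj (HB.obj Y) => t.hom ((h0 (F.obj N)).inv.hom x)) hnat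
    rw [← (ν.app Y).toLinearEquiv.map_eq_zero_iff]
    refine (Eq.congr_left h1).trans ?_
    show (HB.map c₀).hom (show HB.obj X from eA.hom.hom x) = 0 ↔ _
    rw [← e.map_eq_zero_iff, he]
    have key : ∀ z : HB.obj X, AdicCompletion.of (I.map φ) (HB.obj X) z = 0 ↔
        ∀ n : ℕ, z ∈ ((I.map φ) ^ n • ⊤ : Submodule B (HB.obj X)) := fun z =>
      ⟨fun h n => (Submodule.Quotient.mk_eq_zero _).1 (congrArg (fun w => w.val n) h),
        fun h => AdicCompletion.ext fun n => (Submodule.Quotient.mk_eq_zero _).2 (h n)⟩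
    refine (key _).trans (forall_congr' fun n => (mem_smul_top_restrict φ I (HB.obj X) n _).trans ?_)
    exact mem_smul_top_iff_of_equiv I n eA.toLinearEquiv x

end Groth.Agent.DerCompEquiv.RR
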