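import Groth.Agent.DerCompEquiv.SecTheta
import Groth.Agent.DerCompEquiv.Push
import Groth.Agent.PushAmp.ComplFinite
import Groth.Agent.S7096

/-!
# Cohomology of completed objects through morphisms out of a fixed object
-/

set_option backward.isDefEq.respectTransparency false
set_option linter.style.haveILetI false

universe u

open CategoryTheory CategoryTheory.Category CategoryTheory.Limits CategoryTheory.Pretriangulated Opposite
open Groth.Agent.H9Misc

attribute [local instance] HasDerivedCategory.standard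

namespace Groth.Agent.DerCompEquiv.Sec

section Tri

variable {D : Type*} [Category* D] [Preadditive D] [HasZeroObject D] [HasShift D ℤ]
  [∀ n : ℤ, (shiftFunctor D n).Additive] [Pretriangulated D]

lemma bijective_post_of_iso {K K' Y₁ Y₂ : D} (e : K ≅ K') {f : Y₁ ⟶ Y₂}
    (h : Function.Bijective fun g : K' ⟶ Y₁ => g ≫ f) : Function.Bijective fun g : K ⟶ Y₁ => g ≫ f := by
  refine ⟨fun a b hab => (cancel_epi e.inv).1 (h.1 ?_), fun y => ?_⟩
  · show (e.inv ≫ a) ≫ f = (e.inv ≫ b) ≫ f
    rw [assoc, assoc]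
    exact congrArg (e.inv ≫ ·) hab
  · obtain ⟨g, hg⟩ := h.2 (e.inv ≫ y)
    refine ⟨e.hom ≫ g, ?_⟩
    show (e.hom ≫ g) ≫ f = y
    rw [assoc, show g ≫ f = e.inv ≫ y from hg, Iso.hom_inv_id_assoc]

lemma subsingleton_cone_of_bijective {Y₁ Y₂ Z K : D} {f : Y₁ ⟶ Y₂} {p : Y₂ ⟶ Z} {δ : Z ⟶ Y₁⟦(1 : ℤ)⟧}
    (hT : Triangle.mk f p δ ∈ Pretriangulated.distinguishedTriangles)
    (h₀ : Function.Bijective fun g : K ⟶ Y₁ => g ≫ f)
    (h₁ : Function.Bijective fun g : K⟦(-1 : ℤ)⟧ ⟶ Y₁ => g ≫ f) : Subsingleton (K ⟶ Z) := by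
  refine subsingleton_of_forall_eq 0 fun x => ?_
  let S := shiftFunctor D (-1 : ℤ)
  let i := shiftFunctorCompIsoId D (1 : ℤ) (-1) (by omega)
  have h3 : x ≫ δ = 0 := S.map_injective (by
    rw [← cancel_mono (i.hom.app _)]
    refine h₁.1 ?_
    show (S.map (x ≫ δ) ≫ i.hom.app _) ≫ f = (S.map 0 ≫ i.hom.app _) ≫ f
    rw [assoc, assoc, show i.hom.app Y₁ ≫ f = S.map (f⟦(1 : ℤ)⟧') ≫ i.hom.app _ from
      (i.hom.naturality f).symm, ← S.map_comp_assoc, assoc x]
    have h31 : δ ≫ f⟦(1 : ℤ)⟧' = 0 := comp_distTriang_mor_zero₃₁ _ hT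
    rw [h31, comp_zero, S.map_zero]
    simp)
  obtain ⟨y, rfl⟩ := Triangle.coyoneda_exact₃ _ hT x h3
  obtain ⟨z, rfl⟩ := h₀.2 y
  show (z ≫ f) ≫ p = 0
  have h12 : f ≫ p = 0 := comp_distTriang_mor_zero₁₂ _ hT
  rw [assoc, h12, comp_zero]

end Tri

section Killed

variable {B : Type*} [Category* B] [Abelian B] [HasDerivedCategory B] {R : Type*} [CommRing R] [Linear R B]

/-- Orthogonality to killed objects is symmetric. -/
theorem subsingleton_killed_to {r : ℕ} (s : Fin r → R) (F : DerivedCategory B)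
    (hF : ∀ N, KilledPow s N → Subsingleton (F ⟶ N)) (K : DerivedCategory B) (hK : KilledPow s K) :
    Subsingleton (K ⟶ F) := by
  let Q' : DerivedCategory B → Prop := fun Y => ∀ N, KilledPow s N → Subsingleton (Y ⟶ N)
  let V' : DerivedCategory B → Prop := fun Y => ∀ K, KilledPow s K → Subsingleton (K ⟶ Y)
  refine vanish_of_step s Q' V' ?_ ?_ ?_ F hF K hK
  · intro i Y Z p δ hTr hY N hN
    refine subsingleton_of_forall_eq 0 fun x => ?_
    have hpx : p ≫ x = 0 := (hY N hN).elim _ _
    obtain ⟨y, rfl⟩ := Triangle.yoneda_exact₃ _ hTr x hpx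
    have hN' := hN.map (shiftFunctor (DerivedCategory B) (-1 : ℤ))
    have hy : y = 0 := (shiftFunctor (DerivedCategory B) (-1 : ℤ)).map_injective (by
      rw [← cancel_epi ((shiftFunctorCompIsoId (DerivedCategory B) (1 : ℤ) (-1) (by omega)).inv.app Y)]
      exact (hY _ hN').elim _ _)
    rw [hy]
    exact comp_zero
  · intro i Y Z p δ hTr _ hZ K hK
    obtain ⟨M, hM⟩ := hK i
    have h₁ : Subsingleton (K ⟶ Z⟦(-1 : ℤ)⟧) := by
      refine ⟨fun f g => (shiftFunctor (DerivedCategory B) (1 : ℤ)).map_injective ?_⟩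
      rw [← cancel_mono ((shiftFunctorCompIsoId (DerivedCategory B) (-1 : ℤ) 1 (by omega)).hom.app Z)]
      exact (hZ _ (hK.map _)).elim _ _
    refine subsingleton_of_nilpotent (s i) M (fun x => ?_) ?_
    · rw [← id_comp x, ← Linear.smul_comp, hM, zero_comp]
    · have e : (fun x : K ⟶ Y => s i • x) = fun x => x ≫ (s i • 𝟙 Y) := funext fun x => by
        rw [Linear.comp_smul, comp_id]
      rw [e]
      exact bijective_post_of_triangle hTr (hZ K hK) h₁
  · intro Y hY hYk K _
    have := hY Y hYk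
    exact ⟨fun f g => ((IsZero.iff_id_eq_zero Y).2 (this.elim _ _)).eq_of_tgt f g⟩

lemma tbm_of_linearEquiv {R : Type u} [CommRing R] {D : Type*} [Category* D] [Abelian D] [HasDerivedCategory D]
    [Linear R D] {X Y : DerivedCategory D} {M : Type*} [AddCommGroup M] [Module R M] (e : (X ⟶ Y) ≃ₗ[R] M) (c : R)
    (h : TelBij.TB (TelLocal.sc c X Y)) : TBMod.TBm M c :=
  TelBij.tb_of_injective_surjective e.toAddEquiv (fun x => e.map_smul c x) h

end Killed

variable {R : Type u} [CommRing R] {r : ℕ} (s : Fin r → R)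

/-- The scalars on the ring. -/
noncomputable def sysR : Koszul.Sys (ModuleCat.{u} R) r :=
  Koszul.Sys.single (ModuleCat.of R R) (fun i => s i • 𝟙 _) fun i j => by
    rw [Linear.smul_comp, Linear.smul_comp, id_comp, id_comp, smul_comm]

/-- The Koszul complex of the ring. -/
noncomputable def kosR : CochainComplex (ModuleCat.{u} R) ℤ := ((sysR s).iter r).cx

lemma killedPow_kosR (m : ℤ) : KilledPow s ((DerivedCategory.Q.obj (kosR s))⟦m⟧) :=
  (KilledPow.map (shiftFunctor (DerivedCategory (ModuleCat.{u} R)) m)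
    (fun i => killed_iter s (ModuleCat.of R R) _ r i i.2))

/-- Killed objects are complete. -/
theorem isDerivedComplete_of_killed (N : Dual.D R) (hN : KilledPow s N) :
    DRing.IsDerivedComplete (Ideal.span (Set.range s)) N := by
  refine (DRingTel.isDerivedComplete_iff _ N).2 fun f hf i => ?_
  refine TBMod.mem_tbIdeal.1 ((Ideal.span_le (I := TBMod.tbIdeal (Dual.HD R N i))).2 ?_ hf)
  rintro _ ⟨j, rfl⟩
  obtain ⟨M, hM⟩ := hN j
  refine tb_sc_of_nilpotent _ M fun x => ?_
  have h0 : (s j ^ M) • (𝟙 ((DerivedCategory.homologyFunctor (ModuleCat.{u} R) i).obj N)) = 0 := by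
    rw [← homologyFunctor_map_smul_id, hM, Functor.map_zero]
  have h1 : ∀ k, (TBMod.mulBy (Dual.HD R N i) (s j))^[k] x = s j ^ k • x := fun k => by
    induction k with
    | zero => simp
    | succ k ih => rw [Function.iterate_succ_apply', ih, TBMod.mulBy_apply, smul_smul, pow_succ']
  rw [h1]
  exact congrArg (fun g : (DerivedCategory.homologyFunctor (ModuleCat.{u} R) i).obj N ⟶ _ => g.hom x) h0

variable [IsNoetherianRing R]

set_option maxHeartbeats 1000000 in
/-- Objects with the universal property of completion against Koszul complexes have the completed cohomology. -/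
theorem exists_completion_equiv {M N : Dual.D R} (u : M ⟶ N)
    (hN : DRing.IsDerivedComplete (Ideal.span (Set.range s)) N) (hfin : ∀ n, Module.Finite R (Dual.HD R M n))
    (hb : ∀ m : ℤ, Function.Bijective fun x : (DerivedCategory.Q.obj (kosR s))⟦m⟧ ⟶ M => x ≫ u) (n : ℤ) :
    ∃ e : Dual.HD R N n ≃ₗ[R] AdicCompletion (Ideal.span (Set.range s)) (Dual.HD R M n),
      ∀ x, e (((DerivedCategory.homologyFunctor (ModuleCat.{u} R) n).map u).hom x) =
        AdicCompletion.of (Ideal.span (Set.range s)) (Dual.HD R M n) x := by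
  let I := Ideal.span (Set.range s)
  haveI : DRing.HasDerivedCompletion I := Groth.Agent.S7096.result I (IsNoetherian.noetherian _)
  let c := DRing.toDerivedCompletion I M
  let Mc := ((DRing.derivedCompletion I).obj M).obj
  have hMc : DRing.IsDerivedComplete I Mc := ((DRing.derivedCompletion I).obj M).property
  have hR := DRingCompl.refl_unit (I := I) M
  let z := (shiftFunctorZero (Dual.D R) ℤ).app N
  obtain ⟨v₀, hv₀⟩ := (hR.bij N hN 0).2 (u ≫ z.inv)
  let v : Mc ⟶ N := v₀ ≫ z.hom
  have hcv : c ≫ v = u := by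
    show c ≫ v₀ ≫ z.hom = u
    rw [← assoc, show c ≫ v₀ = u ≫ z.inv from hv₀, assoc, z.inv_hom_id]
    exact comp_id u
  obtain ⟨F, p, δ, hT⟩ := distinguished_cocone_triangle c
  -- the completion map is bijective from killed objects
  have hF : ∀ K, KilledPow s K → Subsingleton (K ⟶ F) := subsingleton_killed_to s F fun E hE => by
    have hE' : DRing.IsDerivedComplete I E := isDerivedComplete_of_killed s E hE
    let zE := (shiftFunctorZero (Dual.D R) ℤ).app E
    refine subsingleton_of_forall_eq 0 fun x => ?_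
    have h0 : p ≫ x = 0 := by
      rw [← cancel_mono zE.inv]
      refine hR.cancel hE' ?_
      have h12 : c ≫ p = 0 := comp_distTriang_mor_zero₁₂ _ hT
      rw [← assoc, ← assoc, h12, zero_comp, zero_comp, zero_comp, comp_zero]
    obtain ⟨y, rfl⟩ := Triangle.yoneda_exact₃ _ hT x h0
    obtain ⟨g, hg⟩ := (hR.shift_bij 1 hE' 0).2 (y ≫ zE.inv)
    show δ ≫ y = 0
    have h31 : δ ≫ c⟦(1 : ℤ)⟧' = 0 := comp_distTriang_mor_zero₃₁ _ hT
    rw [← cancel_mono zE.inv, assoc, ← hg, zero_comp, ← assoc, h31, zero_comp]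
  have hc : ∀ K, KilledPow s K → Function.Bijective fun x : K ⟶ M => x ≫ c := fun K hK => by
    refine bijective_post_of_triangle hT (hF K hK) ?_
    refine ⟨fun f g => (shiftFunctor (Dual.D R) (1 : ℤ)).map_injective ?_⟩
    rw [← cancel_mono ((shiftFunctorCompIsoId (Dual.D R) (-1 : ℤ) 1 (by omega)).hom.app F)]
    exact (hF _ (hK.map _)).elim _ _
  -- the comparison is bijective on Koszul complexes
  have hv : ∀ m : ℤ, Function.Bijective fun x : (DerivedCategory.Q.obj (kosR s))⟦m⟧ ⟶ Mc => x ≫ v := fun m => by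
    have h1 := hc _ (killedPow_kosR s m)
    refine (Function.Bijective.of_comp_iff _ h1).1 ?_
    refine (congrArg Function.Bijective (funext fun x => ?_)).mp (hb m)
    show x ≫ u = (x ≫ c) ≫ v
    rw [assoc, hcv]
  obtain ⟨V, q, ε, hV⟩ := distinguished_cocone_triangle v
  have hVc : DRing.IsDerivedComplete I V := DRingNakayama.isDerivedComplete_obj₃ I _ hV hMc hN
  have hr : ∀ m : ℤ, Subsingleton (DerivedCategory.Q.obj (kosR s) ⟶ V⟦m⟧) := fun m => by
    let S := shiftFunctor (Dual.D R) (-m)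
    have h := subsingleton_cone_of_bijective hV (hv (-m))
      (bijective_post_of_iso ((shiftFunctorAdd' (Dual.D R) (-m) (-1) (-m + -1) rfl).app _).symm (hv _))
    refine ⟨fun f g => S.map_injective ?_⟩
    rw [← cancel_mono ((shiftFunctorCompIsoId (Dual.D R) m (-m) (by omega)).hom.app V)]
    exact h.elim _ _
  have key : ∀ k, k ≤ r → ∀ m : ℤ, Subsingleton (DerivedCategory.Q.obj ((sysR s).iter k).cx ⟶ V⟦m⟧) := by
    intro k hk
    induction hk using Nat.decreasingInduction with
    | self => exact hr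
    | of_succ k hk ih =>
      intro m
      let kk : Fin r := ⟨k, hk⟩
      let op := ((sysR s).iter k).op kk
      have e : DerivedCategory.Q.map op = s kk • 𝟙 _ := by
        rw [show op = s kk • 𝟙 ((sysR s).iter k).cx from Koszul.op_iter_smul (ModuleCat.of R R) s (fun i j => by rw [Linear.smul_comp, Linear.smul_comp, id_comp, id_comp, smul_comm]) k kk, Functor.map_smul,
          CategoryTheory.Functor.map_id]
      have ih' : ∀ m : ℤ, Subsingleton (DerivedCategory.Q.obj (CochainComplex.mappingCone op) ⟶ V⟦m⟧) :=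
        fun m => by
          have := ih m
          rwa [show (sysR s).iter (k + 1) = _ from Koszul.iter_succ _ hk] at this
      have hb := bijective_pre_of_triangle (f := DerivedCategory.Q.map op)
        (DerivedCategory.mappingCone_triangle_distinguished op) ih' m
      refine subsingleton_of_tb (TelLocal.sc (s kk) _ _) ?_ ?_
      · exact TelLocal.tb_sc_of_separating (s kk) (V⟦m⟧) _ (DRingCompl.isSeparating_self (A := R))
          (fun P hP => by
            rw [ObjectProperty.singleton_iff] at hP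
            subst hP
            exact (DRingCompl.cg_iff_tbOn (s kk) _).1
              (DRingCompl.isDerivedComplete_shift hVc m _ (Ideal.subset_span ⟨kk, rfl⟩))) _
      · refine (congrArg Function.Bijective (funext fun g => ?_)).mp hb
        rw [e, Linear.smul_comp, id_comp]
        rfl
  have hVz : IsZero V := DRingNakayama.isZero_of_homology fun i => DRingCompl.isZ <| by
    refine (DRingCompl.subsingleton_HD_iff V i).2 ?_
    let S := shiftFunctor (Dual.D R) i
    have h : Subsingleton ((DerivedCategory.singleFunctor (ModuleCat.{u} R) 0).obj (ModuleCat.of R R) ⟶ V⟦i⟧) :=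
      @Equiv.subsingleton _ _ ((DerivedCategory.singleFunctorIsoCompQ (ModuleCat.{u} R) 0).app _).homFromEquiv
        (key 0 (Nat.zero_le _) i)
    let e : ((DerivedCategory.singleFunctor (ModuleCat.{u} R) i).obj (ModuleCat.of R R))⟦i⟧ ≅
        (DerivedCategory.singleFunctor (ModuleCat.{u} R) 0).obj (ModuleCat.of R R) :=
      ((DerivedCategory.singleFunctors (ModuleCat.{u} R)).shiftIso i 0 i (add_zero i)).app _
    refine ⟨fun f g => S.map_injective ?_⟩
    rw [← cancel_epi e.inv]
    exact h.elim _ _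
  haveI : IsIso v := (Triangle.isZero₃_iff_isIso₁ _ hV).1 hVz
  let H := DerivedCategory.homologyFunctor (ModuleCat.{u} R) n
  obtain ⟨e, he⟩ := Groth.Agent.PushAmp.ComplFinite.exists_homology_equiv I M hfin n
  refine ⟨(H.mapIso (asIso v).symm).toLinearEquiv ≪≫ₗ e, fun x => ?_⟩
  refine Eq.trans ?_ (he x)
  refine congrArg e ?_
  show (H.map (inv v)).hom ((H.map u).hom x) = _
  rw [← ModuleCat.comp_apply, ← Functor.map_comp, ← hcv, assoc, IsIso.hom_inv_id, comp_id]

variable {A : Type (u + 1)} [Category.{u} A] [Abelian A] [IsGrothendieckAbelian.{u} A] [Linear R A] (T : A)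

/-- The scalars on `T`. -/
noncomputable def sysT : Koszul.Sys A r :=
  Koszul.Sys.single T (fun i => s i • 𝟙 _) fun i j => by
    rw [Linear.smul_comp, Linear.smul_comp, id_comp, id_comp, smul_comm]

/-- The Koszul complex on `T`. -/
noncomputable def kosT : CochainComplex A ℤ := ((sysT s T).iter r).cx

instance isKProjective_kosR_shift (m : ℤ) : ((kosR s)⟦m⟧).IsKProjective := by
  haveI : Projective (ModuleCat.of R R) :=
    ModuleCat.projective_of_free (ι := PUnit.{u + 1}) (Module.Basis.singleton PUnit.{u + 1} R)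
  haveI : (sysR s).cx.IsStrictlyLE 0 := by
    rw [CochainComplex.isStrictlyLE_iff]
    exact fun i hi => HomologicalComplex.isZero_single_obj_X _ _ _ _ (by omega)
  haveI : (kosR s).IsStrictlyLE 0 := Koszul.isStrictlyLE_iter (sysR s) 0 r
  haveI : ((kosR s)⟦m⟧).IsStrictlyLE (-m) := CochainComplex.isStrictlyLE_shift _ 0 m (-m) (by omega)
  haveI : ∀ i, Projective (((kosR s)⟦m⟧).X i) := fun i =>
    Koszul.prop_iter (fun X => Projective X) (fun X Y _ _ => inferInstance) (fun X Y e h => Projective.of_iso e h)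
      (sysR s) (fun k => by
        by_cases hk : k = 0
        · subst hk
          exact Projective.of_iso (HomologicalComplex.singleObjXSelf (ComplexShape.up ℤ) 0 _).symm inferInstance
        · exact (HomologicalComplex.isZero_single_obj_X (ComplexShape.up ℤ) 0 _ k hk).projective) r (i + m)
  exact CochainComplex.isKProjective_of_projective _ (-m)

set_option maxHeartbeats 1000000 in
/-- Morphisms out of `T` into a completed object. -/
theorem exists_hom_completion_equiv {K K' : DerivedCategory A} (η : K ⟶ K')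
    (hc : ∀ (i : Fin r) (n : ℤ), TelBij.TB (TelLocal.sc (s i) ((DerivedCategory.singleFunctor A n).obj T) K'))
    (hb : ∀ m : ℤ, Function.Bijective fun x : DerivedCategory.Q.obj ((kosT s T)⟦m⟧) ⟶ K => x ≫ η)
    (hfin : ∀ n : ℤ, Module.Finite R ((DerivedCategory.singleFunctor A n).obj T ⟶ K)) (n : ℤ) :
    ∃ e : ((DerivedCategory.singleFunctor A n).obj T ⟶ K') ≃ₗ[R]
        AdicCompletion (Ideal.span (Set.range s)) ((DerivedCategory.singleFunctor A n).obj T ⟶ K),
      ∀ x, e (x ≫ η) = AdicCompletion.of (Ideal.span (Set.range s)) _ x := by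
  have hrep : ∀ Y : DerivedCategory A, ∃ (I : CochainComplex A ℤ) (_ : I.IsKInjective),
      Nonempty (DerivedCategory.Q.obj I ≅ Y) := fun Y => by
    obtain ⟨L, ⟨e⟩⟩ : ∃ L, Nonempty (DerivedCategory.Q.obj L ≅ Y) :=
      ⟨_, ⟨DerivedCategory.Q.objObjPreimageIso Y⟩⟩
    obtain ⟨I, f, hI, hf, -, -⟩ := TriCat.exists_kInjective_resolution' L
    have : IsIso (DerivedCategory.Q.map f) := (DerivedCategory.isIso_Q_map_iff_quasiIso _ _).2 hf
    exact ⟨I, hI, ⟨(asIso (DerivedCategory.Q.map f)).symm ≪≫ e⟩⟩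
  obtain ⟨I, hI, ⟨eI⟩⟩ := hrep K
  obtain ⟨I', hI', ⟨eI'⟩⟩ := hrep K'
  obtain ⟨φ, hφ⟩ := KFlatLib.exists_Q_map (eI.hom ≫ η ≫ eI'.inv)
  let Z := fun (Y : DerivedCategory A) (k : ℤ) => (DerivedCategory.singleFunctor A k).obj T ⟶ Y
  let gI : Dual.D R := DerivedCategory.Q.obj ((gCx R T).obj I)
  let gI' : Dual.D R := DerivedCategory.Q.obj ((gCx R T).obj I')
  let u : gI ⟶ gI' := DerivedCategory.Q.map ((gCx R T).map φ)
  let a : ∀ k, Z K k ≃ₗ[R] Dual.HD R gI k := fun k =>
    (Linear.homCongr R (Iso.refl _) eI.symm).trans (secEquiv R T k I)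
  let a' : ∀ k, Z K' k ≃ₗ[R] Dual.HD R gI' k := fun k =>
    (Linear.homCongr R (Iso.refl _) eI'.symm).trans (secEquiv R T k I')
  have haη : ∀ k (x : Z K k), a' k (x ≫ η) =
      ((DerivedCategory.homologyFunctor (ModuleCat.{u} R) k).map u).hom (a k x) := fun k x => by
    refine Eq.trans (congrArg (secEquiv R T k I') ?_) (secEquiv_comp R T φ _)
    erw [Linear.homCongr_apply, Linear.homCongr_apply]
    simp [hφ]
  have hN : DRing.IsDerivedComplete (Ideal.span (Set.range s)) gI' := by
    refine (DRingTel.isDerivedComplete_iff _ _).2 fun f hf k => ?_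
    refine TBMod.mem_tbIdeal.1 ((Ideal.span_le (I := TBMod.tbIdeal (Dual.HD R gI' k))).2 ?_ hf)
    rintro _ ⟨i, rfl⟩
    exact tbm_of_linearEquiv (a' k) (s i) (hc i k)
  have hfin' : ∀ k, Module.Finite R (Dual.HD R gI k) := fun k => haveI := hfin k; Module.Finite.equiv (a k)
  have hb' : ∀ m : ℤ, Function.Bijective fun x : (DerivedCategory.Q.obj (kosR s))⟦m⟧ ⟶ gI => x ≫ u := fun m => by
    refine bijective_post_of_iso ((DerivedCategory.Q.commShiftIso m).app (kosR s)).symm ?_
    refine (bijective_comp_iff R T ((kosR s)⟦m⟧) φ).2 ?_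
    obtain ⟨eK⟩ := Koszul.nonempty_cmp_iter (Koszul.cmpSingle (L R T)
      (X := ModuleCat.of R R) (u := fun i => s i • 𝟙 _)
      (fun i j => by rw [Linear.smul_comp, Linear.smul_comp, id_comp, id_comp, smul_comm])
      (X' := T) (u' := fun i => s i • 𝟙 _)
      (fun i j => by rw [Linear.smul_comp, Linear.smul_comp, id_comp, id_comp, smul_comm])
      (unitIso R T) fun i => by
        rw [(L R T).map_smul, CategoryTheory.Functor.map_id, Linear.smul_comp, id_comp, Linear.comp_smul, comp_id]) r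
    let e : DerivedCategory.Q.obj ((lCx R T).obj ((kosR s)⟦m⟧)) ≅ DerivedCategory.Q.obj ((kosT s T)⟦m⟧) :=
      DerivedCategory.Q.mapIso (((lCx R T).commShiftIso m).app _ ≪≫
        (shiftFunctor (CochainComplex A ℤ) m).mapIso eK.iso)
    refine bijective_post_of_iso e ?_
    have h := hb m
    refine ⟨fun x y hxy => (cancel_mono eI.hom).1 (h.1 ?_), fun y => ?_⟩
    · show (x ≫ eI.hom) ≫ η = (y ≫ eI.hom) ≫ η
      rw [← cancel_mono eI'.inv, assoc, assoc, assoc, assoc, ← hφ]
      exact hxy
    · obtain ⟨x, hx⟩ := h.2 (y ≫ eI'.hom)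
      refine ⟨x ≫ eI.inv, ?_⟩
      show (x ≫ eI.inv) ≫ DerivedCategory.Q.map φ = y
      rw [hφ, assoc, Iso.inv_hom_id_assoc, ← assoc, show x ≫ η = y ≫ eI'.hom from hx, assoc, Iso.hom_inv_id, comp_id]
  obtain ⟨e, he⟩ := exists_completion_equiv s u hN hfin' hb' n
  refine ⟨(a' n).trans (e.trans ((AdicCompletion.congr _ (a n).symm).restrictScalars R)), fun x => ?_⟩
  simp only [LinearEquiv.trans_apply]
  rw [haη, he]
  refine AdicCompletion.ext fun k => ?_
  show Submodule.Quotient.mk ((a n).symm (a n x)) = _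
  rw [LinearEquiv.symm_apply_apply]
  rfl

end Groth.Agent.DerCompEquiv.Sec
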