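import Groth.Agent.DerCompEquiv.SecScheme

/-!
# Completed cohomology over affine opens
-/

set_option backward.isDefEq.respectTransparency false
set_option linter.style.haveILetI false

universe u

open CategoryTheory CategoryTheory.Category CategoryTheory.Limits CategoryTheory.Pretriangulated Opposite
open TopologicalSpace AlgebraicGeometry
open Groth.Agent.H9Misc Groth.Agent.H9Misc.DerCompTel

attribute [local instance] HasDerivedCategory.standard

namespace Groth.Agent.DerCompEquiv.Sec

section Site

variable {C : Type u} [SmallCategory C] {J : GrothendieckTopology C} {O : Sheaf J CommRingCat.{u}} (U : C)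

/-- Sections over the final object of the localised site. -/
noncomputable def gOver : DerComp.GSec (O.over U) ≃+* O.obj.obj (op U) where
  toFun s := s.1 (Over.mk (𝟙 U))
  invFun a := DerComp.GSec.ofSect O U a
  left_inv s := Subtype.ext (funext fun V => by
    have h := s.2 (Over.homMk V.hom : V ⟶ Over.mk (𝟙 U))
    exact h)
  right_inv a := by
    show (O.obj.map (𝟙 U).op).hom a = a
    rw [op_id, CategoryTheory.Functor.map_id]
    rfl
  map_mul' _ _ := rfl
  map_add' _ _ := rfl

/-- Finiteness of morphisms out of the unit on the localised site. -/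
lemma finite_hom_unit (F : ModSite.Mod O)
    [Module.Finite ((ModSite.ringSh O).obj.obj (op U)) (ModSite.sect F U)] :
    Module.Finite (DerComp.GSec (O.over U)) (ModSite.unit (O.over U) ⟶ (ModSite.restr O U).obj F) := by
  let e := (((ModSite.restr O U).obj F).unitHomEquiv).trans (ModTensor.restrSectionsEquiv O U F)
  let P : (ModSite.unit (O.over U) ⟶ (ModSite.restr O U).obj F) →+ ModSite.sect F U :=
    AddMonoidHom.mk' e fun a b => rfl
  refine finite_of_semilinear (S := (ModSite.ringSh O).obj.obj (op U)) (gOver U) P e.bijective fun c x => ?_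
  show e (c • x) = _
  rw [DerComp.smul_def, DerComp.smulEnd_comm]
  rfl

variable (I : DerComp.IdealSh O) [DerComp.HasDerCompletion O I] {r : ℕ} (b : Fin r → O.obj.obj (op U))

set_option maxHeartbeats 1000000 in
/-- Completed cohomology over `U`. -/
theorem exists_over_completion_equiv (hgen : (I.over U).IsGenBy fun i => DerComp.GSec.ofSect O U (b i))
    [PreservesFiniteLimits (ModSite.restr O U)] [PreservesFiniteColimits (ModSite.restr O U)]
    [(ModSite.restr O U).Additive] [IsNoetherianRing (DerComp.GSec (O.over U))]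
    (K : DerivedCategory (ModSite.Mod O))
    (hfin : ∀ n : ℤ, Module.Finite (DerComp.GSec (O.over U))
      ((DerivedCategory.singleFunctor _ n).obj (ModSite.unit (O.over U)) ⟶
        (ModSite.restr O U).mapDerivedCategory.obj K)) (n : ℤ) :
    Nonempty (((DerivedCategory.singleFunctor _ n).obj (ModSite.unit (O.over U)) ⟶
          (ModSite.restr O U).mapDerivedCategory.obj ((DerComp.derCompletion O I).obj K).obj) ≃
      AdicCompletion (Ideal.span (Set.range fun i => DerComp.GSec.ofSect O U (b i)))
        ((DerivedCategory.singleFunctor _ n).obj (ModSite.unit (O.over U)) ⟶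
          (ModSite.restr O U).mapDerivedCategory.obj K)) := by
  haveI := ModTensor.preservesFiniteLimits_extZero O U
  haveI := ModTensor.preservesFiniteColimits_extZero O U
  haveI : PreservesColimitsOfSize.{0, 0} (ModSite.extZero O U) :=
    (ModSite.extZeroAdj O U).leftAdjoint_preservesColimits
  let Rs := (ModSite.restr O U).mapDerivedCategory
  let K' := ((DerComp.derCompletion O I).obj K).obj
  let s := fun i => DerComp.GSec.ofSect O U (b i)
  have hbmem : ∀ i, b i ∈ I.ideal U := fun i => by
    have h := hgen.1 i (Over.mk (𝟙 U))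
    rwa [show (DerComp.GSec.ofSect O U (b i)).1 (Over.mk (𝟙 U)) = b i from (gOver U).apply_symm_apply (b i)] at h
  have hc : ∀ i k, TelBij.TB (TelLocal.sc (s i)
      ((DerivedCategory.singleFunctor _ k).obj (ModSite.unit (O.over U))) (Rs.obj K')) := fun i k => by
    have h := (isDerComp_iff I K').1 ((DerComp.derCompletion O I).obj K).property U (b i) (hbmem i)
    have h2 := (TelLocal.tbOn_map_iff (ModSite.extZeroAdj O U) _ _ K').1 h
    refine TelLocal.tb_sc_of_iso (s i)
      (((DerivedCategory.singleFunctors (ModSite.Mod (O.over U))).shiftIso (-k) k 0 (by omega)).app (ModSite.unit (O.over U)))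
      (Iso.refl (Rs.obj K')) ?_
    refine TelLocal.tb_sc_of_tbOn (A := ModSite.Mod (O.over U)) (P := ModSite.unit (O.over U)) (K := Rs.obj K') (s i) ?_ (-k)
    rwa [show s i • 𝟙 (ModSite.unit (O.over U)) = DerComp.smulEnd (s i) (ModSite.unit (O.over U)) from comp_id _]
  obtain ⟨F, p, δ, hT⟩ := distinguished_cocone_triangle (DerComp.toDerCompletion I K)
  have hT' := Rs.map_distinguished _ hT
  have hb : ∀ m : ℤ, Function.Bijective fun x : DerivedCategory.Q.obj ((kosT s (ModSite.unit (O.over U)))⟦m⟧) ⟶
      Rs.obj K => x ≫ Rs.map (DerComp.toDerCompletion I K) := fun m => by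
    have hk : KilledPow s (DerivedCategory.Q.obj ((koszulCx U b)⟦m⟧)) :=
      ((killedPow_koszul U b).map (shiftFunctor (DerivedCategory (ModSite.Mod (O.over U))) m)).of_iso
        ((DerivedCategory.Q.commShiftIso m).app _).symm
    refine bijective_post_of_triangle hT' (subsingleton_killed_to_orth I b hgen F (subsingleton_cone I hT) _ hk) ?_
    have h1 : ∀ E, DerComp.IsDerComp O I E → Subsingleton (F⟦(-1 : ℤ)⟧ ⟶ E) := fun E hE => by
      have := subsingleton_cone I hT _ (isDerComp_shift I hE 1)
      refine ⟨fun f g => (shiftFunctor (DerivedCategory (ModSite.Mod O)) (1 : ℤ)).map_injective ?_⟩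
      rw [← cancel_epi ((shiftFunctorCompIsoId (DerivedCategory (ModSite.Mod O)) (-1 : ℤ) 1 (by omega)).inv.app F)]
      exact this.elim _ _
    exact @Equiv.subsingleton _ _ ((Rs.commShiftIso (-1 : ℤ)).app F).homToEquiv.symm
      (subsingleton_killed_to_orth I b hgen _ h1 _ hk)
  obtain ⟨e, -⟩ := exists_hom_completion_equiv (A := ModSite.Mod (O.over U)) s (ModSite.unit (O.over U)) (Rs.map (DerComp.toDerCompletion I K))
    hc hb hfin n
  exact ⟨e.toEquiv⟩

end Site

end Groth.Agent.DerCompEquiv.Sec

namespace Groth.Agent.DerCompEquiv.Sec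

variable {X : Scheme.{u}}

lemma nonempty_secObj_iso' (V : X.Opens) : Nonempty (KFlatLib.secObj V ≅ ModSite.freeOn X.sheaf V) :=
  ⟨DerCompPush.freeIso (O := X.sheaf) (W := V.ι ''ᵁ ⊤) (E := KFlatLib.secObj V)
    (fun F => KFlatLib.secEquiv V F) (fun φ g => KFlatLib.secEquiv_naturality V φ g) ≪≫
      eqToIso (by rw [Scheme.Opens.ι_image_top])⟩

/-- Ideal sheaves quasi-coherent on affine opens are generated by their sections there. -/
lemma isGenBy_over_affine (𝓘 : DerComp.IdealSh X.sheaf) (hqc : ∀ (U : X.affineOpens) (g : Γ(X, ↑U)),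
      𝓘.ideal (X.basicOpen g) = Ideal.map (X.presheaf.map (homOfLE (X.basicOpen_le g)).op).hom (𝓘.ideal ↑U))
    {U : X.Opens} (hU : IsAffineOpen U) {r : ℕ} (b : Fin r → Γ(X, U))
    (hb : Ideal.span (Set.range b) = 𝓘.ideal U) :
    (𝓘.over U).IsGenBy fun i => DerComp.GSec.ofSect X.sheaf U (b i) := by
  constructor
  · intro i V
    exact 𝓘.map_mem V.hom (hb ▸ Ideal.subset_span ⟨i, rfl⟩ : b i ∈ 𝓘.ideal U)
  · intro I' hI' V f hf
    obtain ⟨W, ⟨⟨⟩⟩, hW⟩ := V
    have hle : W ≤ U := leOfHom hW
    let S : Sieve W :=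
      { arrows := fun W' _ => ∃ g : Γ(X, U), W' ≤ X.basicOpen g ∧ X.basicOpen g ≤ W
        downward_closed := fun {Y Z} _ hg j => hg.imp fun g hg => ⟨(leOfHom j).trans hg.1, hg.2⟩ }
    have hS : S ∈ Opens.grothendieckTopology X W := fun x hx => by
      obtain ⟨g, hg, hxg⟩ := hU.exists_basicOpen_le (⟨x, hx⟩ : W) (hle hx)
      exact ⟨X.basicOpen g, homOfLE hg, ⟨g, le_rfl, hg⟩, hxg⟩
    refine I'.glue ((Sieve.overEquiv (Over.mk hW)).symm S)
      ((GrothendieckTopology.mem_over_iff _ _).2
        ((congrArg (fun T => T ∈ (Opens.grothendieckTopology X) W)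
          ((Sieve.overEquiv (Over.mk hW)).apply_symm_apply S)).mpr hS)) fun V' g' hg' => ?_
    obtain ⟨g, hg₁, hg₂⟩ := (Sieve.overEquiv_symm_iff S g').1 hg'
    obtain ⟨W', ⟨⟨⟩⟩, hW'⟩ := V'
    let oD : Over U := Over.mk (homOfLE (X.basicOpen_le g))
    have hfD : (X.sheaf.obj.map (homOfLE hg₂).op).hom f ∈ 𝓘.ideal (X.basicOpen g) := 𝓘.map_mem _ hf
    rw [hqc ⟨U, hU⟩ g, ← hb, Ideal.map_span] at hfD
    have hD : (X.sheaf.obj.map (homOfLE hg₂).op).hom f ∈ I'.ideal oD := by
      refine (Ideal.span_le (I := I'.ideal oD)).2 ?_ hfD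
      rintro _ ⟨_, ⟨i, rfl⟩, rfl⟩
      exact hI' i oD
    have h3 := I'.map_mem (Over.homMk (homOfLE hg₁) : Over.mk hW' ⟶ oD) hD
    revert h3
    show (X.sheaf.obj.map (homOfLE hg₁).op).hom ((X.sheaf.obj.map (homOfLE hg₂).op).hom f) ∈ _ → _
    rw [← CommRingCat.comp_apply, ← Functor.map_comp]
    exact id

lemma isNoetherianRing_gsec_over [IsLocallyNoetherian X] {U : X.Opens} (hU : IsAffineOpen U) :
    IsNoetherianRing (DerComp.GSec (Sheaf.over X.sheaf U)) :=
  haveI : IsNoetherianRing (X.sheaf.obj.obj (op U)) := QCoh.noetherian_sections ⟨U, hU⟩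
  isNoetherianRing_of_ringEquiv _ (gOver (O := X.sheaf) U).symm

/-- Vanishing of higher cohomology of quasi-coherent modules on affine opens. -/
lemma subsingleton_freeOn_inD {F : X.Modules} (hF : Coh.IsQCoh F) {U : X.Opens} (hU : IsAffineOpen U) (k : ℤ)
    (hk : k ≠ 0) :
    Subsingleton (SiteCmp.inD X.sheaf (ModSite.freeOn X.sheaf U) ⟶ (SiteCmp.inD X.sheaf F)⟦k⟧) := by
  refine subsingleton_of_forall_eq 0 fun φ => ?_
  rcases lt_or_gt_of_ne hk with hk | hk
  · haveI : (DerivedCategory.TStructure.t).IsGE ((SiteCmp.inD X.sheaf F)⟦k⟧) (-k) :=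
      DerivedCategory.TStructure.t.isGE_shift (SiteCmp.inD X.sheaf F) 0 k (-k) (by omega)
    haveI : (DerivedCategory.TStructure.t).IsGE ((SiteCmp.inD X.sheaf F)⟦k⟧) 1 :=
      DerivedCategory.TStructure.t.isGE_of_ge _ 1 (-k) (by omega)
    exact DerivedCategory.TStructure.t.zero φ 0 1 (by omega)
  · obtain ⟨i⟩ := nonempty_secObj_iso' U
    let S0 := DerivedCategory.singleFunctor (ModSite.Mod X.sheaf) 0
    have h := KFlatLib.hom_secObj_shift_eq_zero hU (KFlatLib.sAcyclic_of_isQCoh hF) k hk (S0.map i.hom ≫ φ)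
    rw [← cancel_epi (S0.map i.hom)]
    exact h.trans comp_zero.symm

end Groth.Agent.DerCompEquiv.Sec

namespace Groth.Agent.DerCompEquiv.Sec

section Single

lemma finite_single_zero {B : Type*} [Category* B] [Abelian B] [HasDerivedCategory B] {R : Type*} [CommRing R]
    [Linear R B] (M N : B) [Module.Finite R (M ⟶ N)] :
    Module.Finite R ((DerivedCategory.singleFunctor B 0).obj M ⟶ (DerivedCategory.singleFunctor B 0).obj N) :=
  Module.Finite.of_surjective
    ({ toFun := fun x => (DerivedCategory.singleFunctor B 0).map x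
       map_add' := fun x y => Functor.map_add _
       map_smul' := fun c x => Functor.map_smul _ _ _ } :
      (M ⟶ N) →ₗ[R] ((DerivedCategory.singleFunctor B 0).obj M ⟶ (DerivedCategory.singleFunctor B 0).obj N))
    (fun y => (DerivedCategory.singleFunctor B 0).map_surjective y)

end Single

section Transport

variable {C : Type u} [SmallCategory C] {J : GrothendieckTopology C} {O : Sheaf J CommRingCat.{u}} (U : C)

/-- Morphisms out of shifted units on the localised site. -/
lemma nonempty_hom_equiv [(ModSite.restr O U).Additive]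
    [PreservesFiniteLimits (ModSite.restr O U)] [PreservesFiniteColimits (ModSite.restr O U)]
    (Y : DerivedCategory (ModSite.Mod O)) (n : ℤ) :
    Nonempty ((SiteCmp.inD O (ModSite.freeOn O U) ⟶ Y⟦n⟧) ≃
      ((DerivedCategory.singleFunctor _ n).obj (ModSite.unit (O.over U)) ⟶
        (ModSite.restr O U).mapDerivedCategory.obj Y)) := by
  haveI := ModTensor.preservesFiniteLimits_extZero O U
  haveI := ModTensor.preservesFiniteColimits_extZero O U
  exact ⟨(shiftHom (DerComp.GSec O) (ModSite.freeOn O U) Y n).toEquiv.symm.trans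
    ((((ModSite.extZero O U).mapDerivedCategorySingleFunctor n).app (ModSite.unit (O.over U))).homFromEquiv.symm.trans
      ((TelLocal.derivedAdjunction (ModSite.extZeroAdj O U)).homEquiv _ _))⟩

set_option maxHeartbeats 1000000 in
/-- Morphisms between units in degree zero. -/
lemma finite_hom_single_zero [(ModSite.restr O U).Additive]
    [PreservesFiniteLimits (ModSite.restr O U)] [PreservesFiniteColimits (ModSite.restr O U)]
    (F : ModSite.Mod O) [Module.Finite ((ModSite.ringSh O).obj.obj (op U)) (ModSite.sect F U)] :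
    Module.Finite (DerComp.GSec (O.over U))
      ((DerivedCategory.singleFunctor _ 0).obj (ModSite.unit (O.over U)) ⟶
        (ModSite.restr O U).mapDerivedCategory.obj (SiteCmp.inD O F)) := by
  haveI := finite_hom_unit U F
  let S0 := DerivedCategory.singleFunctor (ModSite.Mod (O.over U)) 0
  haveI : Module.Finite (DerComp.GSec (O.over U)) (S0.obj (ModSite.unit (O.over U)) ⟶
      (ModSite.restr O U ⋙ DerivedCategory.singleFunctor (ModSite.Mod (O.over U)) 0).obj F) :=
    finite_single_zero (R := DerComp.GSec (O.over U)) (ModSite.unit (O.over U)) ((ModSite.restr O U).obj F)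
  exact Module.Finite.equiv (Linear.homCongr (DerComp.GSec (O.over U)) (Iso.refl (S0.obj (ModSite.unit (O.over U))))
    (((ModSite.restr O U).mapDerivedCategorySingleFunctor 0).app F).symm)

end Transport

variable (X : Scheme.{u})

set_option maxHeartbeats 1000000 in
/-- Higher completed cohomology of coherent modules vanishes on affine opens. -/
theorem subsingleton_completed [IsLocallyNoetherian X] (𝓘 : DerComp.IdealSh X.sheaf)
    (hqc : ∀ (U : X.affineOpens) (g : Γ(X, ↑U)),
      𝓘.ideal (X.basicOpen g) = Ideal.map (X.presheaf.map (homOfLE (X.basicOpen_le g)).op).hom (𝓘.ideal ↑U))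
    [DerComp.HasDerCompletion X.sheaf 𝓘] (F : X.Modules) (hF : Coh.IsCoh F) (U : X.Opens) (hU : IsAffineOpen U)
    (p : ℤ) (hp : p ≠ 0) :
    Subsingleton (SiteCmp.inD X.sheaf (ModSite.freeOn X.sheaf U) ⟶
      ((DerComp.derCompletion X.sheaf 𝓘).obj (SiteCmp.inD X.sheaf F)).obj⟦p⟧) := by
  haveI : PreservesFiniteColimits (ModSite.restr X.sheaf U) := SuppCore.preservesFiniteColimits_restr U
  haveI : PreservesLimitsOfSize.{0, 0} (ModSite.restr X.sheaf U) :=
    (ModSite.extZeroAdj X.sheaf U).rightAdjoint_preservesLimits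
  haveI : PreservesFiniteLimits (ModSite.restr X.sheaf U) := ⟨fun _ => inferInstance⟩
  haveI : (ModSite.restr X.sheaf U).Additive := (ModSite.extZeroAdj X.sheaf U).right_adjoint_additive
  haveI := isNoetherianRing_gsec_over (X := X) hU
  haveI : IsNoetherianRing Γ(X, U) := QCoh.noetherian_sections ⟨U, hU⟩
  obtain ⟨r, b, hb⟩ : ∃ (r : ℕ) (b : Fin r → Γ(X, U)), Ideal.span (Set.range b) = 𝓘.ideal U :=
    Submodule.fg_iff_exists_fin_generating_family.1 (IsNoetherian.noetherian _)
  have hsub : ∀ n : ℤ, n ≠ 0 → Subsingleton ((DerivedCategory.singleFunctor _ n).obj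
      (ModSite.unit (Sheaf.over X.sheaf U)) ⟶
        (ModSite.restr X.sheaf U).mapDerivedCategory.obj (SiteCmp.inD X.sheaf F)) := fun n hn =>
    have := subsingleton_freeOn_inD hF.1 hU n hn
    (nonempty_hom_equiv (O := X.sheaf) U (SiteCmp.inD X.sheaf F) n).some.symm.subsingleton
  haveI : Module.Finite ((ModSite.ringSh X.sheaf).obj.obj (op U)) (ModSite.sect (show ModSite.Mod X.sheaf from F) U) :=
    QCoh.finite_sections hF hU
  obtain ⟨e⟩ := exists_over_completion_equiv (O := X.sheaf) U 𝓘 b (isGenBy_over_affine 𝓘 hqc hU b hb)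
    (SiteCmp.inD X.sheaf F) (fun n => by
      rcases eq_or_ne n 0 with rfl | hn
      · exact finite_hom_single_zero (O := X.sheaf) U F
      · have := hsub n hn
        exact inferInstance) p
  have := hsub p hp
  obtain ⟨e'⟩ := nonempty_hom_equiv (O := X.sheaf) U ((DerComp.derCompletion X.sheaf 𝓘).obj (SiteCmp.inD X.sheaf F)).obj p
  refine @Equiv.subsingleton _ _ (e'.trans e) ⟨fun x y => AdicCompletion.ext fun k => ?_⟩
  exact Subsingleton.elim _ _

end Groth.Agent.DerCompEquiv.Sec
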