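import Groth.Agent.DerCompEquiv.SecScheme
import Groth.Agent.DerCompEquiv.RHom
import Groth.Agent.ExtFin.Derived
import Groth.Agent.AdicLib.Basic
import Groth.Agent.H9Misc.DerCompRestrict

/-!
# Derived completion on schemes proper over a complete ring
-/

set_option backward.isDefEq.respectTransparency false
set_option linter.style.haveILetI false

universe u v

open CategoryTheory CategoryTheory.Category CategoryTheory.Limits CategoryTheory.Pretriangulated Opposite
open TopologicalSpace AlgebraicGeometry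
open Groth.Agent.H9Misc Groth.Agent.H9Misc.DerCompTel

attribute [local instance] HasDerivedCategory.standard

namespace Groth.Agent.DerCompEquiv.Sec

section Modules

variable {A : Type u} [CommRing A] {M₁ M₂ M₃ M₄ M₅ : Type v} [AddCommGroup M₁] [AddCommGroup M₂] [AddCommGroup M₃]
  [AddCommGroup M₄] [AddCommGroup M₅] [Module A M₁] [Module A M₂] [Module A M₃] [Module A M₄] [Module A M₅]

/-- Bijective telescopes in the middle of an exact sequence. -/
lemma tbm_of_exact {c : A} (u : M₁ →ₗ[A] M₂) (v : M₂ →ₗ[A] M₃) (w : M₃ →ₗ[A] M₄) (u' : M₄ →ₗ[A] M₅)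
    (e₂ : ∀ z, v z = 0 ↔ ∃ y, u y = z) (e₃ : ∀ z, w z = 0 ↔ ∃ y, v y = z) (e₄ : ∀ z, u' z = 0 ↔ ∃ y, w y = z)
    (h₁ : TBMod.TBm M₁ c) (h₂ : TBMod.TBm M₂ c) (h₄ : TBMod.TBm M₄ c) (h₅ : TBMod.TBm M₅ c) :
    TBMod.TBm M₃ c := by
  have hQ := (TBMod.TBm.ker_coker u h₁ h₂).2
  constructor
  · refine (injective_iff_map_eq_zero _).2 fun x hx => funext fun k => ?_
    have hx' : ∀ j, x j = c • x (j + 1) := fun j => sub_eq_zero.1 (congrFun hx j)
    have hw : ∀ j, w (x j) = 0 := h₄.eq_zero (fun j => w (x j)) fun j => by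
      rw [← map_smul, ← hx']
    choose z hz using fun j => (e₃ _).1 (hw j)
    have h0 := hQ.eq_zero (fun j => Submodule.Quotient.mk (z j)) (fun j => by
      rw [← Submodule.Quotient.mk_smul, Submodule.Quotient.eq]
      exact LinearMap.mem_range.2 ((e₂ _).1 (by rw [map_sub, map_smul, hz, hz, ← hx', sub_self]))) k
    rw [Submodule.Quotient.mk_eq_zero] at h0
    rw [← hz k]
    exact (e₂ _).2 (LinearMap.mem_range.1 h0)
  · intro y
    obtain ⟨t, ht⟩ := h₄.exists_seq fun j => w (y j)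
    have ht0 : ∀ j, u' (t j) = 0 := h₅.eq_zero (fun j => u' (t j)) fun j => by
      rw [ht j, map_add, map_smul, (e₄ _).2 ⟨y j, rfl⟩, zero_add]
    choose a ha using fun j => (e₄ _).1 (ht0 j)
    choose z hz using fun j => (e₃ (y j - a j + c • a (j + 1))).1 (by
      rw [map_add, map_sub, map_smul, ha, ha, ht j]
      abel)
    obtain ⟨b, hb⟩ := h₂.exists_seq z
    refine ⟨fun j => a j + v (b j), funext fun j => ?_⟩
    show a j + v (b j) - c • (a (j + 1) + v (b (j + 1))) = y j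
    rw [hb j, map_add, map_smul, hz j, smul_add]
    abel

/-- Finite modules over complete rings. -/
lemma tbm_of_finite [IsNoetherianRing A] (I : Ideal A) [IsAdicComplete I A] (M : Type v) [AddCommGroup M]
    [Module A M] [Module.Finite A M] {c : A} (hc : c ∈ I) : TBMod.TBm M c :=
  haveI := AdicLib.isAdicComplete_of_finite I M
  TBMod.tbm_of_isAdicComplete I hc

end Modules

variable {A : Type u} [CommRing A] {X : Scheme.{u}} [X.Over (Spec (CommRingCat.of A))]

/-- The global section of a scalar. -/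
noncomputable abbrev gImg (a : A) : Γ(X, ⊤) := Coh.toGlobal (X ↘ Spec (CommRingCat.of A)) a

lemma smul_id_freeOn_over (a : A) (V : X.Opens) :
    a • 𝟙 (show X.Modules from ModSite.freeOn X.sheaf V) =
      mulOn (O := X.sheaf) V ((X.presheaf.map (homOfLE (le_top : V ≤ ⊤)).op).hom (gImg a)) := by
  have h : Formal.smulMod A (show X.Modules from ModSite.freeOn X.sheaf V) a =
      DerComp.smulEnd ((gTop X).symm (gImg a)) (ModSite.freeOn X.sheaf V) := by
    refine Scheme.Modules.hom_ext _ _ fun U => ?_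
    ext m
    exact KLin.smulModΓ_app_apply _ _ U m
  rw [KLin.smul_id, h, DerCompIdeal.smulEnd_freeOn]
  rfl

variable (I : Ideal A) (𝓙 : DerComp.IdealSh X.sheaf)

/-- `𝓙` contains the image of `I`. -/
def ImgLE (𝓙' : DerComp.IdealSh X.sheaf) : Prop :=
  ∀ a : A, a ∈ I → ∀ U : X.Opens, (X.presheaf.map (homOfLE (le_top : U ≤ ⊤)).op).hom (gImg a) ∈ 𝓙'.ideal U

variable {I 𝓙}

/-- Scalars in the ideal have bijective telescopes on morphisms into complete objects. -/
lemma tbm_hom_complete (h1 : ImgLE I 𝓙) {E : DCoh.D X} (hE : DerComp.IsDerComp X.sheaf 𝓙 E) {a : A} (ha : a ∈ I)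
    (Y : DCoh.D X) : TBMod.TBm (Y ⟶ E) a := by
  haveI : HasLimitsOfShape (Discrete ℕ) (DerivedCategory X.Modules) :=
    TriCat.hasProductsOfShape_derivedCategory fun L => by
      obtain ⟨I, i, hI, hi, -, -⟩ := TriCat.exists_kInjective_resolution'.{u} L
      exact ⟨I, i, hI, hi⟩
  let G : Set X.Opens := Set.univ
  refine TelLocal.tb_sc_of_separating (A := X.Modules) a E
    (ObjectProperty.ofObj fun V : G => (show X.Modules from ModSite.freeOn X.sheaf (V : X.Opens)))
    (ModTensor.isSeparating_freeOn G fun V => ?_) (fun P hP => ?_) Y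
  · refine ⟨PUnit.{u + 1}, fun _ => V, fun _ => 𝟙 V, ?_, fun _ => Set.mem_univ _⟩
    refine (Opens.grothendieckTopology X).superset_covering (fun W g _ => ?_) ((Opens.grothendieckTopology X).top_mem V)
    exact ⟨V, g, 𝟙 V, ⟨PUnit.unit⟩, comp_id g⟩
  · obtain ⟨⟨V, hV⟩⟩ := hP
    have h := (isDerComp_iff 𝓙 E).1 hE V _ (h1 a ha V)
    rw [← smul_id_freeOn_over] at h
    exact h

/-- Objects killed by powers of generators are complete. -/
lemma isDerComp_of_killed (h2 : ∀ 𝓙', ImgLE I 𝓙' → 𝓙 ≤ 𝓙') {r : ℕ} (s : Fin r → A)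
    (hs : Ideal.span (Set.range s) = I) {N : DCoh.D X} (hN : KilledPow s N) :
    DerComp.IsDerComp X.sheaf 𝓙 N := by
  refine (DerCompIdeal.isDerComp_iff_le 𝓙 N).2 (h2 _ fun a ha U V g => ?_)
  have e : (X.sheaf.obj.map g.op).hom ((X.presheaf.map (homOfLE (le_top : U ≤ ⊤)).op).hom (gImg a)) =
      (X.presheaf.map (homOfLE (le_top : V ≤ ⊤)).op).hom (gImg a) := by
    show ((X.presheaf.map _) ≫ (X.presheaf.map g.op)).hom _ = _
    rw [← Functor.map_comp]
    rfl
  rw [e, ← smul_id_freeOn_over]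
  intro n
  refine (congrArg TelBij.TB (TelLocal.mu_smul_id (A := X.Modules) a _ _)).mpr ?_
  let S := (DerivedCategory.singleFunctor X.Modules 0).obj (show X.Modules from ModSite.freeOn X.sheaf V)
  suffices key : I ≤ TBMod.tbIdeal (S ⟶ N⟦n⟧) (A := A) from TBMod.mem_tbIdeal.1 (key ha)
  refine hs ▸ Ideal.span_le.2 ?_
  rintro _ ⟨i, rfl⟩
  obtain ⟨m, hm⟩ := (hN.map (shiftFunctor (DerivedCategory X.Modules) n)) i
  refine tb_sc_of_nilpotent _ m fun x => ?_
  have e' : ∀ k, (TBMod.mulBy (S ⟶ N⟦n⟧) (s i))^[k] x = s i ^ k • x := fun k => by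
    induction k with
    | zero => simp
    | succ k ih => rw [Function.iterate_succ_apply', ih, TBMod.mulBy_apply, smul_smul, pow_succ']
  rw [e', ← comp_id x, ← Linear.comp_smul, hm, comp_zero]

set_option maxHeartbeats 800000 in
/-- Completion does not change morphisms from objects with finite morphism groups. -/
theorem bijective_comp_toDerCompletion [IsNoetherianRing A] [IsAdicComplete I A] (h1 : ImgLE I 𝓙)
    (h2 : ∀ 𝓙', ImgLE I 𝓙' → 𝓙 ≤ 𝓙') [DerComp.HasDerCompletion X.sheaf 𝓙] (F G : DCoh.D X)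
    (hfin : ∀ n : ℤ, Module.Finite A (F ⟶ G⟦n⟧)) :
    Function.Bijective fun x : F ⟶ G => x ≫ DerComp.toDerCompletion 𝓙 G := by
  obtain ⟨r, s, hs⟩ : ∃ (r : ℕ) (s : Fin r → A), Ideal.span (Set.range s) = I :=
    Submodule.fg_iff_exists_fin_generating_family.1 (IsNoetherian.noetherian I)
  let η : G ⟶ (show DCoh.D X from ((DerComp.derCompletion X.sheaf 𝓙).obj G).obj) := DerComp.toDerCompletion 𝓙 G
  obtain ⟨C, p, δ, hT⟩ := distinguished_cocone_triangle η
  have hcone := subsingleton_cone 𝓙 hT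
  -- no maps from killed objects
  have hK : ∀ K : DCoh.D X, KilledPow s K → ∀ m : ℤ, Subsingleton (K ⟶ C⟦m⟧) := fun K hKk m => by
    refine subsingleton_killed_to (B := X.Modules) s (C⟦m⟧) (fun N hN => ?_) K hKk
    have := hcone _ (isDerComp_shift 𝓙 (isDerComp_of_killed h2 s hs hN) (-m))
    refine ⟨fun f g => (shiftFunctor (DCoh.D X) (-m)).map_injective ?_⟩
    rw [← cancel_epi ((shiftFunctorCompIsoId (DCoh.D X) m (-m) (by omega)).inv.app C)]
    exact this.elim _ _
  -- telescopes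
  have hC : ∀ Y : DCoh.D X, (∀ n : ℤ, Module.Finite A (Y ⟶ G⟦n⟧)) → ∀ (i : Fin r) (m : ℤ),
      TBMod.TBm (Y ⟶ C⟦m⟧) (s i) := fun Y hY i m => by
    have hmem : s i ∈ I := hs ▸ Ideal.subset_span ⟨i, rfl⟩
    let T' := (Triangle.shiftFunctor (DCoh.D X) m).obj (Triangle.mk η p δ)
    have hT' := Triangle.shift_distinguished _ hT m
    let T'' := T'.rotate
    have hT'' := rot_of_distTriang _ hT'
    let T''' := T''.rotate
    have hT''' := rot_of_distTriang _ hT''
    haveI := hY m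
    haveI := hY (m + 1)
    have hc := ((DerComp.derCompletion X.sheaf 𝓙).obj G).property
    refine tbm_of_exact (Linear.rightComp A Y T'.mor₁) (Linear.rightComp A Y T'.mor₂)
      (Linear.rightComp A Y T'.mor₃) (Linear.rightComp A Y T''.mor₃)
      (fun z => ⟨fun h => ?_, fun ⟨y, hy⟩ => ?_⟩) (fun z => ⟨fun h => ?_, fun ⟨y, hy⟩ => ?_⟩)
      (fun z => ⟨fun h => ?_, fun ⟨y, hy⟩ => ?_⟩) (tbm_of_finite I (Y ⟶ G⟦m⟧) hmem)
      (tbm_hom_complete h1 (isDerComp_shift 𝓙 hc m) hmem Y) ?_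
      (tbm_hom_complete h1 (isDerComp_shift 𝓙 (isDerComp_shift 𝓙 hc m) 1) hmem Y)
    · obtain ⟨y, hy⟩ := Triangle.coyoneda_exact₂ _ hT' z h
      exact ⟨y, hy.symm⟩
    · rw [← hy]; exact ((assoc _ _ _).trans (congrArg (y ≫ ·) (comp_distTriang_mor_zero₁₂ _ hT'))).trans comp_zero
    · obtain ⟨y, hy⟩ := Triangle.coyoneda_exact₃ _ hT' z h
      exact ⟨y, hy.symm⟩
    · rw [← hy]; exact ((assoc _ _ _).trans (congrArg (y ≫ ·) (comp_distTriang_mor_zero₂₃ _ hT'))).trans comp_zero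
    · obtain ⟨y, hy⟩ := Triangle.coyoneda_exact₃ _ hT'' z h
      exact ⟨y, hy.symm⟩
    · rw [← hy]; exact ((assoc _ _ _).trans (congrArg (y ≫ ·) (comp_distTriang_mor_zero₂₃ _ hT''))).trans comp_zero
    · exact TBMod.TBm.of_equiv (Linear.homCongr A (Iso.refl Y)
        ((shiftFunctorAdd' (DCoh.D X) m 1 (m + 1) rfl).app G)) (tbm_of_finite I (Y ⟶ G⟦m + 1⟧) hmem)
  -- descent along generators
  have key : ∀ k, k ≤ r → ∀ Y : DCoh.D X, (∀ n : ℤ, Module.Finite A (Y ⟶ G⟦n⟧)) →
      (∀ j : Fin r, (j : ℕ) < k → ∃ N : ℕ, s j ^ N • 𝟙 Y = 0) → ∀ m : ℤ, Subsingleton (Y ⟶ C⟦m⟧) := by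
    intro k hk
    induction hk using Nat.decreasingInduction with
    | self => exact fun Y _ hYk m => hK Y (fun j => hYk j j.2) m
    | of_succ k hk ih =>
      intro Y hY hYk m
      obtain ⟨Z, q, ε, hZ⟩ := distinguished_cocone_triangle (s ⟨k, hk⟩ • 𝟙 Y)
      obtain ⟨h2', h3'⟩ := smul_cone' hZ
      have hZfin : ∀ n : ℤ, Module.Finite A (Z ⟶ G⟦n⟧) := fun n =>
        ExtFin.finite_of_left (rot_of_distTriang _ hZ) (hY n) ((ExtFin.Fin'.shift_left (K := Y) (L := G) hY 1) n)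
      have hZk : ∀ j : Fin r, (j : ℕ) < k + 1 → ∃ N : ℕ, s j ^ N • 𝟙 Z = 0 := fun j hj => by
        rcases Nat.eq_or_lt_of_le (Nat.le_of_lt_succ hj) with e' | e'
        · rw [show j = ⟨k, hk⟩ from Fin.ext e']
          exact ⟨2, by rw [pow_two]; exact h2'⟩
        · obtain ⟨N, hN⟩ := hYk j e'
          exact ⟨N + N, by rw [pow_add]; exact h3' _ hN⟩
      have hb := bijective_pre_of_triangle hZ (ih Z hZfin hZk) m
      refine subsingleton_of_tb (TelLocal.sc (s ⟨k, hk⟩) _ _) (hC Y hY ⟨k, hk⟩ m) ?_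
      refine (congrArg Function.Bijective (funext fun g => ?_)).mp hb
      rw [Linear.smul_comp, id_comp]
      rfl
  have h0 := key 0 (Nat.zero_le _) F hfin (fun j hj => absurd hj (Nat.not_lt_zero _))
  exact bijective_post_of_triangle hT
    (@Equiv.subsingleton _ _ ((shiftFunctorZero (DCoh.D X) ℤ).app C).symm.homToEquiv (h0 0)) (h0 (-1))

end Groth.Agent.DerCompEquiv.Sec
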