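import Groth.Agent.DerCompEquiv.SecSite
import Groth.Agent.KFlatLib.Scheme.CohD
import Groth.Agent.KFlatLib.Scheme.DQCohLimit

/-!
# Completed cohomology on affine schemes
-/

set_option backward.isDefEq.respectTransparency false
set_option linter.style.haveILetI false

universe u

open CategoryTheory CategoryTheory.Category CategoryTheory.Limits Opposite TopologicalSpace AlgebraicGeometry
open Groth.Agent.H9Misc Groth.Agent.H9Misc.DerCompTel

attribute [local instance] HasDerivedCategory.standard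

namespace Groth.Agent.DerCompEquiv.Sec

/-- Cohomology functors are linear. -/
lemma homologyFunctor_map_smul_id' {B : Type*} [Category* B] [Abelian B] [HasDerivedCategory B] {R : Type*} [CommRing R] [Linear R B] (c : R) (Y : DerivedCategory B) (n : ℤ) :
    (DerivedCategory.homologyFunctor B n).map (c • 𝟙 Y) = c • 𝟙 _ := by
  obtain ⟨K, ⟨e⟩⟩ : ∃ K, Nonempty (DerivedCategory.Q.obj K ≅ Y) :=
    ⟨_, ⟨(Localization.essSurj DerivedCategory.Q
      (HomologicalComplex.quasiIso B (ComplexShape.up ℤ))).mem_essImage Y |>.getIso⟩⟩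
  let H := DerivedCategory.homologyFunctor B n
  have h2 := (DerivedCategory.homologyFunctorFactors B n).hom.naturality (c • 𝟙 K)
  have h3 : HomologicalComplex.homologyMap (c • 𝟙 K) n = c • 𝟙 (K.homology n) := by
    show ShortComplex.homologyMap (c • 𝟙 (K.sc n)) = _
    rw [ShortComplex.homologyMap_smul, ShortComplex.homologyMap_id]
    rfl
  have h4 : H.map (c • 𝟙 (DerivedCategory.Q.obj K)) = c • 𝟙 _ := by
    rw [← cancel_mono ((DerivedCategory.homologyFunctorFactors B n).hom.app K),
      show c • 𝟙 (DerivedCategory.Q.obj K) = DerivedCategory.Q.map (c • 𝟙 K) by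
        rw [Functor.map_smul, CategoryTheory.Functor.map_id]]
    refine h2.trans ?_
    show _ ≫ HomologicalComplex.homologyMap (c • 𝟙 K) n = _
    rw [h3, Linear.comp_smul, comp_id, Linear.smul_comp]
    exact congrArg (c • ·) (id_comp _).symm
  show H.map (c • 𝟙 Y) = c • 𝟙 _
  rw [← e.inv_hom_id, show c • (e.inv ≫ e.hom) = e.inv ≫ (c • 𝟙 _) ≫ e.hom by
      rw [Linear.smul_comp, id_comp, Linear.comp_smul],
    Functor.map_comp, Functor.map_comp, h4, Linear.smul_comp, id_comp, Linear.comp_smul, ← Functor.map_comp,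
    e.inv_hom_id, CategoryTheory.Functor.map_id]

/-- Scalars move to the source. -/
lemma comp_map_smul {B : Type*} [Category* B] [Abelian B] [HasDerivedCategory B] {R : Type*} [CommRing R]
    [Linear R B] {T : B} {S L : DerivedCategory B} {n : ℤ}
    (a : T ⟶ (DerivedCategory.homologyFunctor B n).obj S) (c : R) (x : S ⟶ L) (v : T ⟶ T) (hv : c • 𝟙 T = v) :
    a ≫ (DerivedCategory.homologyFunctor B n).map (c • x) = v ≫ a ≫ (DerivedCategory.homologyFunctor B n).map x := by
  subst hv
  rw [show c • x = x ≫ (c • 𝟙 L) by rw [Linear.comp_smul, comp_id], Functor.map_comp,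
    homologyFunctor_map_smul_id', Linear.comp_smul, comp_id, Linear.comp_smul, Linear.smul_comp, id_comp]

variable (X : Scheme.{u})

/-- Global sections as sections over the whole space. -/
noncomputable def gTop : DerComp.GSec X.sheaf ≃+* Γ(X, ⊤) where
  toFun s := s.1 ⊤
  invFun a := ⟨fun U => (X.presheaf.map (homOfLE (le_top : U ≤ ⊤)).op).hom a, fun U V g => by
    change (X.presheaf.map g.op).hom ((X.presheaf.map _).hom a) = _
    rw [← CommRingCat.comp_apply, ← Functor.map_comp]
    rfl⟩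
  left_inv s := Subtype.ext (funext fun U => s.2 (homOfLE (le_top : U ≤ ⊤)))
  right_inv a := by
    show (X.presheaf.map (homOfLE (le_top : (⊤ : X.Opens) ≤ ⊤)).op).hom a = a
    rw [show (homOfLE (le_top : (⊤ : X.Opens) ≤ ⊤)).op = 𝟙 (op ⊤) from rfl, CategoryTheory.Functor.map_id]
    rfl
  map_mul' _ _ := rfl
  map_add' _ _ := rfl

lemma isNoetherianRing_gsec [IsAffine X] [IsNoetherian X] : IsNoetherianRing (DerComp.GSec X.sheaf) :=
  haveI : IsNoetherianRing Γ(X, ⊤) := QCoh.noetherian_sections ⟨⊤, isAffineOpen_top X⟩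
  isNoetherianRing_of_ringEquiv _ (gTop X).symm

variable {X}

/-- Generators of an ideal of global sections generate over the whole space. -/
lemma isGenBy_over_top {I : Ideal (DerComp.GSec X.sheaf)} {𝓘 : DerComp.IdealSh X.sheaf}
    (h : 𝓘.IsGenBy (fun a : I => (a : DerComp.GSec X.sheaf))) {r : ℕ} (s : Fin r → DerComp.GSec X.sheaf)
    (hs : Ideal.span (Set.range s) = I) :
    (𝓘.over (⊤ : X.Opens)).IsGenBy fun i => DerComp.GSec.ofSect X.sheaf (⊤ : X.Opens) ((s i).1 ⊤) := by
  constructor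
  · intro i V
    have hi : s i ∈ I := hs ▸ Ideal.subset_span ⟨i, rfl⟩
    show (X.sheaf.obj.map V.hom.op).hom ((s i).1 ⊤) ∈ 𝓘.ideal V.left
    rw [(s i).2]
    exact h.1 ⟨s i, hi⟩ V.left
  · intro I' hI' V
    let o := fun U : X.Opens => Over.mk (homOfLE (le_top : U ≤ ⊤))
    let I'' : DerComp.IdealSh X.sheaf :=
      { ideal := fun U => I'.ideal (o U)
        map_mem := fun {U V} g {f} hf => I'.map_mem (Over.homMk g : o V ⟶ o U) hf
        glue := fun {U f} S hS hf => by
          refine I'.glue (U := o U) ((Sieve.overEquiv (o U)).symm S) ?_ fun W g hg => ?_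
          · refine (GrothendieckTopology.mem_over_iff _ _).2 ?_
            exact (congrArg (fun T => T ∈ (Opens.grothendieckTopology X) U) ((Sieve.overEquiv (o U)).apply_symm_apply S)).mpr hS
          · obtain ⟨W₀, ⟨⟨⟩⟩, hW⟩ := W
            exact hf g.left ((Sieve.overEquiv_symm_iff S g).1 hg) }
    have hc : I''.Contains (fun a : I => (a : DerComp.GSec X.sheaf)) := fun a U => by
      let ev : DerComp.GSec X.sheaf →+* X.sheaf.obj.obj (op U) :=
        (Pi.evalRingHom _ U).comp (DerComp.GSec X.sheaf).subtype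
      have hle : I ≤ (I'.ideal (o U)).comap ev := hs ▸ Ideal.span_le.2 (by
        rintro _ ⟨i, rfl⟩
        have := hI' i (o U)
        exact (congrArg (fun t => t ∈ I'.ideal (o U)) ((s i).2 (homOfLE (le_top : U ≤ ⊤)))).mp this)
      exact hle a.2
    obtain ⟨W₀, ⟨⟨⟩⟩, hW⟩ := V
    exact fun f hf => h.2 I'' hc W₀ hf

lemma secOn_add {U : X.Opens} {F : ModSite.Mod X.sheaf} (a b : ModSite.freeOn X.sheaf U ⟶ F) :
    secOn U F (a + b) = secOn U F a + secOn U F b := by
  rw [← id_comp (a + b), secOn_comp, ← id_comp a, secOn_comp, ← id_comp b, secOn_comp, id_comp, id_comp]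
  rfl

/-- The free module on the whole space. -/
noncomputable abbrev TT (X : Scheme.{u}) : ModSite.Mod X.sheaf := ModSite.freeOn X.sheaf (⊤ : X.Opens)

lemma nonempty_secObj_iso : Nonempty (KFlatLib.secObj (⊤ : X.Opens) ≅ TT X) := by
  let V : X.Opens := ⊤
  let i := DerCompPush.freeIso (O := X.sheaf) (W := V.ι ''ᵁ ⊤) (E := KFlatLib.secObj V)
    (fun F => KFlatLib.secEquiv V F) (fun φ g => KFlatLib.secEquiv_naturality V φ g)
  exact ⟨i ≪≫ eqToIso (by rw [Scheme.Opens.ι_image_top])⟩

set_option maxHeartbeats 800000 in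
/-- Sections of the zeroth cohomology. -/
lemma exists_secHom (L : DerivedCategory (ModSite.Mod X.sheaf))
    (hb : KFlatLib.BijH0 (⊤ : X.Opens) (show DCoh.D X from L)) :
    ∃ P : ((DerivedCategory.singleFunctor (ModSite.Mod X.sheaf) 0).obj (TT X) ⟶ L) →+
        ModSite.sect ((DerivedCategory.homologyFunctor (ModSite.Mod X.sheaf) 0).obj L) (⊤ : X.Opens),
      Function.Bijective P ∧ ∀ (c : DerComp.GSec X.sheaf) x, P (c • x) =
        (show (ModSite.ringSh X.sheaf).obj.obj (op (⊤ : X.Opens)) from c.1 ⊤) • P x := by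
  let A := ModSite.Mod X.sheaf
  let HF := DerivedCategory.homologyFunctor A 0
  let S0 := DerivedCategory.singleFunctor A 0
  obtain ⟨i⟩ := nonempty_secObj_iso (X := X)
  let h0 : HF.obj (S0.obj (TT X)) ≅ TT X :=
    (DerivedCategory.singleFunctorCompHomologyFunctorIso A 0).app (TT X)
  refine ⟨AddMonoidHom.mk' (fun x => secOn (⊤ : X.Opens) (HF.obj L) (h0.inv ≫ HF.map x)) fun x y => ?_, ?_, fun c x => ?_⟩
  · rw [Functor.map_add, Preadditive.comp_add]
    exact secOn_add _ _
  · have h' : Function.Bijective fun x : S0.obj (TT X) ⟶ L => i.inv ≫ KFlatLib.psi (⊤ : X.Opens) L (S0.map i.hom ≫ x) := by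
      refine ⟨fun x y hxy => (cancel_epi (S0.map i.hom)).1 (hb.1 ((cancel_epi i.inv).1 hxy)), fun y => ?_⟩
      obtain ⟨z, hz⟩ := hb.2 (i.hom ≫ y)
      refine ⟨S0.map i.inv ≫ z, ?_⟩
      show i.inv ≫ KFlatLib.psi (⊤ : X.Opens) L (S0.map i.hom ≫ S0.map i.inv ≫ z) = y
      rw [← Functor.map_comp_assoc, i.hom_inv_id, CategoryTheory.Functor.map_id, id_comp, hz, Iso.inv_hom_id_assoc]
    refine (congrArg Function.Bijective (funext fun x => congrArg (secOn (⊤ : X.Opens) (HF.obj L)) ?_)).mp
      ((secOn (⊤ : X.Opens) (HF.obj L)).bijective.comp h')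
    show i.inv ≫ (DerivedCategory.singleFunctorCompHomologyFunctorIso A 0).inv.app _ ≫ HF.map (S0.map i.hom ≫ x) = _
    rw [Functor.map_comp]
    have hn : i.hom ≫ h0.inv = (DerivedCategory.singleFunctorCompHomologyFunctorIso A 0).inv.app _ ≫ HF.map (S0.map i.hom) :=
      (DerivedCategory.singleFunctorCompHomologyFunctorIso A 0).inv.naturality i.hom
    erw [← assoc ((DerivedCategory.singleFunctorCompHomologyFunctorIso A 0).inv.app _) _ _, ← hn, assoc,
      i.inv_hom_id_assoc]
  · have e : h0.inv ≫ HF.map (c • x) = mulOn (⊤ : X.Opens) (c.1 ⊤) ≫ h0.inv ≫ HF.map x :=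
      comp_map_smul h0.inv c x _ (smul_id_freeOn c (⊤ : X.Opens))
    exact (congrArg (secOn (⊤ : X.Opens) (HF.obj L)) e).trans (secOn_mulOn _ _ _)

/-- Finiteness along semilinear bijections. -/
lemma finite_of_semilinear {R S M N : Type*} [CommRing R] [Ring S] [AddCommGroup M] [AddCommGroup N] [Module R M]
    [Module S N] [Module.Finite S N] (g : R ≃+* S) (P : M →+ N) (hP : Function.Bijective P)
    (hsm : ∀ c x, P (c • x) = g c • P x) : Module.Finite R M := by
  obtain ⟨k, v, hv⟩ := Module.Finite.exists_fin (R := S) (M := N)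
  choose w hw using fun j => hP.2 (v j)
  classical
  refine ⟨⟨(Finset.univ.image w), ?_⟩⟩
  rw [Finset.coe_image, Finset.coe_univ, Set.image_univ]
  refine Submodule.eq_top_iff'.2 fun x => ?_
  obtain ⟨a, ha⟩ := (Submodule.mem_span_range_iff_exists_fun _).1
    (show P x ∈ Submodule.span S (Set.range v) from hv ▸ trivial)
  rw [Submodule.mem_span_range_iff_exists_fun]
  refine ⟨fun j => g.symm (a j), hP.1 ((map_sum P _ _).trans (Eq.trans ?_ ha))⟩
  exact Finset.sum_congr rfl fun j _ => by rw [hsm, hw, g.apply_symm_apply]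

/-- Morphisms from a shifted single object. -/
noncomputable def shiftHom {B : Type*} [Category* B] [Abelian B] [HasDerivedCategory B] (R : Type*) [CommRing R]
    [Linear R B] (T : B) (K : DerivedCategory B) (n : ℤ) :
    ((DerivedCategory.singleFunctor B n).obj T ⟶ K) ≃ₗ[R] ((DerivedCategory.singleFunctor B 0).obj T ⟶ K⟦n⟧) :=
  let eS := (((DerivedCategory.singleFunctors B).shiftIso n 0 n (add_zero n)).app T)
  { toFun := fun x => eS.inv ≫ x⟦n⟧'
    invFun := fun y => (shiftFunctor (DerivedCategory B) n).preimage (eS.hom ≫ y)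
    left_inv := fun x => (shiftFunctor (DerivedCategory B) n).map_injective (by
      rw [Functor.map_preimage]
      exact Iso.hom_inv_id_assoc eS _)
    right_inv := fun y => by
      show eS.inv ≫ _ = y
      rw [Functor.map_preimage]
      exact Iso.inv_hom_id_assoc eS _
    map_add' := fun x y => by rw [Functor.map_add, Preadditive.comp_add]
    map_smul' := fun c x => by rw [Functor.map_smul, Linear.comp_smul]; rfl }

lemma shiftHom_comp {B : Type*} [Category* B] [Abelian B] [HasDerivedCategory B] (R : Type*) [CommRing R]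
    [Linear R B] (T : B) {K K' : DerivedCategory B} (η : K ⟶ K') (n : ℤ)
    (x : (DerivedCategory.singleFunctor B n).obj T ⟶ K) :
    shiftHom R T K' n (x ≫ η) = shiftHom R T K n x ≫ η⟦n⟧' := by
  show _ ≫ (x ≫ η)⟦n⟧' = (_ ≫ x⟦n⟧') ≫ η⟦n⟧'
  rw [Functor.map_comp, assoc]

lemma finite_sect_HD [IsAffine X] [IsNoetherian X] (L : DerivedCategory (ModSite.Mod X.sheaf))
    (hL : DCoh.IsCohD (X := X) L) :
    Module.Finite ((ModSite.ringSh X.sheaf).obj.obj (op (⊤ : X.Opens)))
      (ModSite.sect ((DerivedCategory.homologyFunctor (ModSite.Mod X.sheaf) 0).obj L) (⊤ : X.Opens)) :=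
  QCoh.finite_sections (hL 0) (isAffineOpen_top X)

/-- Cohomology of objects with coherent cohomology sheaves on affine schemes is finite. -/
theorem finite_hom_single [IsAffine X] [IsNoetherian X] (K : DerivedCategory (ModSite.Mod X.sheaf))
    (hK : DCoh.IsCohD (X := X) K) (n : ℤ) :
    Module.Finite (DerComp.GSec X.sheaf) ((DerivedCategory.singleFunctor _ n).obj (TT X) ⟶ K) := by
  have hKn : DCoh.IsCohD (X := X) (K⟦n⟧) := KFlatLib.isCohD_shift hK n
  obtain ⟨P, hP, hsm⟩ := exists_secHom (K⟦n⟧)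
    (KFlatLib.bijH0_of_isQCohD (KFlatLib.isCohD_isQCohD hKn) (isAffineOpen_top X))
  haveI := finite_sect_HD (K⟦n⟧) hKn
  haveI : Module.Finite (DerComp.GSec X.sheaf)
      ((DerivedCategory.singleFunctor (ModSite.Mod X.sheaf) 0).obj (TT X) ⟶ K⟦n⟧) :=
    finite_of_semilinear (S := (ModSite.ringSh X.sheaf).obj.obj (op (⊤ : X.Opens))) (gTop X) P hP hsm
  exact Module.Finite.equiv (shiftHom (DerComp.GSec X.sheaf) (TT X) K n).symm

end Groth.Agent.DerCompEquiv.Sec

namespace Groth.Agent.DerCompEquiv.Sec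

variable {X : Scheme.{u}}

/-- Sections of a module over the whole space. -/
noncomputable def topSections (M : X.Modules) : M.sections ≃ Γ(M, (⊤ : X.Opens)) where
  toFun s := (s.val (op (⊤ : X.Opens)) : Γ(M, (⊤ : X.Opens)))
  invFun a := PresheafOfModules.sectionsMk
    (fun W => (M.presheaf.map (homOfLE (le_top : W.unop ≤ ⊤)).op a : Γ(M, W.unop)))
    (fun W W' i => by
      refine (ConcreteCategory.congr_hom (M.presheaf.map_comp _ i) _).symm.trans ?_
      rfl)
  left_inv s := Subtype.ext (funext fun W =>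
    PresheafOfModules.sections_property s (homOfLE (le_top : W.unop ≤ ⊤)).op)
  right_inv a := ConcreteCategory.congr_hom (M.presheaf.map_id _) a

lemma nonempty_unit_iso : Nonempty (ModSite.unit X.sheaf ≅ TT X) :=
  ⟨DerCompPush.freeIso (O := X.sheaf) (W := (⊤ : X.Opens))
    (fun F => (SheafOfModules.unitHomEquiv F).trans (topSections F)) fun _ _ => rfl⟩

/-- What a comparison with the completion gives. -/
lemma completion_consequences {R : Type*} [CommRing R] {I : Ideal R} (hI : I.FG) {M M' : Type*} [AddCommGroup M]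
    [AddCommGroup M'] [Module R M] [Module R M'] (f : M →ₗ[R] M') (e : M' ≃ₗ[R] AdicCompletion I M)
    (he : ∀ x, e (f x) = AdicCompletion.of I M x) :
    IsAdicComplete I M' ∧ ∀ n : ℕ, (∀ y, ∃ x, f x - y ∈ (I ^ n • ⊤ : Submodule R M')) ∧
      ∀ x, f x ∈ (I ^ n • ⊤ : Submodule R M') → x ∈ (I ^ n • ⊤ : Submodule R M) := by
  have key : ∀ (n : ℕ) (y : M'), y ∈ (I ^ n • ⊤ : Submodule R M') ↔
      e y ∈ (I ^ n • ⊤ : Submodule R (AdicCompletion I M)) := fun n y => by
    conv_rhs => rw [show (⊤ : Submodule R (AdicCompletion I M)) = Submodule.map (e : M' →ₗ[R] _) ⊤ by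
      rw [Submodule.map_top, LinearEquiv.range], ← Submodule.map_smul'', Submodule.mem_map_equiv, e.symm_apply_apply]
  haveI := AdicCompletion.isAdicComplete (M := M) hI
  refine ⟨?_, fun n => ⟨fun y => ?_, fun x hx => ?_⟩⟩
  · refine { haus' := fun x hx => ?_, prec' := fun g hg => ?_ }
    · refine e.map_eq_zero_iff.1 (IsHausdorff.haus inferInstance (I := I) _ fun n => ?_)
      have := (key n x).1 (SModEq.sub_mem.1 (hx n) |> fun h => by simpa using h)
      rw [SModEq.sub_mem, sub_zero]
      exact this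
    · obtain ⟨L, hL⟩ := IsPrecomplete.prec inferInstance (I := I) (f := fun n => e (g n)) fun {m n} h => by
        rw [SModEq.sub_mem, ← map_sub]
        exact (key m _).1 (SModEq.sub_mem.1 (hg h))
      refine ⟨e.symm L, fun n => SModEq.sub_mem.2 ((key n _).2 ?_)⟩
      rw [map_sub, e.apply_symm_apply]
      exact SModEq.sub_mem.1 (hL n)
  · obtain ⟨x, hx⟩ := Submodule.Quotient.mk_surjective _ (AdicCompletion.eval I M n (e y))
    refine ⟨x, (key n _).2 ?_⟩
    rw [map_sub, he, AdicCompletion.pow_smul_top_eq_ker_eval hI, LinearMap.mem_ker, map_sub, AdicCompletion.eval_of,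
      ← hx]
    exact sub_self _
  · have := (key n _).1 hx
    rw [he, AdicCompletion.pow_smul_top_eq_ker_eval hI, LinearMap.mem_ker, AdicCompletion.eval_of] at this
    exact (Submodule.Quotient.mk_eq_zero _).1 this

/-- Objects pseudo-coherent in all degrees have coherent cohomology sheaves. -/
lemma isCohD_of_pseudoCoherent [IsNoetherian X] (K : DCoh.D X) (hK : ∀ m : ℤ, DCoh.IsPseudoCoherentD m K) :
    DCoh.IsCohD K := fun i =>
  KFlatLib.isCoh_of_locPC (fun j => KFlatLib.isQCoh_HD_of_pseudoCoherent (hK (j - 1)) j (by omega))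
    ((KFlatLib.isPseudoCoherentD_iff i K).1 (hK i)) i le_rfl

end Groth.Agent.DerCompEquiv.Sec

namespace Groth.Agent.DerCompEquiv.Sec

/-- Comparisons with completions in degree `p` through shifted targets. -/
lemma exists_shifted_equiv {B : Type*} [Category* B] [Abelian B] [HasDerivedCategory B] {R : Type*} [CommRing R]
    [Linear R B] {I : Ideal R} {T U : B} (i : U ≅ T) {K K' : DerivedCategory B} (η : K ⟶ K') (p : ℤ)
    (e₀ : ((DerivedCategory.singleFunctor B p).obj T ⟶ K') ≃ₗ[R]
      AdicCompletion I ((DerivedCategory.singleFunctor B p).obj T ⟶ K))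
    (he₀ : ∀ x, e₀ (x ≫ η) = AdicCompletion.of I _ x) :
    ∃ e : ((DerivedCategory.singleFunctor B 0).obj U ⟶ K'⟦p⟧) ≃ₗ[R]
        AdicCompletion I ((DerivedCategory.singleFunctor B 0).obj U ⟶ K⟦p⟧),
      ∀ x, e (x ≫ η⟦p⟧') = AdicCompletion.of I _ x := by
  let a : ∀ Y : DerivedCategory B, ((DerivedCategory.singleFunctor B 0).obj U ⟶ Y⟦p⟧) ≃ₗ[R]
      ((DerivedCategory.singleFunctor B p).obj T ⟶ Y) := fun Y =>
    (Linear.homCongr R ((DerivedCategory.singleFunctor B 0).mapIso i) (Iso.refl (Y⟦p⟧))).trans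
      (shiftHom R T Y p).symm
  have ha : ∀ x, a K' (x ≫ η⟦p⟧') = a K x ≫ η := fun x => by
    apply (shiftHom R T K' p).injective
    rw [shiftHom_comp]
    simp [a, Linear.homCongr_apply]
  refine ⟨(a K').trans (e₀.trans ((AdicCompletion.congr _ (a K).symm).restrictScalars R)), fun x => ?_⟩
  simp only [LinearEquiv.trans_apply]
  erw [ha x, he₀]
  refine AdicCompletion.ext fun k => ?_
  show Submodule.Quotient.mk ((a K).symm (a K x)) = _
  rw [LinearEquiv.symm_apply_apply]
  rfl

variable (X : Scheme.{u})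

set_option maxHeartbeats 1000000 in
/-- Completed cohomology of pseudo-coherent objects on affine Noetherian schemes. -/
theorem exists_affine_completion_equiv [IsAffine X] [IsNoetherian X] (I : Ideal (DerComp.GSec X.sheaf))
    (𝓘 : DerComp.IdealSh X.sheaf) (h𝓘 : 𝓘.IsGenBy (fun a : I => (a : DerComp.GSec X.sheaf)))
    [DerComp.HasDerCompletion X.sheaf 𝓘] (K : DerivedCategory (ModSite.Mod X.sheaf))
    (hK : ∀ m : ℤ, DCoh.IsPseudoCoherentD (X := X) m K) (p : ℤ) :
    ∃ e : ((DerivedCategory.singleFunctor (ModSite.Mod X.sheaf) p).obj (TT X) ⟶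
          ((DerComp.derCompletion X.sheaf 𝓘).obj K).obj) ≃ₗ[DerComp.GSec X.sheaf]
        AdicCompletion I ((DerivedCategory.singleFunctor (ModSite.Mod X.sheaf) p).obj (TT X) ⟶ K),
      ∀ x, e (x ≫ DerComp.toDerCompletion 𝓘 K) = AdicCompletion.of I _ x := by
  haveI := isNoetherianRing_gsec X
  obtain ⟨r, s, hs⟩ : ∃ (r : ℕ) (s : Fin r → DerComp.GSec X.sheaf), Ideal.span (Set.range s) = I :=
    Submodule.fg_iff_exists_fin_generating_family.1 (IsNoetherian.noetherian I)
  have hmem : ∀ i, (s i).1 (⊤ : X.Opens) ∈ 𝓘.ideal (⊤ : X.Opens) := fun i =>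
    h𝓘.1 ⟨s i, hs ▸ Ideal.subset_span ⟨i, rfl⟩⟩ (⊤ : X.Opens)
  haveI : PreservesFiniteColimits (ModSite.restr X.sheaf (⊤ : X.Opens)) :=
    SuppCore.preservesFiniteColimits_restr (⊤ : X.Opens)
  haveI : PreservesLimitsOfSize.{0, 0} (ModSite.restr X.sheaf (⊤ : X.Opens)) :=
    (ModSite.extZeroAdj X.sheaf (⊤ : X.Opens)).rightAdjoint_preservesLimits
  haveI : PreservesFiniteLimits (ModSite.restr X.sheaf (⊤ : X.Opens)) := ⟨fun _ => inferInstance⟩
  haveI : (ModSite.restr X.sheaf (⊤ : X.Opens)).Additive :=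
    (ModSite.extZeroAdj X.sheaf (⊤ : X.Opens)).right_adjoint_additive
  have hgen := isGenBy_over_top h𝓘 s hs
  subst hs
  exact exists_hom_completion_equiv s (TT X) (DerComp.toDerCompletion 𝓘 K)
    (fun i n => tb_sc_of_isDerComp 𝓘 ((DerComp.derCompletion X.sheaf 𝓘).obj K).property (s i) (hmem i) n)
    (bijective_koszul_toDerCompletion 𝓘 s hgen K)
    (finite_hom_single K (isCohD_of_pseudoCoherent K hK)) p

end Groth.Agent.DerCompEquiv.Sec
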