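import Groth.Agent.DerCompEquiv.SecMain

/-!
# Completed cohomology over an object of a ringed site
-/

set_option backward.isDefEq.respectTransparency false
set_option linter.style.haveILetI false

universe u

open CategoryTheory CategoryTheory.Category CategoryTheory.Limits CategoryTheory.Pretriangulated Opposite
open Groth.Agent.ModTensor Groth.Agent.H9Misc Groth.Agent.H9Misc.DerCompTel

attribute [local instance] HasDerivedCategory.standard

namespace Groth.Agent.DerCompEquiv.Sec

variable {C : Type u} [SmallCategory C] {J : GrothendieckTopology C} {O : Sheaf J CommRingCat.{u}}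

lemma smul_id_freeOn (c : DerComp.GSec O) (W : C) : c • 𝟙 (ModSite.freeOn O W) = mulOn W (c.1 W) := by
  rw [DerComp.smul_def, comp_id, DerCompIdeal.smulEnd_freeOn]

/-- Telescopes at complete objects. -/
theorem tb_sc_of_isDerComp (I : DerComp.IdealSh O) {K : DerivedCategory (ModSite.Mod O)}
    (hK : DerComp.IsDerComp O I K) {W : C} (c : DerComp.GSec O) (hc : c.1 W ∈ I.ideal W) (n : ℤ) :
    TelBij.TB (TelLocal.sc c ((DerivedCategory.singleFunctor _ n).obj (ModSite.freeOn O W)) K) := by
  have h := (TelTransfer.tb_mu_iff_pre _ _ _ n).1 ((isDerComp_iff I K).1 hK W _ hc n)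
  refine TelBij.tb_of_injective_surjective (AddEquiv.refl _) (fun x => ?_) h
  show (DerivedCategory.singleFunctor _ n).map (mulOn W (c.1 W)) ≫ x = c • x
  rw [← smul_id_freeOn, Functor.map_smul, CategoryTheory.Functor.map_id, Linear.smul_comp, id_comp]

set_option maxHeartbeats 1000000 in
/-- The completion map is bijective from Koszul complexes on free modules. -/
theorem bijective_koszul_toDerCompletion (I : DerComp.IdealSh O) [DerComp.HasDerCompletion O I] {W : C} {r : ℕ}
    (s : Fin r → DerComp.GSec O) (hgen : (I.over W).IsGenBy fun i => DerComp.GSec.ofSect O W ((s i).1 W))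
    [PreservesFiniteLimits (ModSite.restr O W)] [PreservesFiniteColimits (ModSite.restr O W)]
    [(ModSite.restr O W).Additive] (K : DerivedCategory (ModSite.Mod O)) (m : ℤ) :
    Function.Bijective fun x : DerivedCategory.Q.obj ((kosT s (ModSite.freeOn O W))⟦m⟧) ⟶ K =>
      x ≫ DerComp.toDerCompletion I K := by
  haveI := ModTensor.preservesFiniteLimits_extZero O W
  haveI := ModTensor.preservesFiniteColimits_extZero O W
  haveI : PreservesColimitsOfSize.{0, 0} (ModSite.extZero O W) :=
    (ModSite.extZeroAdj O W).leftAdjoint_preservesColimits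
  let b := fun i => (s i).1 W
  let E := (ModSite.extZero O W).mapHomologicalComplex (ComplexShape.up ℤ)
  obtain ⟨e₀⟩ := nonempty_cmp_ext (O := O) W b
  have hsys : sysT s (ModSite.freeOn O W) = freeSys W b := by
    have key : ∀ (u u' : Fin r → (ModSite.freeOn O W ⟶ ModSite.freeOn O W)) (h) (h'), u = u' →
        Koszul.Sys.single (ModSite.freeOn O W) u h = Koszul.Sys.single (ModSite.freeOn O W) u' h' := by
      intro u u' h h' e
      subst e
      rfl
    exact key _ _ _ _ (funext fun i => smul_id_freeOn (s i) W)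
  let eK : kosT s (ModSite.freeOn O W) ≅ E.obj (koszulCx W b) :=
    eqToIso (by rw [kosT, hsys]) ≪≫ e₀.iso.symm
  let e : DerivedCategory.Q.obj ((kosT s (ModSite.freeOn O W))⟦m⟧) ≅
      (ModSite.extZero O W).mapDerivedCategory.obj (DerivedCategory.Q.obj ((koszulCx W b)⟦m⟧)) :=
    DerivedCategory.Q.mapIso ((shiftFunctor (CochainComplex _ ℤ) m).mapIso eK ≪≫ ((E.commShiftIso m).app _).symm) ≪≫
      ((ModSite.extZero O W).mapDerivedCategoryFactors.app _).symm
  have hk : KilledPow (fun i => DerComp.GSec.ofSect O W (b i)) (DerivedCategory.Q.obj ((koszulCx W b)⟦m⟧)) :=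
    ((killedPow_koszul W b).map (shiftFunctor (DerivedCategory (ModSite.Mod (O.over W))) m)).of_iso
      ((DerivedCategory.Q.commShiftIso m).app _).symm
  obtain ⟨F, p, δ, hT⟩ := distinguished_cocone_triangle (DerComp.toDerCompletion I K)
  let ad := TelLocal.derivedAdjunction (ModSite.extZeroAdj O W)
  have hF : ∀ G : DerivedCategory (ModSite.Mod O), (∀ E, DerComp.IsDerComp O I E → Subsingleton (G ⟶ E)) →
      Subsingleton (DerivedCategory.Q.obj ((kosT s (ModSite.freeOn O W))⟦m⟧) ⟶ G) := fun G hG =>
    @Equiv.subsingleton _ _ e.homFromEquiv (@Equiv.subsingleton _ _ (ad.homEquiv _ _)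
      (subsingleton_killed_to_orth I b hgen G hG _ hk))
  refine bijective_post_of_triangle hT (hF F (subsingleton_cone I hT)) (hF _ fun E hE => ?_)
  have := subsingleton_cone I hT _ (isDerComp_shift I hE 1)
  refine ⟨fun f g => (shiftFunctor (DerivedCategory (ModSite.Mod O)) (1 : ℤ)).map_injective ?_⟩
  rw [← cancel_epi ((shiftFunctorCompIsoId (DerivedCategory (ModSite.Mod O)) (-1 : ℤ) 1 (by omega)).inv.app F)]
  exact this.elim _ _

end Groth.Agent.DerCompEquiv.Sec
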