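import Groth.Agent.DerCompEquiv.Koszul
import Groth.Agent.H9Misc.SerreDerived
import Groth.Agent.H9Misc.DRingTel
import Groth.Agent.KFlatLib.PsiC
import Mathlib.CategoryTheory.Linear.Yoneda
import Mathlib.CategoryTheory.Adjunction.AdjointFunctorTheorems
import Mathlib.CategoryTheory.Abelian.GrothendieckCategory.Coseparator
import Mathlib.Algebra.Homology.DerivedCategory.KProjective
import Mathlib.Algebra.Homology.ShortComplex.Linear

/-!
# The functor of morphisms out of a fixed object on derived categories
-/

set_option backward.isDefEq.respectTransparency false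
set_option linter.style.haveILetI false

universe u

open CategoryTheory CategoryTheory.Category CategoryTheory.Limits Opposite
open Groth.Agent.H9Misc

attribute [local instance] HasDerivedCategory.standard

namespace Groth.Agent.DerCompEquiv.Sec

variable {A : Type (u + 1)} [Category.{u} A] [Abelian A] [IsGrothendieckAbelian.{u} A]
  (R : Type u) [CommRing R] [Linear R A] (T : A)

/-- Morphisms out of `T`. -/
noncomputable abbrev G : A ⥤ ModuleCat.{u} R := (linearCoyoneda R A).obj (op T)

instance linear_G : (G R T).Linear R where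
  map_smul f r := ModuleCat.hom_ext (LinearMap.ext fun x => Linear.comp_smul _ _ _ _ _ _)

theorem isRightAdjoint_G : (G R T).IsRightAdjoint := by
  haveI : PreservesLimitsOfSize.{u, u} (G R T ⋙ forget (ModuleCat.{u} R)) :=
    inferInstanceAs (PreservesLimitsOfSize.{u, u} (coyoneda.obj (op T)))
  haveI : PreservesLimits (G R T) := preservesLimits_of_reflects_of_preserves _ (forget (ModuleCat.{u} R))
  exact isRightAdjoint_of_preservesLimits_of_isCoseparating
    (P := ObjectProperty.singleton (coseparator A)) (isCoseparator_coseparator A) _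

instance : (G R T).IsRightAdjoint := isRightAdjoint_G R T

/-- The left adjoint. -/
noncomputable abbrev L : ModuleCat.{u} R ⥤ A := (G R T).leftAdjoint

/-- The adjunction. -/
noncomputable abbrev adjG : L R T ⊣ G R T := Adjunction.ofIsRightAdjoint _

instance additive_L : (L R T).Additive := (adjG R T).left_adjoint_additive

instance linear_L : (L R T).Linear R where
  map_smul {M N} f r := by
    refine ((adjG R T).homEquiv _ _).injective ?_
    rw [Adjunction.homEquiv_unit, Adjunction.homEquiv_unit, (G R T).map_smul, Linear.comp_smul]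
    refine ((adjG R T).unit.naturality (r • f)).symm.trans ?_
    show (r • f) ≫ _ = r • _
    rw [Linear.smul_comp]
    exact congrArg (r • ·) ((adjG R T).unit.naturality f)

/-- The left adjoint sends the ring to `T`. -/
noncomputable def unitIso : (L R T).obj (ModuleCat.of R R) ≅ T where
  hom := ((adjG R T).homEquiv _ _).symm (ModuleCat.ofHom (LinearMap.toSpanSingleton R (T ⟶ T) (𝟙 T)))
  inv := ((adjG R T).unit.app (ModuleCat.of R R)).hom (1 : R)
  hom_inv_id := by
    refine ((adjG R T).homEquiv _ _).injective ?_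
    rw [(adjG R T).homEquiv_naturality_right, Equiv.apply_symm_apply, Adjunction.homEquiv_unit,
      CategoryTheory.Functor.map_id]
    refine Eq.trans ?_ (comp_id _).symm
    refine ModuleCat.hom_ext (LinearMap.ext_ring ?_)
    show ((1 : R) • 𝟙 T) ≫ _ = _
    rw [one_smul]
    exact id_comp _
  inv_hom_id := by
    have h := ((adjG R T).homEquiv _ _).apply_symm_apply
      (ModuleCat.ofHom (LinearMap.toSpanSingleton R (T ⟶ T) (𝟙 T)))
    rw [Adjunction.homEquiv_unit] at h
    exact (congrArg (fun k : ModuleCat.of R R ⟶ (G R T).obj T => k.hom (1 : R)) h).trans (one_smul R (𝟙 T))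

/-- Termwise application of the functor to complexes. -/
noncomputable abbrev gCx : CochainComplex A ℤ ⥤ CochainComplex (ModuleCat.{u} R) ℤ :=
  (G R T).mapHomologicalComplex (ComplexShape.up ℤ)

/-- Termwise application of the left adjoint. -/
noncomputable abbrev lCx : CochainComplex (ModuleCat.{u} R) ℤ ⥤ CochainComplex A ℤ :=
  (L R T).mapHomologicalComplex (ComplexShape.up ℤ)

section Theta

lemma homCongr_comp' {D : Type*} [Category* D] {X X₁ Y Y₁ Y' Y₁' : D} (a : X ≅ X₁) (b : Y ≅ Y₁) (b' : Y' ≅ Y₁')
    (f : X ⟶ Y) (g : Y ⟶ Y') (h : Y₁ ⟶ Y₁') (e : g ≫ b'.hom = b.hom ≫ h) :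
    a.homCongr b' (f ≫ g) = a.homCongr b f ≫ h := by
  simp [Iso.homCongr, e]

lemma homCongr_add {D : Type*} [Category* D] [Preadditive D] {X X₁ Y Y₁ : D} (a : X ≅ X₁) (b : Y ≅ Y₁)
    (f g : X ⟶ Y) : a.homCongr b (f + g) = a.homCongr b f + a.homCongr b g := by
  simp [Iso.homCongr]

variable (P : CochainComplex (ModuleCat.{u} R) ℤ) [P.IsKProjective] (I : CochainComplex A ℤ) [I.IsKInjective]

/-- Morphisms in the homotopy and derived categories out of a K-projective complex. -/
noncomputable def psi : ((HomotopyCategory.quotient _ _).obj P ⟶ (HomotopyCategory.quotient _ _).obj ((gCx R T).obj I)) ≃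
    (DerivedCategory.Q.obj P ⟶ DerivedCategory.Q.obj ((gCx R T).obj I)) :=
  (Equiv.ofBijective _ (CochainComplex.IsKProjective.Qh_map_bijective P _)).trans
    (((DerivedCategory.quotientCompQhIso _).app P).homCongr ((DerivedCategory.quotientCompQhIso _).app _))

/-- Morphisms in the homotopy and derived categories into a K-injective complex. -/
noncomputable def phi : ((HomotopyCategory.quotient _ _).obj ((lCx R T).obj P) ⟶ (HomotopyCategory.quotient _ _).obj I) ≃
    (DerivedCategory.Q.obj ((lCx R T).obj P) ⟶ DerivedCategory.Q.obj I) :=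
  (Equiv.ofBijective _ (CochainComplex.IsKInjective.Qh_map_bijective _ I)).trans
    (((DerivedCategory.quotientCompQhIso _).app _).homCongr ((DerivedCategory.quotientCompQhIso _).app I))

/-- The adjunction on the homotopy categories. -/
noncomputable def adjK : ((HomotopyCategory.quotient _ _).obj ((lCx R T).obj P) ⟶ (HomotopyCategory.quotient _ _).obj I) ≃
    ((HomotopyCategory.quotient _ _).obj P ⟶ (HomotopyCategory.quotient _ _).obj ((gCx R T).obj I)) :=
  (SerreDerived.adjHtpy (ComplexShape.up ℤ) (adjG R T)).homEquiv _ _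

/-- Derived morphisms into `Hom(T, I)`. -/
noncomputable def theta : (DerivedCategory.Q.obj P ⟶ DerivedCategory.Q.obj ((gCx R T).obj I)) ≃
    (DerivedCategory.Q.obj ((lCx R T).obj P) ⟶ DerivedCategory.Q.obj I) :=
  (psi R T P I).symm.trans ((adjK R T P I).symm.trans (phi R T P I))

variable {I} {I' : CochainComplex A ℤ} [I'.IsKInjective] (φ : I ⟶ I')

lemma psi_comp (z : (HomotopyCategory.quotient _ _).obj P ⟶ (HomotopyCategory.quotient _ _).obj ((gCx R T).obj I)) :
    psi R T P I' (z ≫ (HomotopyCategory.quotient _ _).map ((gCx R T).map φ)) =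
      psi R T P I z ≫ DerivedCategory.Q.map ((gCx R T).map φ) := by
  simp only [psi, phi, Equiv.trans_apply, Equiv.ofBijective_apply, Functor.map_comp]
  exact homCongr_comp' _ _ _ _ _ _ ((DerivedCategory.quotientCompQhIso _).hom.naturality _)

lemma phi_comp (z : (HomotopyCategory.quotient _ _).obj ((lCx R T).obj P) ⟶ (HomotopyCategory.quotient _ _).obj I) :
    phi R T P I' (z ≫ (HomotopyCategory.quotient _ _).map φ) = phi R T P I z ≫ DerivedCategory.Q.map φ := by
  simp only [psi, phi, Equiv.trans_apply, Equiv.ofBijective_apply, Functor.map_comp]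
  exact homCongr_comp' _ _ _ _ _ _ ((DerivedCategory.quotientCompQhIso _).hom.naturality _)

lemma adjK_comp (z : (HomotopyCategory.quotient _ _).obj ((lCx R T).obj P) ⟶ (HomotopyCategory.quotient _ _).obj I) :
    adjK R T P I' (z ≫ (HomotopyCategory.quotient _ _).map φ) =
      adjK R T P I z ≫ (HomotopyCategory.quotient _ _).map ((gCx R T).map φ) :=
  (SerreDerived.adjHtpy (ComplexShape.up ℤ) (adjG R T)).homEquiv_naturality_right z _

lemma theta_comp (x : DerivedCategory.Q.obj P ⟶ DerivedCategory.Q.obj ((gCx R T).obj I)) :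
    theta R T P I' (x ≫ DerivedCategory.Q.map ((gCx R T).map φ)) = theta R T P I x ≫ DerivedCategory.Q.map φ := by
  obtain ⟨z, rfl⟩ := (psi R T P I).surjective x
  obtain ⟨w, rfl⟩ := (adjK R T P I).surjective z
  rw [← psi_comp, ← adjK_comp]
  show phi R T P I' _ = phi R T P I _ ≫ _
  simp only [Equiv.trans_apply, Equiv.symm_apply_apply]
  exact phi_comp R T P φ w

/-- Postcomposition is bijective on both sides at once. -/
theorem bijective_comp_iff :
    Function.Bijective (fun x : DerivedCategory.Q.obj P ⟶ DerivedCategory.Q.obj ((gCx R T).obj I) =>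
      x ≫ DerivedCategory.Q.map ((gCx R T).map φ)) ↔
    Function.Bijective (fun y : DerivedCategory.Q.obj ((lCx R T).obj P) ⟶ DerivedCategory.Q.obj I =>
      y ≫ DerivedCategory.Q.map φ) := by
  have e : (fun y : DerivedCategory.Q.obj ((lCx R T).obj P) ⟶ DerivedCategory.Q.obj I =>
      y ≫ DerivedCategory.Q.map φ) = (theta R T P I') ∘ (fun x => x ≫ DerivedCategory.Q.map ((gCx R T).map φ)) ∘
        (theta R T P I).symm := funext fun y => by
    show _ = theta R T P I' (_ ≫ _)
    rw [theta_comp, Equiv.apply_symm_apply]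
  rw [e, Function.Bijective.of_comp_iff' (theta R T P I').bijective,
    Function.Bijective.of_comp_iff _ (theta R T P I).symm.bijective]

lemma theta_add (x y : DerivedCategory.Q.obj P ⟶ DerivedCategory.Q.obj ((gCx R T).obj I)) :
    theta R T P I (x + y) = theta R T P I x + theta R T P I y := by
  obtain ⟨z, rfl⟩ := (psi R T P I).surjective x
  obtain ⟨w, rfl⟩ := (adjK R T P I).surjective z
  obtain ⟨z', rfl⟩ := (psi R T P I).surjective y
  obtain ⟨w', rfl⟩ := (adjK R T P I).surjective z'
  have h1 : psi R T P I (adjK R T P I w) + psi R T P I (adjK R T P I w') = psi R T P I (adjK R T P I (w + w')) := by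
    have h3 : adjK R T P I (w + w') = adjK R T P I w + adjK R T P I w' := by
      show (SerreDerived.adjHtpy (ComplexShape.up ℤ) (adjG R T)).homEquiv _ _ (w + w') = _
      rw [Adjunction.homEquiv_unit, Functor.map_add, Preadditive.comp_add]
      exact congrArg₂ (· + ·) ((SerreDerived.adjHtpy _ (adjG R T)).homEquiv_unit _ _ w).symm
        ((SerreDerived.adjHtpy _ (adjG R T)).homEquiv_unit _ _ w').symm
    rw [h3]
    simp only [psi, Equiv.trans_apply, Equiv.ofBijective_apply, Functor.map_add]
    exact (homCongr_add _ _ _ _).symm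
  rw [h1]
  simp only [theta, Equiv.trans_apply, Equiv.symm_apply_apply]
  simp only [phi, Equiv.trans_apply, Equiv.ofBijective_apply, Functor.map_add]
  exact homCongr_add _ _ _ _

lemma theta_smul (c : R) (x : DerivedCategory.Q.obj P ⟶ DerivedCategory.Q.obj ((gCx R T).obj I)) :
    theta R T P I (c • x) = c • theta R T P I x := by
  have h : DerivedCategory.Q.map ((gCx R T).map (c • 𝟙 I)) = c • 𝟙 (DerivedCategory.Q.obj ((gCx R T).obj I)) := by
    rw [show (gCx R T).map (c • 𝟙 I) = c • 𝟙 _ from HomologicalComplex.hom_ext _ _ fun i => by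
        show (G R T).map (c • 𝟙 _) = c • 𝟙 _
        rw [Functor.map_smul, CategoryTheory.Functor.map_id]
        rfl,
      Functor.map_smul, CategoryTheory.Functor.map_id]
  have := theta_comp R T P (c • 𝟙 I) x
  rw [h, Linear.comp_smul, comp_id, Functor.map_smul, CategoryTheory.Functor.map_id, Linear.comp_smul, comp_id] at this
  exact this

end Theta

section Homology

instance isKProjective_single (n : ℤ) :
    ((CochainComplex.singleFunctor (ModuleCat.{u} R) n).obj (ModuleCat.of R R)).IsKProjective := by
  haveI : ((CochainComplex.singleFunctor (ModuleCat.{u} R) n).obj (ModuleCat.of R R)).IsStrictlyLE n := by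
    rw [CochainComplex.isStrictlyLE_iff]
    exact fun i hi => HomologicalComplex.isZero_single_obj_X _ _ _ _ (by omega)
  haveI : Projective (ModuleCat.of R R) :=
    ModuleCat.projective_of_free (ι := PUnit.{u + 1}) (Module.Basis.singleton PUnit.{u + 1} R)
  haveI : ∀ i : ℤ, Projective (((CochainComplex.singleFunctor (ModuleCat.{u} R) n).obj (ModuleCat.of R R)).X i) :=
    fun i => by
      by_cases hi : i = n
      · subst hi
        exact Projective.of_iso (HomologicalComplex.singleObjXSelf (ComplexShape.up ℤ) i _).symm inferInstance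
      · exact (HomologicalComplex.isZero_single_obj_X (ComplexShape.up ℤ) n _ i hi).projective
  exact CochainComplex.isKProjective_of_projective _ n

lemma homologyFunctor_map_smul_id (c : R) (Y : DerivedCategory (ModuleCat.{u} R)) (n : ℤ) :
    (DerivedCategory.homologyFunctor (ModuleCat.{u} R) n).map (c • 𝟙 Y) = c • 𝟙 _ := by
  obtain ⟨K, ⟨e⟩⟩ : ∃ K, Nonempty (DerivedCategory.Q.obj K ≅ Y) :=
    ⟨_, ⟨(Localization.essSurj DerivedCategory.Q
      (HomologicalComplex.quasiIso (ModuleCat.{u} R) (ComplexShape.up ℤ))).mem_essImage Y |>.getIso⟩⟩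
  let H := DerivedCategory.homologyFunctor (ModuleCat.{u} R) n
  have h2 := (DerivedCategory.homologyFunctorFactors (ModuleCat.{u} R) n).hom.naturality (c • 𝟙 K)
  have h3 : HomologicalComplex.homologyMap (c • 𝟙 K) n = c • 𝟙 (K.homology n) := by
    show ShortComplex.homologyMap (c • 𝟙 (K.sc n)) = _
    rw [ShortComplex.homologyMap_smul, ShortComplex.homologyMap_id]
    rfl
  have h4 : H.map (c • 𝟙 (DerivedCategory.Q.obj K)) = c • 𝟙 _ := by
    rw [← cancel_mono ((DerivedCategory.homologyFunctorFactors (ModuleCat.{u} R) n).hom.app K),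
      show c • 𝟙 (DerivedCategory.Q.obj K) = DerivedCategory.Q.map (c • 𝟙 K) by
        rw [Functor.map_smul, CategoryTheory.Functor.map_id]]
    refine h2.trans ?_
    show _ ≫ HomologicalComplex.homologyMap (c • 𝟙 K) n = _
    rw [h3, Linear.comp_smul, comp_id, Linear.smul_comp]
    exact congrArg (c • ·) (id_comp _).symm
  show H.map (c • 𝟙 Y) = c • 𝟙 _
  rw [← e.inv_hom_id, show c • (e.inv ≫ e.hom) = e.inv ≫ (c • 𝟙 _) ≫ e.hom by
      rw [Linear.smul_comp, id_comp, Linear.comp_smul],
    Functor.map_comp, Functor.map_comp, h4, Linear.smul_comp, id_comp, Linear.comp_smul, ← Functor.map_comp,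
    e.inv_hom_id, CategoryTheory.Functor.map_id]

/-- Morphisms out of the ring are cohomology. -/
noncomputable def evalHD (n : ℤ) (Y : DerivedCategory (ModuleCat.{u} R)) :
    ((DerivedCategory.singleFunctor (ModuleCat.{u} R) n).obj (ModuleCat.of R R) ⟶ Y) ≃ₗ[R] Dual.HD R Y n :=
  haveI : Projective (ModuleCat.of R R) :=
    ModuleCat.projective_of_free (ι := PUnit.{u + 1}) (Module.Basis.singleton PUnit.{u + 1} R)
  LinearEquiv.ofBijective
    { toFun := fun x => (KFlatLib.psiC n (ModuleCat.of R R) Y x).hom (1 : R)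
      map_add' := fun x y => by
        show (KFlatLib.psiC n (ModuleCat.of R R) Y (x + y)).hom (1 : R) = _
        rw [KFlatLib.psiC, Functor.map_add, Preadditive.comp_add]
        rfl
      map_smul' := fun c x => by
        show (KFlatLib.psiC n (ModuleCat.of R R) Y (c • x)).hom (1 : R) = c • _
        rw [show c • x = x ≫ (c • 𝟙 Y) by rw [Linear.comp_smul, comp_id], KFlatLib.psiC_comp,
          homologyFunctor_map_smul_id, Linear.comp_smul, comp_id]
        rfl }
    ⟨fun x y h => (KFlatLib.bijective_psiC_of_projective (P := ModuleCat.of R R) n Y).1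
        (ModuleCat.hom_ext (LinearMap.ext_ring h)),
      fun h => by
        obtain ⟨x, hx⟩ := (KFlatLib.bijective_psiC_of_projective (P := ModuleCat.of R R) n Y).2
          (ModuleCat.ofHom (LinearMap.toSpanSingleton R _ h))
        exact ⟨x, (congrArg (fun k : ModuleCat.of R R ⟶ _ => k.hom (1 : R)) hx).trans (one_smul R h)⟩⟩

lemma evalHD_comp {n : ℤ} {Y Z : DerivedCategory (ModuleCat.{u} R)}
    (x : (DerivedCategory.singleFunctor (ModuleCat.{u} R) n).obj (ModuleCat.of R R) ⟶ Y) (f : Y ⟶ Z) :
    evalHD R n Z (x ≫ f) = ((DerivedCategory.homologyFunctor (ModuleCat.{u} R) n).map f).hom (evalHD R n Y x) :=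
  congrArg (fun k : ModuleCat.of R R ⟶ _ => k.hom (1 : R)) (KFlatLib.psiC_comp x f)

/-- The complex `R` in degree `n` goes to `T` in degree `n`. -/
noncomputable def singleIso (n : ℤ) :
    DerivedCategory.Q.obj ((lCx R T).obj ((CochainComplex.singleFunctor (ModuleCat.{u} R) n).obj (ModuleCat.of R R))) ≅
      (DerivedCategory.singleFunctor A n).obj T :=
  DerivedCategory.Q.mapIso ((HomologicalComplex.singleMapHomologicalComplex (L R T) (ComplexShape.up ℤ) n).app _ ≪≫
    (CochainComplex.singleFunctor A n).mapIso (unitIso R T)) ≪≫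
    ((DerivedCategory.singleFunctorIsoCompQ A n).app T).symm

/-- The linear form of `theta`. -/
noncomputable def thetaLin (P : CochainComplex (ModuleCat.{u} R) ℤ) [P.IsKProjective] (I : CochainComplex A ℤ)
    [I.IsKInjective] :
    (DerivedCategory.Q.obj P ⟶ DerivedCategory.Q.obj ((gCx R T).obj I)) ≃ₗ[R]
      (DerivedCategory.Q.obj ((lCx R T).obj P) ⟶ DerivedCategory.Q.obj I) :=
  { theta R T P I with
    map_add' := theta_add R T P
    map_smul' := fun c x => theta_smul R T P c x }

/-- Cohomology of `Hom(T, I)` is morphisms out of `T`. -/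
noncomputable def secEquiv (n : ℤ) (I : CochainComplex A ℤ) [I.IsKInjective] :
    ((DerivedCategory.singleFunctor A n).obj T ⟶ DerivedCategory.Q.obj I) ≃ₗ[R]
      Dual.HD R (DerivedCategory.Q.obj ((gCx R T).obj I)) n :=
  (Linear.homCongr R (singleIso R T n).symm (Iso.refl _)).trans <|
    ((thetaLin R T ((CochainComplex.singleFunctor (ModuleCat.{u} R) n).obj (ModuleCat.of R R)) I).symm).trans <|
      (Linear.homCongr R ((DerivedCategory.singleFunctorIsoCompQ (ModuleCat.{u} R) n).app (ModuleCat.of R R)).symm
        (Iso.refl _)).trans (evalHD R n _)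

lemma thetaLin_symm_comp (P : CochainComplex (ModuleCat.{u} R) ℤ) [P.IsKProjective] {I I' : CochainComplex A ℤ}
    [I.IsKInjective] [I'.IsKInjective] (φ : I ⟶ I')
    (y : DerivedCategory.Q.obj ((lCx R T).obj P) ⟶ DerivedCategory.Q.obj I) :
    (thetaLin R T P I').symm (y ≫ DerivedCategory.Q.map φ) =
      (thetaLin R T P I).symm y ≫ DerivedCategory.Q.map ((gCx R T).map φ) := by
  show (theta R T P I').symm _ = (theta R T P I).symm y ≫ _
  rw [Equiv.symm_apply_eq, theta_comp, Equiv.apply_symm_apply]

lemma secEquiv_comp {n : ℤ} {I I' : CochainComplex A ℤ} [I.IsKInjective] [I'.IsKInjective] (φ : I ⟶ I')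
    (x : (DerivedCategory.singleFunctor A n).obj T ⟶ DerivedCategory.Q.obj I) :
    secEquiv R T n I' (x ≫ DerivedCategory.Q.map φ) =
      ((DerivedCategory.homologyFunctor (ModuleCat.{u} R) n).map (DerivedCategory.Q.map ((gCx R T).map φ))).hom
        (secEquiv R T n I x) := by
  refine Eq.trans ?_ (evalHD_comp R _ _)
  simp only [secEquiv, LinearEquiv.trans_apply]
  refine congrArg (evalHD R n _) ?_
  erw [Linear.homCongr_apply, Linear.homCongr_apply, Linear.homCongr_apply, Linear.homCongr_apply]
  simp only [Iso.symm_inv, Iso.refl_hom, comp_id]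
  rw [← assoc (singleIso R T n).hom x, thetaLin_symm_comp]
  exact (assoc _ _ _).symm

end Homology

end Groth.Agent.DerCompEquiv.Sec
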