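import Groth.Agent.DerCompEquiv.TorsLoc
import Groth.Agent.H9Misc.DRingComplAmp

/-!
# Completed torsion objects of finite modules in degree zero
-/

set_option backward.isDefEq.respectTransparency false
set_option linter.style.haveILetI false

universe u

open CategoryTheory CategoryTheory.Category CategoryTheory.Limits CategoryTheory.Pretriangulated
open Groth.Agent.H9Misc

attribute [local instance] HasDerivedCategory.standard

namespace Groth.Agent.DerCompEquiv.TU

variable {A : Type u} [CommRing A] (I : Ideal A) [DRing.HasDerivedCompletion I]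

/-- The completion. -/
noncomputable abbrev cC (X : Dual.D A) : Dual.D A := ((DRing.derivedCompletion I).obj X).obj

/-- The completion on morphisms. -/
noncomputable abbrev cmap {X Y : Dual.D A} (g : X ⟶ Y) : cC I X ⟶ cC I Y := ((DRing.derivedCompletion I).map g).hom

lemma cmap_comp {X Y Z : Dual.D A} (g : X ⟶ Y) (h : Y ⟶ Z) : cmap I (g ≫ h) = cmap I g ≫ cmap I h := by
  simp only [cmap, Functor.map_comp]
  rfl

lemma cnat {X Y : Dual.D A} (g : X ⟶ Y) :
    g ≫ DRing.toDerivedCompletion I Y = DRing.toDerivedCompletion I X ≫ cmap I g :=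
  (DRing.derivedCompletionAdj I).unit.naturality g

variable {I}

lemma refl_cancel₀ {X Y Z : Dual.D A} {c : X ⟶ Y} (h : DRingCompl.Refl (DRing.IsDerivedComplete I) c)
    (hZ : DRing.IsDerivedComplete I Z) {g g' : Y ⟶ Z} (e : c ≫ g = c ≫ g') : g = g' := by
  rw [← cancel_mono ((shiftFunctorZero (Dual.D A) ℤ).app Z).inv]
  exact h.cancel hZ (by rw [← assoc, e, assoc])

lemma exists_refl_iso {X C' : Dual.D A} {c : X ⟶ C'} (h : DRingCompl.Refl (DRing.IsDerivedComplete I) c) :
    ∃ e : cC I X ≅ C', DRing.toDerivedCompletion I X ≫ e.hom = c := by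
  let z := (shiftFunctorZero (Dual.D A) ℤ).app C'
  let z' := (shiftFunctorZero (Dual.D A) ℤ).app (cC I X)
  have h₀ := DRingCompl.refl_unit (I := I) X
  obtain ⟨a, ha⟩ := (h₀.bij C' h.mem 0).2 (c ≫ z.inv)
  obtain ⟨b, hb⟩ := (h.bij (cC I X) h₀.mem 0).2 (DRing.toDerivedCompletion I X ≫ z'.inv)
  dsimp only at ha hb
  have ha' : DRing.toDerivedCompletion I X ≫ a ≫ z.hom = c := by
    rw [← assoc, ha, assoc]
    exact (congrArg (c ≫ ·) z.inv_hom_id).trans (comp_id c)
  have hb' : c ≫ b ≫ z'.hom = DRing.toDerivedCompletion I X := by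
    rw [← assoc, hb, assoc]
    exact (congrArg (DRing.toDerivedCompletion I X ≫ ·) z'.inv_hom_id).trans (comp_id _)
  refine ⟨⟨a ≫ z.hom, b ≫ z'.hom, refl_cancel₀ h₀ h₀.mem ?_, refl_cancel₀ h h.mem ?_⟩, ha'⟩
  · rw [← assoc, ha', hb', comp_id]
  · rw [← assoc, hb', ha', comp_id]

variable (I)

/-- Degree zero cohomology on morphisms. -/
noncomputable abbrev H₀ {X Y : Dual.D A} (g : X ⟶ Y) : Dual.HD A X 0 →ₗ[A] Dual.HD A Y 0 :=
  ((DerivedCategory.homologyFunctor (ModuleCat.{u} A) 0).map g).hom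

lemma H₀_comp {X Y Z : Dual.D A} (g : X ⟶ Y) (h : Y ⟶ Z) (x : Dual.HD A X 0) : H₀ (g ≫ h) x = H₀ h (H₀ g x) :=
  congrArg (fun t : (DerivedCategory.homologyFunctor (ModuleCat.{u} A) 0).obj X ⟶ _ => t.hom x)
    ((DerivedCategory.homologyFunctor (ModuleCat.{u} A) 0).map_comp g h)

lemma H₀_iso {X Y : Dual.D A} (e : X ≅ Y) : Function.Bijective (H₀ e.hom) :=
  ((DerivedCategory.homologyFunctor (ModuleCat.{u} A) 0).mapIso e).toLinearEquiv.bijective

variable {B : Type u} [CommRing B] (φ : A →+* B)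

/-- The statement about completed torsion objects. -/
def Good (fs : List A) (N : ModuleCat.{u} B) {Y : Dual.D A} (p : Y ⟶ Dual.inD A (res φ N)) : Prop :=
  (∀ i : ℤ, i < 0 → Subsingleton (Dual.HD A (cC I Y) i)) ∧ Function.Injective (H₀ (cmap I p)) ∧
    ∀ ξ, ξ ∈ Set.range (H₀ (cmap I p)) ↔
      ∀ f ∈ fs, H₀ (cmap I ((DerivedCategory.singleFunctor (ModuleCat.{u} A) 0).map (locL φ f N))) ξ = 0

lemma Good.of_iso {fs : List A} {N : ModuleCat.{u} B} {Y Y' : Dual.D A} {p : Y ⟶ Dual.inD A (res φ N)}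
    {q : Y' ⟶ Dual.inD A (res φ N)} (e : Y ≅ Y') (he : e.hom ≫ q = p) (h : Good I φ fs N q) : Good I φ fs N p := by
  let e' : cC I Y ≅ cC I Y' := (ObjectProperty.ι _).mapIso ((DRing.derivedCompletion I).mapIso e)
  have hb : Function.Bijective (H₀ (cmap I e.hom)) := H₀_iso e'
  have hp : ∀ x, H₀ (cmap I p) x = H₀ (cmap I q) (H₀ (cmap I e.hom) x) := fun x => by
    rw [← he, cmap_comp, H₀_comp]
  refine ⟨fun i hi => DRingCompl.subsingleton_HD_of_iso e'.symm (h.1 i hi), fun x y hxy => ?_, fun ξ => ?_⟩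
  · rw [hp, hp] at hxy
    exact hb.1 (h.2.1 hxy)
  · rw [← h.2.2 ξ]
    constructor
    · rintro ⟨x, rfl⟩
      exact ⟨_, (hp x).symm⟩
    · rintro ⟨y, rfl⟩
      obtain ⟨x, rfl⟩ := hb.2 y
      exact ⟨x, hp x⟩

lemma tor_sup {J K : Ideal A} {T : Dual.D A} (h₁ : Tor J T) (h₂ : Tor K T) : Tor (J ⊔ K) T := fun i m => by
  obtain ⟨n₁, hn₁⟩ := h₁ i m
  obtain ⟨n₂, hn₂⟩ := h₂ i m
  refine ⟨n₁ + n₂, fun a ha => ?_⟩
  obtain ⟨x, hx, y, hy, rfl⟩ := Submodule.mem_sup.1 (Ideal.sup_pow_add_le_pow_sup_pow ha)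
  rw [add_smul, hn₁ x hx, hn₂ y hy, add_zero]

theorem univ_comp [IsNoetherianRing A] (J : Ideal A) [DRing.HasRgammaI J] (f : A) {D₁ X : Dual.D A}
    {p₁ : D₁ ⟶ X} (h₁ : Univ (Ideal.span {f}) p₁) :
    Univ (J ⊔ Ideal.span {f}) ((DRing.RgammaIε J).app D₁ ≫ p₁) := by
  haveI := RGammaI.hasRgammaI (Ideal.span {f})
  haveI := RGammaI.hasRgammaI (Ideal.span {f} ⊔ J)
  obtain ⟨e, -⟩ := h₁.exists_iso (univ_ε (Ideal.span {f}) X)
  obtain ⟨e'⟩ := Groth.Agent.S1816.result A (Ideal.span {f}) J X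
  have hf : Tor (Ideal.span {f}) ((DRing.RgammaI J).obj D₁) :=
    Tor.of_iso (e'.symm ≪≫ ((DRing.RgammaI J).mapIso e).symm)
      (Tor.mono (J' := Ideal.span {f} ⊔ J) le_sup_left (fun i => RGammaI.isPowerTorsion_HD _ X i))
  refine ⟨tor_sup (univ_ε J D₁).tor hf, fun T hT => ?_⟩
  refine (congrArg Function.Bijective (funext fun x => ?_)).mp
    ((h₁.bij T (hT.mono le_sup_right)).comp ((univ_ε J D₁).bij T (hT.mono le_sup_left)))
  exact assoc _ _ _

set_option maxHeartbeats 1000000 in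
/-- Completed torsion objects of finite modules. -/
theorem good [IsNoetherianRing A] : ∀ (fs : List A) (B : Type u) [CommRing B] [IsNoetherianRing B] (φ : A →+* B)
    (N : ModuleCat.{u} B) [Module.Finite B N] (Y : Dual.D A) (p : Y ⟶ Dual.inD A (res φ N)),
    Univ (RGammaI.idl fs) p → Good I φ fs N p := by
  intro fs
  induction fs with
  | nil =>
    intro B _ _ φ N _ Y p hp
    rw [RGammaI.idl_nil] at hp
    haveI : IsIso p := isIso_of_yoneda_map_bijective p fun T => hp.bij T (tor_bot T)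
    let e' : cC I Y ≅ cC I (Dual.inD A (res φ N)) :=
      (ObjectProperty.ι _).mapIso ((DRing.derivedCompletion I).mapIso (asIso p))
    have hb : Function.Bijective (H₀ (cmap I p)) := H₀_iso e'
    obtain ⟨W, c, hc, hW, -⟩ := RR.exists_finite_refl φ I N
    obtain ⟨eW, -⟩ := exists_refl_iso hc
    exact ⟨fun i hi => DRingCompl.subsingleton_HD_of_iso (eW.symm ≪≫ e'.symm) (hW i hi), hb.1,
      fun ξ => ⟨fun _ f hf => absurd hf List.not_mem_nil, fun _ => hb.2 ξ⟩⟩
  | cons f fs ih =>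
    intro B _ _ φ N _ Y p hp
    haveI : IsNoetherianRing (locB φ f) := IsLocalization.isNoetherianRing (Submonoid.powers (φ f)) _ inferInstance
    haveI : Module.Finite (locB φ f) (locN φ f N) :=
      Module.Finite.of_isLocalizedModule (Submonoid.powers (φ f))
        (LocalizedModule.mkLinearMap (Submonoid.powers (φ f)) N)
    haveI := RGammaI.hasRgammaI (RGammaI.idl fs)
    let J := RGammaI.idl fs
    let XN := Dual.inD A (res φ N)
    let l := (DerivedCategory.singleFunctor (ModuleCat.{u} A) 0).map (locL φ f N)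
    obtain ⟨D₁, p₁, δ, hT⟩ := distinguished_cocone_triangle₁ l
    have h₁ := univ_fibre (φ := φ) (f := f) (N := N) hT
    -- reduction to the constructed object
    let Y₀ := (DRing.RgammaI J).obj D₁
    let εD : Y₀ ⟶ D₁ := (DRing.RgammaIε J).app D₁
    let εN : (DRing.RgammaI J).obj XN ⟶ XN := (DRing.RgammaIε J).app XN
    have hq : Univ (RGammaI.idl (f :: fs)) (εD ≫ p₁) := by
      rw [RGammaI.idl_cons]
      exact univ_comp J f h₁
    obtain ⟨e, he⟩ := hp.exists_iso hq
    refine Good.of_iso I φ e he ?_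
    -- the triangles
    let g : Y₀ ⟶ (DRing.RgammaI J).obj XN := (DRing.RgammaI J).map p₁
    have hg : g ≫ εN = εD ≫ p₁ := (DRing.RgammaIε J).naturality p₁
    obtain ⟨Z, j, d, hZ⟩ := distinguished_cocone_triangle g
    obtain ⟨w, hw₂, hw₃⟩ := complete_distinguished_triangle_morphism _ _ hZ hT εD εN hg
    have hwu : Univ J w := Univ.third (IsNoetherian.noetherian J) hZ hT (Triangle.homMk _ _ εD εN w hg hw₂ hw₃)
      (univ_ε J D₁) (univ_ε J XN)
    obtain ⟨hw0, hw1, -⟩ := ih (locB φ f) (locφ φ f) (locN φ f N) Z w hwu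
    obtain ⟨hN0, hN1, hN2⟩ := ih B φ N _ εN (univ_ε J XN)
    -- the completed triangle
    obtain ⟨C', j', d', hC⟩ := distinguished_cocone_triangle (cmap I g)
    obtain ⟨c, hc₂, hc₃⟩ := complete_distinguished_triangle_morphism _ _ hZ hC
      (DRing.toDerivedCompletion I _) (DRing.toDerivedCompletion I _) (cnat I g)
    have hc : DRingCompl.Refl (DRing.IsDerivedComplete I) c :=
      DRingCompl.Refl.third hZ hC (Triangle.homMk _ _ (DRing.toDerivedCompletion I _) (DRing.toDerivedCompletion I _) c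
        (cnat I g) hc₂ hc₃) (DRingCompl.refl_unit _) (DRingCompl.refl_unit _)
        (DRingNakayama.isDerivedComplete_obj₃ I _ hC ((DRing.derivedCompletion I).obj _).property
          ((DRing.derivedCompletion I).obj _).property)
    obtain ⟨eC, heC⟩ := exists_refl_iso hc
    let r : C' ⟶ cC I (Dual.inD A (res (locφ φ f) (locN φ f N))) := eC.inv ≫ cmap I w
    have hr : Function.Injective (H₀ r) := fun a b hab => by
      rw [H₀_comp, H₀_comp] at hab
      exact (H₀_iso eC.symm).1 (hw1 hab)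
    have hC0 : ∀ i : ℤ, i < 0 → Subsingleton (Dual.HD A C' i) := fun i hi =>
      DRingCompl.subsingleton_HD_of_iso eC (hw0 i hi)
    have hcomm : j' ≫ r = cmap I εN ≫ cmap I l := by
      refine refl_cancel₀ (DRingCompl.refl_unit _) ((DRing.derivedCompletion I).obj _).property ?_
      have hc₂' : j ≫ c = DRing.toDerivedCompletion I _ ≫ j' := hc₂
      have hw₂' : j ≫ w = εN ≫ l := hw₂
      rw [← assoc, ← hc₂', assoc, ← cmap_comp, ← cnat I (εN ≫ l), ← hw₂', assoc]
      refine congrArg (j ≫ ·) ?_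
      rw [← heC, assoc, eC.hom_inv_id_assoc]
      exact (cnat I w).symm
    -- degree zero
    have hinj : Function.Injective (H₀ (cmap I g)) := by
      refine (injective_iff_map_eq_zero _).2 fun x hx => ?_
      obtain ⟨y, hy⟩ := (ShortComplex.moduleCat_exact_iff _).1
        (DerivedCategory.HomologySequence.exact₁ _ hC (-1) 0 (by omega)) x hx
      rw [← hy, @Subsingleton.elim _ (hC0 (-1) (by omega)) y 0]
      exact map_zero (DerivedCategory.HomologySequence.δ (Triangle.mk (cmap I g) j' d') (-1) 0 (by omega)).hom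
    refine ⟨fun i hi => ?_, fun x y hxy => ?_, fun ξ => ?_⟩
    · haveI h1 := hN0 i hi
      haveI h2 := hC0 (i - 1) (by omega)
      refine ⟨fun x y => ?_⟩
      suffices ∀ x : Dual.HD A (cC I Y₀) i, x = 0 by rw [this x, this y]
      intro x
      obtain ⟨z, hz⟩ := (ShortComplex.moduleCat_exact_iff _).1
        (DerivedCategory.HomologySequence.exact₁ _ hC (i - 1) i (by omega)) x (@Subsingleton.elim _ h1 _ _)
      rw [← hz, @Subsingleton.elim _ h2 z 0]
      exact map_zero (DerivedCategory.HomologySequence.δ (Triangle.mk (cmap I g) j' d') (i - 1) i (by omega)).hom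
    · rw [← hg, cmap_comp, H₀_comp, H₀_comp] at hxy
      exact hinj (hN1 hxy)
    · rw [← hg, List.forall_mem_cons, cmap_comp]
      have hrl : ∀ y, H₀ r (H₀ j' y) = H₀ (cmap I l) (H₀ (cmap I εN) y) := fun y => by
        rw [← H₀_comp, ← H₀_comp, hcomm]
      constructor
      · rintro ⟨x, rfl⟩
        rw [H₀_comp]
        refine ⟨?_, (hN2 _).1 ⟨_, rfl⟩⟩
        rw [← hrl, ← H₀_comp (cmap I g) j', show cmap I g ≫ j' = 0 from comp_distTriang_mor_zero₁₂ _ hC]
        show H₀ r (((DerivedCategory.homologyFunctor (ModuleCat.{u} A) 0).map 0).hom x) = 0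
        rw [Functor.map_zero]
        exact map_zero _
      · rintro ⟨hl, hfs⟩
        obtain ⟨y, rfl⟩ := (hN2 ξ).2 hfs
        have hj : H₀ j' y = 0 := hr (by rw [hrl, map_zero]; exact hl)
        obtain ⟨x, hx⟩ := (ShortComplex.moduleCat_exact_iff _).1
          (DerivedCategory.HomologySequence.exact₂ _ hC 0) y hj
        exact ⟨x, by rw [H₀_comp]; exact congrArg _ hx⟩

end Groth.Agent.DerCompEquiv.TU
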