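import Groth.Agent.DerCompEquiv.TorsCompl
import Groth.Agent.AdicLib.Basic

/-!
# Degree zero of completed torsion objects over a complete ring
-/

set_option backward.isDefEq.respectTransparency false
set_option linter.style.haveILetI false

universe u

open CategoryTheory CategoryTheory.Category CategoryTheory.Limits CategoryTheory.Pretriangulated
open Groth.Agent.H9Misc

attribute [local instance] HasDerivedCategory.standard

namespace Groth.Agent.DerCompEquiv.TU

variable {A : Type u} [CommRing A] [IsNoetherianRing A] (I : Ideal A)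

/-- Separation in the localisation. -/
lemma mem_iInf_locL_iff (f : A) (N : ModuleCat.{u} A) [Module.Finite A N] (s : res (RingHom.id A) N) :
    (∀ n : ℕ, (locL (RingHom.id A) f N).hom s ∈
      (I ^ n • ⊤ : Submodule A (res (locφ (RingHom.id A) f) (locN (RingHom.id A) f N)))) ↔
      ∃ (K : ℕ) (a : A), a ∈ I ∧ f ^ K • s = a • s := by
  let l := (locL (RingHom.id A) f N).hom
  constructor
  · intro h
    haveI : IsNoetherianRing (locB (RingHom.id A) f) :=
      IsLocalization.isNoetherianRing (Submonoid.powers (RingHom.id A f)) _ inferInstance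
    haveI : Module.Finite (locB (RingHom.id A) f) (locN (RingHom.id A) f N) :=
      Module.Finite.of_isLocalizedModule (Submonoid.powers (RingHom.id A f))
        (LocalizedModule.mkLinearMap (Submonoid.powers (RingHom.id A f)) N)
    obtain ⟨⟨r, hr⟩, hrx⟩ := (Ideal.mem_iInf_smul_pow_eq_bot_iff (I := I.map (locφ (RingHom.id A) f))
      (show locN (RingHom.id A) f N from l s)).1
        ((Submodule.mem_iInf _).2 fun n => (RR.mem_smul_top_restrict (locφ (RingHom.id A) f) I _ n _).2 (h n))
    have hr' : r ∈ I.map (algebraMap A (locB (RingHom.id A) f)) := by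
      simpa [locφ] using hr
    obtain ⟨⟨⟨a, ha⟩, ⟨_, ⟨k, rfl⟩⟩⟩, he⟩ :=
      (IsLocalization.mem_map_algebraMap_iff (Submonoid.powers (RingHom.id A f)) (locB (RingHom.id A) f)).1 hr'
    have h1 : l (f ^ k • s - a • s) = 0 := by
      rw [map_sub, map_smul, map_smul, sub_eq_zero]
      show algebraMap A (locB (RingHom.id A) f) (f ^ k) • (show locN (RingHom.id A) f N from l s) =
        algebraMap A (locB (RingHom.id A) f) a • (show locN (RingHom.id A) f N from l s)
      dsimp only at he hrx
      rw [← he, mul_comm, mul_smul, hrx]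
      rfl
    obtain ⟨m, hm⟩ := locL_ker (RingHom.id A) f N _ h1
    refine ⟨m + k, f ^ m * a, I.mul_mem_left _ ha, ?_⟩
    rwa [pow_add, mul_smul, mul_smul, ← sub_eq_zero, ← smul_sub]
  · rintro ⟨K, a, ha, hK⟩ n
    have hn : ∀ n : ℕ, (f ^ K) ^ n • l s = a ^ n • l s := fun n => by
      induction n with
      | zero => simp
      | succ n ih => rw [pow_succ, pow_succ, mul_smul, mul_smul, ← map_smul l (f ^ K), hK, map_smul, smul_comm,
          ih, smul_comm]
    have hb : ∀ j : ℕ, Function.Bijective fun y : res (locφ (RingHom.id A) f) (locN (RingHom.id A) f N) => f ^ j • y := fun j => by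
      induction j with
      | zero =>
        simp only [pow_zero, one_smul]
        exact Function.bijective_id
      | succ j ih =>
        refine (congrArg Function.Bijective (funext fun y => ?_)).mp (ih.comp (bijective_smul_locN (RingHom.id A) f N))
        show f ^ j • f • y = f ^ (j + 1) • y
        rw [pow_succ, mul_smul]
    obtain ⟨z, hz⟩ := (hb (K * n)).2 (l s)
    dsimp only at hz
    have he : l s = a ^ n • z := (hb (K * n)).1 (show f ^ (K * n) • l s = f ^ (K * n) • a ^ n • z by
      rw [smul_comm, hz, pow_mul, hn])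
    show l s ∈ _
    rw [he]
    exact Submodule.smul_mem_smul (Ideal.pow_mem_pow ha n) Submodule.mem_top

omit [IsNoetherianRing A] in
/-- Elements killed on the open piece. -/
lemma mem_torsion_union_iff {M : Type u} [AddCommGroup M] [Module A M] (fs : List A) (s : M) :
    (∃ J' : Ideal A, J' ≤ RGammaI.idl fs ∧ RGammaI.idl fs ≤ (J' ⊔ I).radical ∧ s ∈ DRing.torsionSub J' M) ↔
      ∀ f ∈ fs, ∃ (K : ℕ) (a : A), a ∈ I ∧ f ^ K • s = a • s := by
  constructor
  · rintro ⟨J', -, hJ, n, hn⟩ f hf
    obtain ⟨m, hm⟩ := hJ (Ideal.subset_span hf)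
    have h1 : (f ^ m) ^ (n + 1) ∈ J' ^ n ⊔ I ^ 1 :=
      Ideal.sup_pow_add_le_pow_sup_pow (Ideal.pow_mem_pow hm (n + 1))
    obtain ⟨j, hj, a, ha, he⟩ := Submodule.mem_sup.1 h1
    rw [pow_one] at ha
    exact ⟨m * (n + 1), a, ha, by rw [pow_mul, ← he, add_smul, hn j hj, zero_add]⟩
  · intro h
    let J' : Ideal A := RGammaI.idl fs ⊓ (LinearMap.toSpanSingleton A M s).ker
    refine ⟨J', inf_le_left, Ideal.span_le.2 fun f hf => ?_, 1, fun a ha => ?_⟩
    · obtain ⟨K, a, ha, hK⟩ := h f hf
      refine ⟨K + 1, ?_⟩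
      rw [show f ^ (K + 1) = (f ^ (K + 1) - f * a) + f * a by ring]
      refine Submodule.add_mem_sup ⟨?_, ?_⟩ (I.mul_mem_left _ ha)
      · exact sub_mem (Ideal.pow_mem_of_mem _ (Ideal.subset_span hf) _ (Nat.succ_pos _))
          (Ideal.mul_mem_right _ _ (Ideal.subset_span hf))
      · show (f ^ (K + 1) - f * a) • s = 0
        rw [sub_smul, pow_succ', mul_smul, mul_smul, hK, sub_self]
    · rw [pow_one] at ha
      exact ha.2

variable [IsAdicComplete I A] [DRing.HasDerivedCompletion I] (M : Type u) [AddCommGroup M] [Module A M]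
  [Module.Finite A M]

set_option maxHeartbeats 1000000 in
/-- The completed torsion object in degree zero. -/
theorem range_H0 (J : Ideal A) [DRing.HasRgammaI J] :
    Function.Injective (H₀ (cmap I ((DRing.RgammaIε J).app (Dual.inD A M)))) ∧
      Set.range (H₀ (cmap I ((DRing.RgammaIε J).app (Dual.inD A M)))) =
        (fun s : M => H₀ (DRing.toDerivedCompletion I (Dual.inD A M))
          (((DerivedCategory.singleFunctorCompHomologyFunctorIso (ModuleCat.{u} A) 0).inv.app (ModuleCat.of A M)).hom s)) ''
          {s : M | ∃ J' : Ideal A, J' ≤ J ∧ J ≤ (J' ⊔ I).radical ∧ s ∈ DRing.torsionSub J' M} := by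
  classical
  obtain ⟨t, ht⟩ : J.FG := IsNoetherian.noetherian J
  have hfs : RGammaI.idl t.toList = J := by
    rw [← ht]
    exact congrArg Ideal.span (by ext; simp)
  have hu : Univ (RGammaI.idl t.toList) ((DRing.RgammaIε J).app (Dual.inD A M)) := by
    rw [hfs]
    exact univ_ε J (Dual.inD A M)
  let N : ModuleCat.{u} A := ModuleCat.of A M
  haveI : Module.Finite A N := inferInstanceAs (Module.Finite A M)
  obtain ⟨-, h1, h2⟩ := good I t.toList A (RingHom.id A) N _ ((DRing.RgammaIε J).app (Dual.inD A M)) hu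
  refine ⟨h1, ?_⟩
  let X := Dual.inD A M
  let u₀ := (RR.h0 N).toLinearEquiv
  have hfin : ∀ j : ℤ, Module.Finite A (Dual.HD A X j) := fun j => by
    rcases eq_or_ne j 0 with rfl | hj
    · exact Module.Finite.equiv u₀.symm
    · haveI : Subsingleton (Dual.HD A X j) := ModuleCat.subsingleton_of_isZero (by
        rcases lt_or_gt_of_ne hj with h | h
        · exact DerivedCategory.isZero_of_isGE _ 0 j h
        · exact DerivedCategory.isZero_of_isLE _ 0 j h)
      infer_instance
  obtain ⟨e, he⟩ := PushAmp.ComplFinite.exists_homology_equiv I X hfin 0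
  haveI := hfin 0
  haveI : IsAdicComplete I (Dual.HD A X 0) := AdicLib.isAdicComplete_of_finite I _
  have hη : Function.Bijective (H₀ (DRing.toDerivedCompletion I X)) := by
    refine (congrArg Function.Bijective (funext fun x => ?_)).mp
      (e.symm.bijective.comp (AdicCompletion.of_bijective I (Dual.HD A X 0)))
    exact (e.symm_apply_eq).2 (he x).symm
  have key : ∀ (f : A) (s : M),
      H₀ (cmap I ((DerivedCategory.singleFunctor (ModuleCat.{u} A) 0).map (locL (RingHom.id A) f N)))
        (H₀ (DRing.toDerivedCompletion I X) (u₀.symm s)) = 0 ↔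
          ∀ n : ℕ, (locL (RingHom.id A) f N).hom s ∈
            (I ^ n • ⊤ : Submodule A (res (locφ (RingHom.id A) f) (locN (RingHom.id A) f N))) := by
    intro f s
    haveI : IsNoetherianRing (locB (RingHom.id A) f) :=
      IsLocalization.isNoetherianRing (Submonoid.powers (RingHom.id A f)) _ inferInstance
    haveI : Module.Finite (locB (RingHom.id A) f) (locN (RingHom.id A) f N) :=
      Module.Finite.of_isLocalizedModule (Submonoid.powers (RingHom.id A f))
        (LocalizedModule.mkLinearMap (Submonoid.powers (RingHom.id A f)) N)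
    let l := (DerivedCategory.singleFunctor (ModuleCat.{u} A) 0).map (locL (RingHom.id A) f N)
    obtain ⟨W, c, hc, -, hker⟩ := RR.exists_finite_refl (locφ (RingHom.id A) f) I (locN (RingHom.id A) f N)
    obtain ⟨eW, heW⟩ := exists_refl_iso hc
    let ηL := DRing.toDerivedCompletion I (Dual.inD A (res (locφ (RingHom.id A) f) (locN (RingHom.id A) f N)))
    have hnat : H₀ (cmap I l) (H₀ (DRing.toDerivedCompletion I X) (u₀.symm s)) = H₀ ηL (H₀ l (u₀.symm s)) :=
      (H₀_comp _ _ _).symm.trans ((congrArg (fun g => H₀ g (u₀.symm s)) (cnat I l).symm).trans (H₀_comp _ _ _))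
    have hW : ∀ y, H₀ eW.hom (H₀ ηL y) = H₀ c y := fun y => by rw [← H₀_comp, heW]
    refine (Eq.congr_left hnat).trans ?_
    rw [← (H₀_iso eW).1.eq_iff, map_zero, hW]
    refine Eq.congr_left (congrArg (H₀ c) ?_) |>.trans (hker _)
    exact congrArg (fun t : N ⟶ (DerivedCategory.homologyFunctor (ModuleCat.{u} A) 0).obj
      (Dual.inD A (res (locφ (RingHom.id A) f) (locN (RingHom.id A) f N))) => t.hom s)
      ((DerivedCategory.singleFunctorCompHomologyFunctorIso (ModuleCat.{u} A) 0).inv.naturality
        (locL (RingHom.id A) f N)).symm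
  ext ξ
  obtain ⟨x, rfl⟩ := hη.2 ξ
  obtain ⟨s, rfl⟩ := u₀.symm.surjective x
  refine (h2 _).trans ?_
  have hs : H₀ (DRing.toDerivedCompletion I X) (u₀.symm s) ∈
      (fun s : M => H₀ (DRing.toDerivedCompletion I X) (u₀.symm s)) ''
        {s : M | ∃ J' : Ideal A, J' ≤ J ∧ J ≤ (J' ⊔ I).radical ∧ s ∈ DRing.torsionSub J' M} ↔
      ∀ f ∈ t.toList, ∃ (K : ℕ) (a : A), a ∈ I ∧ f ^ K • s = a • s := by
    refine ((hη.1.comp u₀.symm.injective).mem_set_image).trans ?_
    rw [← mem_torsion_union_iff I t.toList s, hfs]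
    rfl
  refine Iff.trans ?_ hs.symm
  exact forall₂_congr fun f _ => (key f s).trans (mem_iInf_locL_iff I f N s)

end Groth.Agent.DerCompEquiv.TU
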