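import Groth.Agent.DerCompEquiv.TorsUniv
import Mathlib.RingTheory.Localization.Finiteness

/-!
# Localisation of modules over algebras, as torsion triangles
-/

set_option backward.isDefEq.respectTransparency false
set_option linter.style.haveILetI false

universe u

open CategoryTheory CategoryTheory.Category CategoryTheory.Limits CategoryTheory.Pretriangulated

attribute [local instance] HasDerivedCategory.standard

namespace Groth.Agent.DerCompEquiv.TU

variable {A : Type u} [CommRing A] {B : Type u} [CommRing B] (φ : A →+* B) (f : A)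

/-- The localised ring. -/
abbrev locB : Type u := Localization.Away (φ f)

/-- The localised ring map. -/
noncomputable abbrev locφ : A →+* locB φ f := (algebraMap B (locB φ f)).comp φ

variable (N : ModuleCat.{u} B)

/-- The localised module. -/
noncomputable abbrev locN : ModuleCat.{u} (locB φ f) :=
  ModuleCat.of (locB φ f) (LocalizedModule (Submonoid.powers (φ f)) N)

/-- The restriction of a module. -/
noncomputable abbrev res : ModuleCat.{u} A := (ModuleCat.restrictScalars.{u} φ).obj N

lemma locφ_smul_mk (a : A) (m : N) (t : Submonoid.powers (φ f)) :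
    (locφ φ f a) • (LocalizedModule.mk m t : LocalizedModule (Submonoid.powers (φ f)) N) =
      LocalizedModule.mk (φ a • m) t := by
  show algebraMap B (Localization (Submonoid.powers (φ f))) (φ a) • LocalizedModule.mk m t = _
  rw [algebraMap_smul, LocalizedModule.smul'_mk]

/-- The localisation map over `A`. -/
noncomputable def locL : res φ N ⟶ res (locφ φ f) (locN φ f N) :=
  ModuleCat.ofHom (X := res φ N) (Y := res (locφ φ f) (locN φ f N))
    { toFun := fun m => (LocalizedModule.mk (show N from m) 1 : LocalizedModule (Submonoid.powers (φ f)) N)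
      map_add' := fun x y => (LocalizedModule.mkLinearMap (Submonoid.powers (φ f)) N).map_add x y
      map_smul' := fun a x => (locφ_smul_mk φ f N a x 1).symm }

/-- Multiplication by `f` is bijective on the localisation. -/
lemma bijective_smul_locN : Function.Bijective fun x : res (locφ φ f) (locN φ f N) => f • x := by
  have hu : IsUnit (locφ φ f f) := IsLocalization.Away.algebraMap_isUnit (φ f)
  obtain ⟨v, hv⟩ := hu
  refine (congrArg Function.Bijective (funext fun x => ?_)).mp
    (MulAction.bijective (α := (locB φ f)ˣ) (β := locN φ f N) v)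
  show (v : locB φ f) • (show locN φ f N from x) = _
  rw [hv]
  rfl

lemma locL_ker (x : res φ N) (hx : (locL φ f N).hom x = 0) : ∃ n : ℕ, f ^ n • x = 0 := by
  obtain ⟨⟨_, ⟨n, rfl⟩⟩, hn⟩ := (LocalizedModule.mk_eq (S := Submonoid.powers (φ f))).1
    (hx.trans (LocalizedModule.zero_mk (1 : Submonoid.powers (φ f))).symm)
  refine ⟨n, ?_⟩
  show φ (f ^ n) • (show N from x) = 0
  rw [map_pow]
  simp only [Submonoid.smul_def, OneMemClass.coe_one, one_smul, smul_zero] at hn
  exact hn

lemma locL_coker (y : res (locφ φ f) (locN φ f N)) : ∃ (n : ℕ) (z : res φ N), (locL φ f N).hom z = f ^ n • y := by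
  induction y using LocalizedModule.induction_on with
  | h m t =>
    obtain ⟨_, ⟨n, rfl⟩⟩ := t
    refine ⟨n, m, ?_⟩
    show LocalizedModule.mk m 1 = locφ φ f (f ^ n) • LocalizedModule.mk m
      (⟨φ f ^ n, pow_mem (Submonoid.mem_powers _) n⟩ : Submonoid.powers (φ f))
    rw [locφ_smul_mk, map_pow]
    exact (LocalizedModule.mk_cancel (S := Submonoid.powers (φ f))
      (⟨φ f ^ n, pow_mem (Submonoid.mem_powers _) n⟩ : Submonoid.powers (φ f)) m).symm

section Torsion

variable {φ f N}

lemma torsion_span_of {M : Type u} [AddCommGroup M] [Module A M] (h : ∀ m : M, ∃ n : ℕ, f ^ n • m = 0) :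
    LocCoh.IsPowerTorsion (Ideal.span {f}) M := fun m => by
  obtain ⟨n, hn⟩ := h m
  refine ⟨n, fun a ha => ?_⟩
  rw [Ideal.span_singleton_pow, Ideal.mem_span_singleton'] at ha
  obtain ⟨c, rfl⟩ := ha
  rw [mul_smul, hn, smul_zero]

/-- Objects where `f` is invertible receive no maps from torsion objects. -/
lemma subsingleton_tor_to_unit [IsNoetherianRing A] {J : Ideal A} (hf : f ∈ J) (M : ModuleCat.{u} A)
    (hM : Function.Bijective fun x : M => f • x) {T : Dual.D A} (hT : Tor J T) (k : ℤ) :
    Subsingleton (T ⟶ (Dual.inD A M)⟦k⟧) := by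
  haveI := RGammaI.hasRgammaI J
  let K := (CochainComplex.singleFunctor (ModuleCat.{u} A) 0).obj M
  have hK : ∀ n : ℤ, Function.Bijective fun x : K.X n => f • x := fun n => by
    by_cases hn : n = 0
    · subst hn
      let e := (HomologicalComplex.singleObjXSelf (ComplexShape.up ℤ) 0 M).toLinearEquiv
      refine (congrArg Function.Bijective (funext fun x => ?_)).mp (e.symm.bijective.comp (hM.comp e.bijective))
      show e.symm (f • e x) = f • x
      rw [map_smul, LinearEquiv.symm_apply_apply]
    · haveI : Subsingleton (K.X n) :=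
        ModuleCat.subsingleton_of_isZero (HomologicalComplex.isZero_single_obj_X _ _ _ _ hn)
      exact ⟨fun a b _ => Subsingleton.elim a b, fun b => ⟨0, Subsingleton.elim _ _⟩⟩
  have hz := Groth.Agent.S8933.result A J (IsNoetherian.noetherian J) K f hf hK
  have h0 : IsZero ((DRing.RgammaI J).obj (Dual.inD A M)) :=
    hz.of_iso ((DRing.RgammaI J).mapIso ((DerivedCategory.singleFunctorIsoCompQ (ModuleCat.{u} A) 0).app M))
  have hb := (univ_ε J (Dual.inD A M)).shift_bij hT k
  refine ⟨fun x y => ?_⟩
  obtain ⟨x', rfl⟩ := hb.2 x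
  obtain ⟨y', rfl⟩ := hb.2 y
  rw [((shiftFunctor (Dual.D A) k).map_isZero h0).eq_of_tgt x' y']

end Torsion

set_option maxHeartbeats 800000 in
/-- The fibre of localisation is the universal torsion object. -/
theorem univ_fibre [IsNoetherianRing A] {D₁ : Dual.D A} {p : D₁ ⟶ Dual.inD A (res φ N)}
    {δ : Dual.inD A (res (locφ φ f) (locN φ f N)) ⟶ D₁⟦(1 : ℤ)⟧}
    (hT : Triangle.mk p ((DerivedCategory.singleFunctor (ModuleCat.{u} A) 0).map (locL φ f N)) δ ∈ distTriang _) :
    Univ (Ideal.span {f}) p := by
  let l := (DerivedCategory.singleFunctor (ModuleCat.{u} A) 0).map (locL φ f N)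
  let H := DerivedCategory.homologyFunctor (ModuleCat.{u} A)
  let ν := DerivedCategory.singleFunctorCompHomologyFunctorIso (ModuleCat.{u} A) 0
  let eN := (RR.h0 (res φ N)).toLinearEquiv
  let eL := (RR.h0 (res (locφ φ f) (locN φ f N))).toLinearEquiv
  have hν : ∀ x, eL (((H 0).map l).hom x) = (locL φ f N).hom (eN x) := fun x =>
    congrArg (fun t : (H 0).obj (Dual.inD A (res φ N)) ⟶ res (locφ φ f) (locN φ f N) => t.hom x)
      (ν.hom.naturality (locL φ f N))
  have hsub : ∀ (M : ModuleCat.{u} A) (i : ℤ), i ≠ 0 → Subsingleton ((H i).obj (Dual.inD A M)) := fun M i hi => by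
    refine ModuleCat.subsingleton_of_isZero ?_
    rcases lt_or_gt_of_ne hi with h | h
    · exact DerivedCategory.isZero_of_isGE _ 0 i h
    · exact DerivedCategory.isZero_of_isLE _ 0 i h
  have hker : ∀ (i : ℤ) (x : (H i).obj (Dual.inD A (res φ N))), ((H i).map l).hom x = 0 → ∃ n : ℕ, f ^ n • x = 0 := by
    intro i x hx
    rcases eq_or_ne i 0 with rfl | hi
    · obtain ⟨n, hn⟩ := locL_ker φ f N (eN x) ((hν x).symm.trans ((congrArg eL hx).trans (map_zero eL)))
      exact ⟨n, eN.injective ((map_smul eN (f ^ n) x).trans (hn.trans (map_zero eN).symm))⟩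
    · exact ⟨0, @Subsingleton.elim _ (hsub _ i hi) _ _⟩
  have hcok : ∀ (i : ℤ) (y : (H i).obj (Dual.inD A (res (locφ φ f) (locN φ f N)))),
      ∃ (n : ℕ) (z : _), ((H i).map l).hom z = f ^ n • y := by
    intro i y
    rcases eq_or_ne i 0 with rfl | hi
    · obtain ⟨n, z, hz⟩ := locL_coker φ f N (eL y)
      exact ⟨n, eN.symm z, eL.injective ((hν _).trans (((congrArg (locL φ f N).hom (eN.apply_symm_apply z)).trans
        hz).trans (map_smul eL (f ^ n) y).symm))⟩
    · haveI := hsub (res (locφ φ f) (locN φ f N)) i hi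
      exact ⟨0, 0, Subsingleton.elim (α := (H i).obj (Dual.inD A (res (locφ φ f) (locN φ f N)))) _ _⟩
  refine ⟨fun i => torsion_span_of fun x => ?_, fun T hTor => ?_⟩
  · have e2 := DerivedCategory.HomologySequence.exact₂ _ hT i
    obtain ⟨n, hn⟩ := hker i (((H i).map p).hom x) (by
      have := congrArg (fun t : (H i).obj D₁ ⟶ (H i).obj (Dual.inD A (res (locφ φ f) (locN φ f N))) => t.hom x)
        ((DerivedCategory.homologyFunctor (ModuleCat.{u} A) i).map_comp p l).symm
      simpa [show p ≫ l = 0 from comp_distTriang_mor_zero₁₂ _ hT] using this)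
    have e1 := DerivedCategory.HomologySequence.exact₁ _ hT (i - 1) i (by omega)
    obtain ⟨y, hy⟩ := (ShortComplex.moduleCat_exact_iff _).1 e1 (f ^ n • x) (by
      show ((H i).map p).hom (f ^ n • x) = 0
      rw [map_smul, hn])
    obtain ⟨m, z, hz⟩ := hcok (i - 1) y
    refine ⟨m + n, ?_⟩
    rw [pow_add, mul_smul, ← hy]
    refine (map_smul (DerivedCategory.HomologySequence.δ (Triangle.mk p l δ) (i - 1) i (by omega)).hom (f ^ m) y).symm.trans ?_
    refine (congrArg _ hz.symm).trans ?_
    exact congrArg (fun t : (H (i - 1)).obj (Dual.inD A (res φ N)) ⟶ (H i).obj D₁ => t.hom z)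
      (DerivedCategory.HomologySequence.comp_δ _ hT (i - 1) i (by omega))
  · refine bijective_post_of_triangle hT ?_ ?_
    · have := subsingleton_tor_to_unit (Ideal.mem_span_singleton_self f) _ (bijective_smul_locN φ f N) hTor 0
      exact @Equiv.subsingleton _ _ ((shiftFunctorZero (Dual.D A) ℤ).app _).homToEquiv.symm this
    · exact subsingleton_tor_to_unit (Ideal.mem_span_singleton_self f) _ (bijective_smul_locN φ f N) hTor (-1)

end Groth.Agent.DerCompEquiv.TU
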