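import Groth.Agent.RGammaI.Main
import Groth.Agent.RGammaI.DualHull
import Groth.Agent.RGammaI.KoszulInf
import Groth.Agent.S1816
import Groth.Agent.S8933
import Groth.Agent.DerCompEquiv.ReflRestrict

/-!
# Torsion objects over a module and localisation triangles
-/

set_option backward.isDefEq.respectTransparency false
set_option linter.style.haveILetI false

universe u

open CategoryTheory CategoryTheory.Category CategoryTheory.Limits CategoryTheory.Pretriangulated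

attribute [local instance] HasDerivedCategory.standard

namespace Groth.Agent.DerCompEquiv.TU

variable {A : Type u} [CommRing A]

/-- All cohomology is power torsion. -/
def Tor (J : Ideal A) (T : Dual.D A) : Prop := ∀ i : ℤ, LocCoh.IsPowerTorsion J (Dual.HD A T i)

lemma isPowerTorsion_mono {J J' : Ideal A} (h : J ≤ J') {M : Type u} [AddCommGroup M] [Module A M]
    (hM : LocCoh.IsPowerTorsion J' M) : LocCoh.IsPowerTorsion J M := fun m =>
  (hM m).imp fun _ hn a ha => hn a (Ideal.pow_right_mono h _ ha)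

lemma Tor.mono {J J' : Ideal A} (h : J ≤ J') {T : Dual.D A} (hT : Tor J' T) : Tor J T := fun i =>
  isPowerTorsion_mono h (hT i)

lemma isPowerTorsion_of_equiv' {J : Ideal A} {M N : Type u} [AddCommGroup M] [Module A M] [AddCommGroup N]
    [Module A N] (e : M ≃ₗ[A] N) (h : LocCoh.IsPowerTorsion J M) : LocCoh.IsPowerTorsion J N := fun y =>
  (h (e.symm y)).imp fun n hn a ha => e.symm.injective (by rw [map_smul, map_zero]; exact hn a ha)

lemma Tor.of_iso {J : Ideal A} {T T' : Dual.D A} (e : T ≅ T') (hT : Tor J T) : Tor J T' := fun i =>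
  isPowerTorsion_of_equiv' ((DerivedCategory.homologyFunctor (ModuleCat.{u} A) i).mapIso e).toLinearEquiv (hT i)

lemma Tor.shift {J : Ideal A} {T : Dual.D A} (hT : Tor J T) (n : ℤ) : Tor J (T⟦n⟧) := fun i =>
  isPowerTorsion_of_equiv'
    (((DerivedCategory.homologyFunctor (ModuleCat.{u} A) 0).shiftIso n i (n + i) rfl).app T).toLinearEquiv.symm
    (hT (n + i))

lemma isPowerTorsion_of_exact {J : Ideal A} (hJ : J.FG) {M₁ M₂ M₃ : Type u} [AddCommGroup M₁] [Module A M₁]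
    [AddCommGroup M₂] [Module A M₂] [AddCommGroup M₃] [Module A M₃] (u : M₁ →ₗ[A] M₂) (v : M₂ →ₗ[A] M₃)
    (h : ∀ y, v y = 0 → ∃ x, u x = y) (h₁ : LocCoh.IsPowerTorsion J M₁) (h₃ : LocCoh.IsPowerTorsion J M₃) :
    LocCoh.IsPowerTorsion J M₂ := by
  classical
  intro m
  obtain ⟨n, hn⟩ := h₃ (v m)
  have hfg : (J ^ n).FG := Ideal.FG.pow hJ
  obtain ⟨s, hs⟩ := hfg
  have hy : ∀ a ∈ J ^ n, ∃ x, u x = a • m := fun a ha => h _ (by rw [map_smul]; exact hn a ha)
  choose x hx using hy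
  choose k hk using fun a : ↥(J ^ n) => h₁ (x a.1 a.2)
  let K := s.attach.sup fun a => k ⟨a.1, hs ▸ Ideal.subset_span a.2⟩
  refine ⟨K + n, fun c hc => ?_⟩
  rw [pow_add] at hc
  refine Submodule.mul_induction_on hc (fun b hb a ha => ?_) fun y z hy hz => by rw [add_smul, hy, hz, add_zero]
  revert b
  rw [← hs] at ha
  induction ha using Submodule.span_induction with
  | mem a ha =>
    intro b hb
    have ha' : a ∈ J ^ n := hs ▸ Ideal.subset_span ha
    have hle : k ⟨a, ha'⟩ ≤ K :=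
      Finset.le_sup (f := fun a : s => k ⟨a.1, hs ▸ Ideal.subset_span a.2⟩) (Finset.mem_attach s ⟨a, ha⟩)
    rw [mul_smul, ← hx a ha', ← map_smul, hk ⟨a, ha'⟩ b (Ideal.pow_le_pow_right hle hb), map_zero]
  | zero => intro b _; rw [mul_zero, zero_smul]
  | add a a' _ _ h h' => intro b hb; rw [mul_add, add_smul, h b hb, h' b hb, add_zero]
  | smul r a _ h => intro b hb; rw [smul_eq_mul, mul_left_comm, mul_smul, h b hb, smul_zero]

/-- The middle of a triangle of torsion objects is torsion. -/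
lemma Tor.obj₃ {J : Ideal A} (hJ : J.FG) {T : Triangle (Dual.D A)} (hT : T ∈ distTriang _) (h₁ : Tor J T.obj₁)
    (h₂ : Tor J T.obj₂) : Tor J T.obj₃ := fun i => by
  have he := DerivedCategory.HomologySequence.exact₃ _ hT i (i + 1) rfl
  refine isPowerTorsion_of_exact hJ ((DerivedCategory.homologyFunctor (ModuleCat.{u} A) i).map T.mor₂).hom
    (DerivedCategory.HomologySequence.δ T i (i + 1) rfl).hom (fun y hy => ?_) (h₂ i) (h₁ (i + 1))
  exact (ShortComplex.moduleCat_exact_iff _).1 he y hy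

/-- A universal map from a torsion object. -/
structure Univ (J : Ideal A) {Y X : Dual.D A} (p : Y ⟶ X) : Prop where
  tor : Tor J Y
  bij : ∀ T, Tor J T → Function.Bijective fun x : T ⟶ Y => x ≫ p

lemma Univ.cancel {J : Ideal A} {Y X : Dual.D A} {p : Y ⟶ X} (h : Univ J p) {T : Dual.D A} (hT : Tor J T)
    {x x' : T ⟶ Y} (e : x ≫ p = x' ≫ p) : x = x' := (h.bij T hT).1 e

lemma univ_ε (J : Ideal A) [DRing.HasRgammaI J] [IsNoetherianRing A] (X : Dual.D A) :
    Univ J (show (DRing.RgammaI J).obj X ⟶ X from (DRing.RgammaIε J).app X) :=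
  ⟨RGammaI.isPowerTorsion_HD J X, fun _ hT => RGammaI.bijective_comp_ε J hT X⟩

lemma Univ.exists_iso {J : Ideal A} {Y Y' X : Dual.D A} {p : Y ⟶ X} {p' : Y' ⟶ X} (h : Univ J p) (h' : Univ J p') :
    ∃ e : Y ≅ Y', e.hom ≫ p' = p := by
  obtain ⟨a, ha⟩ := (h'.bij Y h.tor).2 p
  obtain ⟨b, hb⟩ := (h.bij Y' h'.tor).2 p'
  dsimp only at ha hb
  refine ⟨⟨a, b, h.cancel h.tor ?_, h'.cancel h'.tor ?_⟩, ha⟩
  · rw [assoc, hb, ha, id_comp]
  · rw [assoc, ha, hb, id_comp]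

lemma Univ.of_isIso {J : Ideal A} {Y X : Dual.D A} (p : Y ⟶ X) [IsIso p] (h : Tor J Y) : Univ J p :=
  ⟨h, fun _ _ => (asIso p).homToEquiv.bijective⟩

lemma tor_bot (T : Dual.D A) : Tor (⊥ : Ideal A) T := fun _ m => ⟨1, fun a ha => by
  rw [pow_one, Ideal.mem_bot] at ha
  rw [ha, zero_smul]⟩

lemma Univ.shift_bij {J : Ideal A} {Y X : Dual.D A} {p : Y ⟶ X} (h : Univ J p) {T : Dual.D A} (hT : Tor J T)
    (n : ℤ) : Function.Bijective fun x : T ⟶ Y⟦n⟧ => x ≫ p⟦n⟧' := by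
  let S := shiftFunctor (Dual.D A) (-n)
  let e := shiftFunctorCompIsoId (Dual.D A) n (-n) (by omega)
  have hb := h.bij _ (hT.shift (-n))
  have key : ∀ x : T ⟶ Y⟦n⟧, (S.map x ≫ e.hom.app Y) ≫ p = S.map (x ≫ p⟦n⟧') ≫ e.hom.app X := fun x => by
    rw [S.map_comp, assoc, assoc]
    exact congrArg (S.map x ≫ ·) (e.hom.naturality p).symm
  constructor
  · intro x x' hxx
    refine S.map_injective ((cancel_mono (e.hom.app Y)).1 (hb.1 ?_))
    show (S.map x ≫ e.hom.app Y) ≫ p = (S.map x' ≫ e.hom.app Y) ≫ p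
    rw [key, key]
    exact congrArg (fun t => S.map t ≫ e.hom.app X) hxx
  · intro z
    obtain ⟨w, hw⟩ := hb.2 (S.map z ≫ e.hom.app X)
    dsimp only at hw
    obtain ⟨x, hx⟩ := S.map_surjective (w ≫ e.inv.app Y)
    refine ⟨x, S.map_injective ((cancel_mono (e.hom.app X)).1 ?_)⟩
    rw [← key, hx, assoc w (e.inv.app Y) (e.hom.app Y), Iso.inv_hom_id_app]
    simpa using hw

/-- Third maps of morphisms of triangles are universal. -/
theorem Univ.third {J : Ideal A} (hJ : J.FG) {T T' : Triangle (Dual.D A)} (hT : T ∈ distTriang _)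
    (hT' : T' ∈ distTriang _) (f : T ⟶ T') (h₁ : Univ J f.hom₁) (h₂ : Univ J f.hom₂) : Univ J f.hom₃ := by
  refine ⟨Tor.obj₃ hJ hT h₁.tor h₂.tor, fun S hS => ⟨fun x x' h => sub_eq_zero.1 ?_, fun z => ?_⟩⟩
  · have h0 : (x - x') ≫ f.hom₃ = 0 := by rw [Preadditive.sub_comp, sub_eq_zero]; exact h
    obtain ⟨y, hy⟩ := Triangle.coyoneda_exact₃ _ hT (x - x') ((h₁.shift_bij hS 1).1 (by
      show ((x - x') ≫ T.mor₃) ≫ f.hom₁⟦(1 : ℤ)⟧' = 0 ≫ _
      rw [assoc, f.comm₃, ← assoc, h0, zero_comp, zero_comp]))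
    obtain ⟨w, hw⟩ := Triangle.coyoneda_exact₂ _ hT' (y ≫ f.hom₂) (by
      rw [assoc, ← f.comm₂, ← assoc, ← hy, h0])
    obtain ⟨w', hw'⟩ := (h₁.bij S hS).2 w
    dsimp only at hw'
    have : y = w' ≫ T.mor₁ := h₂.cancel hS (by rw [hw, ← hw', assoc, assoc, f.comm₁])
    rw [hy, this, assoc, comp_distTriang_mor_zero₁₂ _ hT, comp_zero]
  · obtain ⟨w, hw⟩ := (h₁.shift_bij hS 1).2 (z ≫ T'.mor₃)
    dsimp only at hw
    have hw0 : w ≫ T.mor₁⟦(1 : ℤ)⟧' = 0 := (h₂.shift_bij hS 1).1 (by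
      show (w ≫ T.mor₁⟦(1 : ℤ)⟧') ≫ f.hom₂⟦(1 : ℤ)⟧' = 0 ≫ _
      rw [assoc, ← Functor.map_comp, f.comm₁, Functor.map_comp, ← assoc, hw, assoc,
        comp_distTriang_mor_zero₃₁ _ hT', comp_zero, zero_comp])
    obtain ⟨x₀, hx₀⟩ := Triangle.coyoneda_exact₁ _ hT w hw0
    obtain ⟨y, hy⟩ := Triangle.coyoneda_exact₃ _ hT' (z - x₀ ≫ f.hom₃) (by
      rw [Preadditive.sub_comp, assoc, ← f.comm₃, ← assoc, ← hx₀, hw, sub_self])
    obtain ⟨y', hy'⟩ := (h₂.bij S hS).2 y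
    dsimp only at hy'
    refine ⟨x₀ + y' ≫ T.mor₂, ?_⟩
    show (x₀ + y' ≫ T.mor₂) ≫ f.hom₃ = z
    rw [Preadditive.add_comp, assoc y', f.comm₂, ← assoc, hy', ← hy]
    abel

end Groth.Agent.DerCompEquiv.TU
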